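import Mathlib
import Cfsg.Agent.TwoFusion.SLTwoFacts
import Cfsg.Agent.ClassicalGeometry.PSL2Basic
import Cfsg.Agent.ClassificationK.GF2Basics
import Cfsg.Agent.BpHecke.Norm
import Cfsg.Agent.H163.E6.Two
import Cfsg.Agent.S0813
import Cfsg.Agent.Lib.NormalAbelian

/-!
# S5749, S5750: facts on `PSL₂(K)` (helper9)

* `psl_simple`, `psl_perfect`, `psl_noncomm`, `psl_center`;
* `psl_no_two` : no non-trivial homomorphisms `PSL₂(K) → GL₂(E)`, characteristic not 2;
* `four_le_of_genFitting` : `F*(X) ≅ PSL₂(K)` implies `|K| ≥ 4`;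
* `card_mulAut_psl`.
-/

set_option autoImplicit false

namespace Cfsg.Agent.R2.H9.E6

open Cfsg Matrix

universe u v

variable {K : Type v} [Field K]

/-- the projection `SL₂(K) → PSL₂(K)` -/
noncomputable def pq : SpecialLinearGroup (Fin 2) K →* ProjectiveSpecialLinearGroup (Fin 2) K :=
  QuotientGroup.mk' _

theorem pq_surjective : Function.Surjective (pq (K := K)) := QuotientGroup.mk'_surjective _

theorem pq_eq_one {g : SpecialLinearGroup (Fin 2) K} : pq g = 1 ↔ g = 1 ∨ g = -1 := by
  rw [← ClassicalGeometry.PSL2Basic.mem_center_SL2_iff]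
  exact QuotientGroup.eq_one_iff g

theorem psl_simple [Fintype K] (h : 4 ≤ Fintype.card K) : IsSimpleGroup (ProjectiveSpecialLinearGroup (Fin 2) K) :=
  TwoFusion.SLTwoFacts.isSimpleGroup_psl (by omega)

theorem psl_perfect [Fintype K] (h : 4 ≤ Fintype.card K) :
    commutator (ProjectiveSpecialLinearGroup (Fin 2) K) = ⊤ := by
  have h1 := TwoFusion.SLTwoFacts.commutator_eq_top (F := K) (by omega)
  have h2 : (commutator (SpecialLinearGroup (Fin 2) K)).map pq = commutator (ProjectiveSpecialLinearGroup (Fin 2) K) := by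
    have hr : (⊤ : Subgroup (SpecialLinearGroup (Fin 2) K)).map pq = ⊤ := by
      rw [← MonoidHom.range_eq_map]
      exact MonoidHom.range_eq_top.2 pq_surjective
    rw [commutator_def, commutator_def, Subgroup.map_commutator, hr]
  rw [← h2, h1, ← MonoidHom.range_eq_map]
  exact MonoidHom.range_eq_top.2 pq_surjective

/-- upper and lower unipotent elements -/
def up (t : K) : SpecialLinearGroup (Fin 2) K := ⟨!![1, t; 0, 1], by simp [Matrix.det_fin_two]⟩
def lo (t : K) : SpecialLinearGroup (Fin 2) K := ⟨!![1, 0; t, 1], by simp [Matrix.det_fin_two]⟩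

/-- the centre of `PSL₂(K)` is trivial -/
theorem psl_center : Subgroup.center (ProjectiveSpecialLinearGroup (Fin 2) K) = ⊥ := by
  rw [eq_bot_iff]
  intro z hz
  obtain ⟨g, rfl⟩ := pq_surjective z
  rw [Subgroup.mem_center_iff] at hz
  rw [Subgroup.mem_bot, pq_eq_one, ← ClassicalGeometry.PSL2Basic.mem_center_SL2_iff, Matrix.SpecialLinearGroup.mem_center_iff]
  have key : ∀ h : SpecialLinearGroup (Fin 2) K, (h : Matrix (Fin 2) (Fin 2) K).trace = 2 →
      (h : Matrix (Fin 2) (Fin 2) K) * g = g * h := by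
    intro h hh
    have h1 := hz (pq h)
    rw [← map_mul, ← map_mul] at h1
    have h2 : pq ((g * h)⁻¹ * (h * g)) = 1 := by rw [map_mul, map_inv, h1, inv_mul_cancel]
    rw [pq_eq_one] at h2
    rcases h2 with h2 | h2
    · rw [inv_mul_eq_one] at h2
      exact (congrArg (fun x : SpecialLinearGroup (Fin 2) K => (x : Matrix (Fin 2) (Fin 2) K)) h2).symm
    · have h3 : h * g = g * h * (-1) := by rw [← h2, mul_inv_cancel_left]
      have h4 : (g⁻¹ * h * g : SpecialLinearGroup (Fin 2) K) = h * (-1) := by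
        rw [mul_assoc, h3, mul_assoc g, inv_mul_cancel_left]
      have h5 : ((g⁻¹ * h * g : SpecialLinearGroup (Fin 2) K) : Matrix (Fin 2) (Fin 2) K).trace = 2 := by
        rw [Matrix.SpecialLinearGroup.coe_mul, Matrix.trace_mul_comm, ← Matrix.SpecialLinearGroup.coe_mul, mul_inv_cancel_left, hh]
      rw [h4] at h5
      have h6 : (h * (-1) : SpecialLinearGroup (Fin 2) K) = -h := by simp
      rw [h6, Matrix.SpecialLinearGroup.coe_neg, Matrix.trace_neg, hh] at h5
      have h7 : (-1 : SpecialLinearGroup (Fin 2) K) = 1 := by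
        apply Subtype.ext
        rw [Matrix.SpecialLinearGroup.coe_neg, Matrix.SpecialLinearGroup.coe_one]
        by_cases h20 : (2 : K) = 0
        · have h8 : (-1 : K) = 1 := by linear_combination -h20
          ext i j
          fin_cases i <;> fin_cases j <;> simp [h8]
        · exfalso
          have h9 : (2 : K) * 2 = 0 := by linear_combination -h5
          rcases mul_eq_zero.1 h9 with h | h <;> exact h20 h
      rw [h7, mul_one] at h3
      exact congrArg (fun x : SpecialLinearGroup (Fin 2) K => (x : Matrix (Fin 2) (Fin 2) K)) h3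
  have hu := key (up 1) (by simp [up, Matrix.trace_fin_two]; norm_num)
  have hl := key (lo 1) (by simp [lo, Matrix.trace_fin_two]; norm_num)
  obtain ⟨a, ha⟩ : ∃ a, a = (g : Matrix (Fin 2) (Fin 2) K) 0 0 := ⟨_, rfl⟩
  obtain ⟨b, hb⟩ : ∃ a, a = (g : Matrix (Fin 2) (Fin 2) K) 0 1 := ⟨_, rfl⟩
  obtain ⟨c, hc⟩ : ∃ a, a = (g : Matrix (Fin 2) (Fin 2) K) 1 0 := ⟨_, rfl⟩
  obtain ⟨d, hd⟩ : ∃ a, a = (g : Matrix (Fin 2) (Fin 2) K) 1 1 := ⟨_, rfl⟩
  have u0 := congrFun (congrFun hu 0) 0
  have u1 := congrFun (congrFun hu 0) 1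
  have l1 := congrFun (congrFun hl 0) 0
  simp only [up, lo, Matrix.mul_apply, Fin.sum_univ_two, Matrix.of_apply, Matrix.cons_val', Matrix.cons_val_zero,
    Matrix.cons_val_one, Matrix.cons_val_fin_one, Matrix.empty_val', ← ha, ← hb, ← hc, ← hd] at u0 u1 l1
  have hc0 : c = 0 := by linear_combination u0
  have hb0 : b = 0 := by linear_combination -l1
  have had : a = d := by linear_combination -u1
  have hdet := g.2
  rw [Matrix.det_fin_two, ← ha, ← hb, ← hc, ← hd, hb0, hc0, ← had] at hdet
  refine ⟨a, by rw [Fintype.card_fin]; linear_combination hdet, ?_⟩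
  ext i j
  fin_cases i <;> fin_cases j
  · simpa using ha
  · simpa using (hb0.symm.trans hb)
  · simpa using (hc0.symm.trans hc)
  · simpa using (had.trans hd)

theorem psl_noncomm [Fintype K] (h : 4 ≤ Fintype.card K) :
    ∃ a b : ProjectiveSpecialLinearGroup (Fin 2) K, a * b ≠ b * a := by
  by_contra hcon
  push Not at hcon
  have h1 := psl_simple h
  have h2 : Subgroup.center (ProjectiveSpecialLinearGroup (Fin 2) K) = ⊤ := by
    rw [eq_top_iff]
    intro x _
    rw [Subgroup.mem_center_iff]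
    intro y
    exact hcon y x
  rw [psl_center] at h2
  exact bot_ne_top h2

/-- in characteristic not 2, `PSL₂(K)` contains a four-group -/
theorem psl_four [Finite K] (h2 : (2 : K) ≠ 0) : ∃ a b : ProjectiveSpecialLinearGroup (Fin 2) K,
    a * a = 1 ∧ b * b = 1 ∧ (a * b) * (a * b) = 1 ∧ a ≠ 1 ∧ b ≠ 1 ∧ a * b ≠ 1 := by
  obtain ⟨p, hp⟩ := CharP.exists K
  have hp0 : p ≠ 0 := CharP.char_ne_zero_of_finite K p
  have : NeZero p := ⟨hp0⟩
  obtain ⟨m, n, hmn⟩ := CharP.sq_add_sq K p (-1)
  obtain ⟨x, hx⟩ : ∃ x : K, x = m := ⟨_, rfl⟩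
  obtain ⟨y, hy⟩ : ∃ x : K, x = n := ⟨_, rfl⟩
  rw [← hx, ← hy] at hmn
  push_cast at hmn
  let w : SpecialLinearGroup (Fin 2) K := ⟨!![0, 1; -1, 0], by simp [Matrix.det_fin_two]⟩
  let z : SpecialLinearGroup (Fin 2) K := ⟨!![x, y; y, -x], by
    rw [Matrix.det_fin_two]
    simp only [Matrix.of_apply, Matrix.cons_val', Matrix.cons_val_zero, Matrix.cons_val_one, Matrix.cons_val_fin_one,
      Matrix.empty_val']
    linear_combination -hmn⟩
  have sq : ∀ g : SpecialLinearGroup (Fin 2) K, (g : Matrix (Fin 2) (Fin 2) K).trace = 0 → g * g = -1 := by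
    intro g hg
    rw [← pow_two]
    exact ClassicalGeometry.PSL2Basic.sl2_sq_of_trace_zero hg
  have hw : w * w = -1 := sq w (by simp [w, Matrix.trace_fin_two])
  have hz : z * z = -1 := sq z (by simp [z, Matrix.trace_fin_two])
  have hwz : (w * z) * (w * z) = -1 := by
    refine sq _ ?_
    rw [Matrix.trace_fin_two, Matrix.SpecialLinearGroup.coe_mul]
    simp [w, z, Matrix.mul_apply, Fin.sum_univ_two]
  have h11 : (-1 : SpecialLinearGroup (Fin 2) K) ≠ 1 := ClassicalGeometry.PSL2Basic.neg_one_ne_one_SL2 h2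
  have hne : ∀ g : SpecialLinearGroup (Fin 2) K, g * g = -1 → pq g ≠ 1 := by
    intro g hg h
    rcases pq_eq_one.1 h with rfl | rfl
    · exact h11 (by rw [← hg, one_mul])
    · exact h11 (by rw [← hg]; simp)
  have hone : ∀ g : SpecialLinearGroup (Fin 2) K, g * g = -1 → pq g * pq g = 1 := by
    intro g hg
    rw [← map_mul, hg]
    exact pq_eq_one.2 (Or.inr rfl)
  refine ⟨pq w, pq z, hone w hw, hone z hz, ?_, hne w hw, hne z hz, ?_⟩
  · rw [← map_mul]
    exact hone _ hwz
  · rw [← map_mul]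
    exact hne _ hwz

/-- in characteristic not 2, `PSL₂(K)` has no non-trivial 2-dimensional representation -/
theorem psl_no_two [Fintype K] (h4 : 4 ≤ Fintype.card K) (h2 : (2 : K) ≠ 0) {E : Type u} [Field E] (h2' : (2 : E) ≠ 0)
    (θ : ProjectiveSpecialLinearGroup (Fin 2) K →* GL (Fin 2) E) : ∀ a, θ a = 1 := by
  have hsim := psl_simple h4
  have hperf := psl_perfect h4
  rcases (MonoidHom.normal_ker θ).eq_bot_or_eq_top with h | h
  · exfalso
    have hinj : ∀ a, θ a = 1 → a = 1 := fun a ha => by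
      have : a ∈ θ.ker := ha
      rwa [h, Subgroup.mem_bot] at this
    have hdet : ∀ g, ((θ g : GL (Fin 2) E) : Matrix (Fin 2) (Fin 2) E).det = 1 := by
      intro g
      have h1 : g ∈ ((Matrix.GeneralLinearGroup.det).comp θ).ker := by
        have h2 : commutator (ProjectiveSpecialLinearGroup (Fin 2) K) ≤ ((Matrix.GeneralLinearGroup.det).comp θ).ker :=
          Abelianization.commutator_subset_ker _
        apply h2
        rw [hperf]
        exact Subgroup.mem_top _
      have h3 : Matrix.GeneralLinearGroup.det (θ g) = 1 := h1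
      exact congrArg Units.val h3
    have key : ∀ g, g * g = 1 → g ≠ 1 → ((θ g : GL (Fin 2) E) : Matrix (Fin 2) (Fin 2) E) = -1 := by
      intro g hg hg1
      refine (H163.E6.Two.eq_one_or_neg h2' ?_ (hdet g)).resolve_left fun h3 => hg1 (hinj g (Units.ext h3))
      rw [← Units.val_mul, ← map_mul, hg, map_one, Units.val_one]
    obtain ⟨a, b, ha, hb, hab, ha1, hb1, hab1⟩ := psl_four h2
    have k1 := key a ha ha1
    have k2 := key b hb hb1
    have k3 := key _ hab hab1
    rw [map_mul, Units.val_mul, k1, k2, neg_mul_neg, one_mul] at k3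
    have k4 := congrFun (congrFun k3 0) 0
    rw [Matrix.one_apply_eq, Matrix.neg_apply, Matrix.one_apply_eq] at k4
    apply h2'
    linear_combination k4
  · intro a
    have : a ∈ θ.ker := by rw [h]; trivial
    exact this

/-- the generalized Fitting subgroup is not `PSL₂(2)` or `PSL₂(3)` -/
theorem four_le_of_genFitting [Fintype K] {X : Type u} [Group X] [Finite X]
    (e : ↥(generalizedFittingSubgroup X) ≃* ProjectiveSpecialLinearGroup (Fin 2) K) : 4 ≤ Fintype.card K := by
  by_contra hlt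
  have h1 : Nat.card (ProjectiveSpecialLinearGroup (Fin 2) K) ≤ 16 := by
    have h2 : Nat.card (ProjectiveSpecialLinearGroup (Fin 2) K) ≤ Nat.card (SpecialLinearGroup (Fin 2) K) :=
      Nat.card_le_card_of_surjective _ pq_surjective
    rw [ClassicalGeometry.PSL2Basic.card_SL2] at h2
    have h3 : Fintype.card K ≤ 3 := by omega
    by_cases h4 : Fintype.card K = 3
    · -- order 12
      have h5 : Odd (Fintype.card K) := by rw [h4]; decide
      have h6 := ClassicalGeometry.PSL2Basic.card_PSL2_odd K h5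
      have h7 : Nat.card (ProjectiveSpecialLinearGroup (Fin 2) K) ≤ 12 := by
        rw [h4] at h6
        omega
      omega
    · have h5 : Fintype.card K ≤ 2 := by omega
      refine h2.trans ?_
      calc Fintype.card K * (Fintype.card K ^ 2 - 1) ≤ 2 * (2 ^ 2 - 1) :=
            Nat.mul_le_mul h5 (Nat.sub_le_sub_right (Nat.pow_le_pow_left h5 2) 1)
        _ ≤ 16 := by norm_num
  have hsol : Group.IsSolvable (ProjectiveSpecialLinearGroup (Fin 2) K) := BpHecke.Norm.isSolvable_of_card_le h1
  have hsol' : Group.IsSolvable ↥(generalizedFittingSubgroup X) :=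
    Group.isSolvable_of_isSolvable_injective (f := e.toMonoidHom) e.injective
  have h2 := ClassificationK.GF2Basics.genFitting_eq_fitting_of_isSolvable hsol'
  have hnil : Group.IsNilpotent ↥(generalizedFittingSubgroup X) := by
    rw [h2]
    exact Lib.Cores.fittingSubgroup_isNilpotent
  have hnil' : Group.IsNilpotent (ProjectiveSpecialLinearGroup (Fin 2) K) := (Group.isNilpotent_congr e).1 hnil
  have hnt : Nontrivial (ProjectiveSpecialLinearGroup (Fin 2) K) := by
    refine ⟨pq (up 1), 1, fun h => ?_⟩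
    rcases pq_eq_one.1 h with h3 | h3
    · have h4 := congrFun (congrFun (congrArg (fun x : SpecialLinearGroup (Fin 2) K => (x : Matrix (Fin 2) (Fin 2) K)) h3) 0) 1
      simp [up] at h4
    · have h4 := congrFun (congrFun (congrArg (fun x : SpecialLinearGroup (Fin 2) K => (x : Matrix (Fin 2) (Fin 2) K)) h3) 0) 1
      simp [up] at h4
  have h3 := Lib.NormalAbelian.normal_inf_center_ne_bot (⊤ : Subgroup (ProjectiveSpecialLinearGroup (Fin 2) K))
    (by intro h; exact bot_ne_top h.symm)
  rw [psl_center, inf_bot_eq] at h3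
  exact h3 rfl

/-- the order of the automorphism group -/
theorem card_mulAut_psl [Fintype K] (p a : ℕ) [Fact p.Prime] (ha : 1 ≤ a) (hK : Fintype.card K = p ^ a)
    (h4 : 4 ≤ Fintype.card K) :
    Nat.card (MulAut (ProjectiveSpecialLinearGroup (Fin 2) K)) = a * (p ^ a * ((p ^ a) ^ 2 - 1)) := by
  have h1 := S0813.result (F := K) p a ha hK 2 le_rfl (fun _ => by rw [← hK]; exact h4)
  rw [h1, if_pos rfl, one_mul, ClassicalGeometry.PSL2Basic.card_PGL2, hK]

end Cfsg.Agent.R2.H9.E6
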