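import Mathlib
import Cfsg.Agent.R2.H9.E6.PslF
import Cfsg.Agent.S2904
import Cfsg.Agent.S1063
import Cfsg.Agent.S1066

/-!
# S5749, S5750: bounds for `a` in terms of `b`, from the orders (helper9)

* `bound_e6` : `PSL₂(p^a) ≤ E₆(p^b)` implies `2a ∣ b d` with `d ∈ {2,5,6,8,9,12}`, or `a = 1`, or `p = 2, a = 3`;
* `bound_tw` : `PSL₂(p^a) ≤ ²E₆(p^b)` implies `2a ∣ b d` with `d ∈ {2,6,8,10,12,18}`, or `a = 1`, or `p = 2, a = 3`.
-/

set_option autoImplicit false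

namespace Cfsg.Agent.R2.H9.E6

open Cfsg Matrix

universe u v

/-- a primitive prime divisor of `p^n - 1` which divides `p^m - 1` -/
theorem dvd_of_primitive {p r n m : ℕ} (_hp : 1 < p) (_hr : r.Prime) (h1 : r ∣ p ^ n - 1)
    (h2 : ∀ k, 0 < k → k < n → ¬ r ∣ p ^ k - 1) (hn : 0 < n) (hm : r ∣ p ^ m - 1) : n ∣ m := by
  have h3 : r ∣ p ^ (Nat.gcd n m) - 1 := by
    rw [← Nat.pow_sub_one_gcd_pow_sub_one]
    exact Nat.dvd_gcd h1 hm
  have h4 : Nat.gcd n m ≤ n := Nat.gcd_le_left _ hn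
  rcases Nat.lt_or_ge (Nat.gcd n m) n with h5 | h5
  · exact absurd h3 (h2 _ (Nat.gcd_pos_of_pos_left _ hn) h5)
  · have h6 : Nat.gcd n m = n := le_antisymm h4 h5
    rw [← h6]
    exact Nat.gcd_dvd_right _ _

theorem prime_dvd_psl {K : Type v} [Field K] [Fintype K] {q0 r : ℕ} (hK : Fintype.card K = q0) (hr : r.Prime)
    (h2 : r ≠ 2) (h : r ∣ q0 ^ 2 - 1) : r ∣ Nat.card (ProjectiveSpecialLinearGroup (Fin 2) K) := by
  have h1 := ClassicalGeometry.PSL2Basic.card_PSL2_gcd K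
  have h3 : r ∣ Fintype.card K * (Fintype.card K ^ 2 - 1) := by
    rw [hK]
    exact Dvd.dvd.mul_left h _
  rw [← h1] at h3
  rcases (Nat.Prime.dvd_mul hr).1 h3 with h4 | h4
  · first
    | exact h4
    | exact absurd ((Nat.prime_dvd_prime_iff_eq hr Nat.prime_two).1 (h4.trans (Nat.gcd_dvd_left _ _))) h2
  · first
    | exact h4
    | exact absurd ((Nat.prime_dvd_prime_iff_eq hr Nat.prime_two).1 (h4.trans (Nat.gcd_dvd_left _ _))) h2

/-- existence of a primitive prime divisor of `p^{2a} - 1` -/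
theorem exists_prim (p a : ℕ) (hp : p.Prime) (ha : 1 ≤ a) (h1 : a ≠ 1) (h3 : ¬ (p = 2 ∧ a = 3)) :
    ∃ r : ℕ, r.Prime ∧ r ≠ 2 ∧ r ≠ p ∧ r ∣ (p ^ a) ^ 2 - 1 ∧ r ∣ p ^ (2 * a) - 1 ∧
      ∀ k, 0 < k → k < 2 * a → ¬ r ∣ p ^ k - 1 := by
  obtain ⟨r, hr, hr1, hr2⟩ := S2904.result p (2 * a) hp.one_lt (by omega) (by
    rintro ⟨h4, h5⟩
    exact h3 ⟨h4, by omega⟩) (by
    rintro ⟨h4, -⟩
    omega)
  have hrp : r ≠ p := by
    rintro rfl
    have h4 : r ∣ r ^ (2 * a) := dvd_pow_self r (by omega)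
    have h5 : 1 ≤ r ^ (2 * a) := Nat.one_le_pow _ _ hr.pos
    have h6 := (Nat.dvd_sub h4 hr1)
    rw [show r ^ (2 * a) - (r ^ (2 * a) - 1) = 1 by omega] at h6
    exact hr.one_lt.ne' (Nat.dvd_one.1 h6)
  refine ⟨r, hr, ?_, hrp, ?_, hr1, hr2⟩
  · rintro rfl
    have h4 : Odd p := hp.odd_of_ne_two (Ne.symm hrp)
    refine hr2 1 one_pos (by omega) ?_
    rw [pow_one]
    obtain ⟨k, hk⟩ := h4
    exact ⟨k, by omega⟩
  · rwa [← pow_mul, mul_comm]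

theorem bound_e6 {F : Type u} [Field F] [Fintype F] {p b : ℕ} (hp : p.Prime) (hF : Fintype.card F = p ^ b)
    {K : Type v} [Field K] [Fintype K] {a : ℕ} (ha : 1 ≤ a) (hK : Fintype.card K = p ^ a)
    {φ : ProjectiveSpecialLinearGroup (Fin 2) K →* ↥(Cfsg.Lie.chevE6.group F)} (hφ : Function.Injective φ) :
    a = 1 ∨ (p = 2 ∧ a = 3) ∨ ∃ d ∈ [2, 5, 6, 8, 9, 12], 2 * a ∣ b * d := by
  by_cases h1 : a = 1
  · exact Or.inl h1
  by_cases h3 : p = 2 ∧ a = 3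
  · exact Or.inr (Or.inl h3)
  right; right
  obtain ⟨r, hr, hr2, hrp, hra, hrb, hrc⟩ := exists_prim p a hp ha h1 h3
  have h4 := (prime_dvd_psl hK hr hr2 hra).trans (Subgroup.card_dvd_of_injective φ hφ)
  have h5 := S1063.result (F := F) hF
  have h6 := h4.trans (Dvd.intro_left _ h5)
  have key : ∀ d, r ∣ (p ^ b) ^ d - 1 → 2 * a ∣ b * d := by
    intro d hd
    rw [← pow_mul] at hd
    exact dvd_of_primitive hp.one_lt hr hrb hrc (by omega) hd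
  have hq : ¬ r ∣ (p ^ b) ^ 36 := by
    intro h
    exact hrp ((Nat.prime_dvd_prime_iff_eq hr hp).1 (hr.dvd_of_dvd_pow (hr.dvd_of_dvd_pow h)))
  simp only [Nat.Prime.dvd_mul hr] at h6
  rcases h6 with (((((h | h) | h) | h) | h) | h) | h
  · exact absurd h hq
  · exact ⟨2, by simp, key 2 h⟩
  · exact ⟨5, by simp, key 5 h⟩
  · exact ⟨6, by simp, key 6 h⟩
  · exact ⟨8, by simp, key 8 h⟩
  · exact ⟨9, by simp, key 9 h⟩
  · exact ⟨12, by simp, key 12 h⟩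

theorem bound_tw {L : Type u} [Field L] [Fintype L] {p b : ℕ} (hp : p.Prime) (hb : 1 ≤ b)
    (hL : Fintype.card L = (p ^ b) ^ 2)
    {K : Type v} [Field K] [Fintype K] {a : ℕ} (ha : 1 ≤ a) (hK : Fintype.card K = p ^ a)
    {φ : ProjectiveSpecialLinearGroup (Fin 2) K →* ↥(Cfsg.Lie.twistedE6 L (p ^ b))} (hφ : Function.Injective φ) :
    a = 1 ∨ (p = 2 ∧ a = 3) ∨ ∃ d ∈ [2, 6, 8, 10, 12, 18], 2 * a ∣ b * d := by
  by_cases h1 : a = 1
  · exact Or.inl h1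
  by_cases h3 : p = 2 ∧ a = 3
  · exact Or.inr (Or.inl h3)
  right; right
  obtain ⟨r, hr, hr2, hrp, hra, hrb, hrc⟩ := exists_prim p a hp ha h1 h3
  have h4 := (prime_dvd_psl hK hr hr2 hra).trans (Subgroup.card_dvd_of_injective φ hφ)
  have h5 := S1066.result (K := L) (hp.isPrimePow.pow (by omega)) hL
  have h6 := h4.trans (Dvd.intro_left _ h5)
  have key : ∀ d, r ∣ (p ^ b) ^ d - 1 → 2 * a ∣ b * d := by
    intro d hd
    rw [← pow_mul] at hd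
    exact dvd_of_primitive hp.one_lt hr hrb hrc (by omega) hd
  have hq : ¬ r ∣ (p ^ b) ^ 36 := by
    intro h
    exact hrp ((Nat.prime_dvd_prime_iff_eq hr hp).1 (hr.dvd_of_dvd_pow (hr.dvd_of_dvd_pow h)))
  have hsq : ∀ m : ℕ, r ∣ (p ^ b) ^ m + 1 → r ∣ (p ^ b) ^ (2 * m) - 1 := by
    intro m h
    have h7 : (p ^ b) ^ (2 * m) - 1 = ((p ^ b) ^ m + 1) * ((p ^ b) ^ m - 1) := by
      rw [mul_comm 2 m, pow_mul, ← Nat.sq_sub_sq, one_pow]
    rw [h7]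
    exact Dvd.dvd.mul_right h _
  simp only [Nat.Prime.dvd_mul hr] at h6
  rcases h6 with (((((h | h) | h) | h) | h) | h) | h
  · exact absurd h hq
  · exact ⟨2, by simp, key 2 h⟩
  · exact ⟨10, by simp, key 10 (hsq 5 h)⟩
  · exact ⟨6, by simp, key 6 h⟩
  · exact ⟨8, by simp, key 8 h⟩
  · exact ⟨18, by simp, key 18 (hsq 9 h)⟩
  · exact ⟨12, by simp, key 12 h⟩

end Cfsg.Agent.R2.H9.E6
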