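import Mathlib
import Cfsg.Agent.R2.H9.E6.Count
import Cfsg.Agent.R2.H9.E6.Num
import Cfsg.Agent.R2.H9.E6.SetupTw

/-!
# S5749, S5750: no `M`-stable lines (helper9)

* `NoSub M k` : no `M`-stable subspaces of dimension `k` in `V` or `V'`;
* `noLine_e6`, `noTwo_e6` : `E₆(q)`;
* `noLine_tw` : `²E₆(q)`, `a ≤ 6 b`.
-/

set_option autoImplicit false

namespace Cfsg.Agent.R2.H9.E6

open Cfsg Cfsg.Lie Module Matrix
open Cfsg.Agent.ChevalleyStructure.E6Min.Basic Cfsg.Agent.ChevalleyStructure.E6Min.Adjoint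
open Cfsg.Agent.H163.E6 Cfsg.Agent.H944.E6Tw Cfsg.Agent.H163.E6.Tw
open Cfsg.Agent.H952.F4 (ev sh cr tf)

universe u v w

/-- no stable subspaces of dimension `k` -/
def NoSub {F : Type u} [Field F] (M : Subgroup ↥(Zgrp F)) (k : ℕ) : Prop :=
  ∀ ρ : Representation F ↥(Zgrp F) (I27 → F), (ρ = V F ∨ ρ = V' F) → ∀ W : Submodule F (I27 → F),
    (∀ g ∈ M, ∀ w ∈ W, ρ g w ∈ W) → finrank F ↥W ≠ k

theorem key_pow {q : ℕ} (hq : 2 ≤ q) (a : ℕ) : (2 ^ a - 1) * q ^ a ≤ 2 ^ a * (q ^ a - 1) := by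
  have h4 : 2 ^ a ≤ q ^ a := Nat.pow_le_pow_left hq a
  have h5 : 1 ≤ 2 ^ a := Nat.one_le_pow _ _ (by norm_num)
  rw [Nat.mul_sub, Nat.sub_mul, mul_one, one_mul]
  omega

/-- the order of `E₆(q)` -/
theorem card_e6_ge {F : Type u} [Field F] [Finite F] : Nat.card F ^ 78 ≤ 8 * Nat.card ↥(chevE6.group F) := by
  have hfin := Fintype.ofFinite F
  have ho := S1063.result (F := F) Nat.card_eq_fintype_card.symm
  have hq : 2 ≤ Nat.card F := Finite.one_lt_card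
  set q := Nat.card F with hqd
  set N := Nat.card ↥(chevE6.group F)
  have hg : Nat.gcd 3 (q - 1) ≤ 3 := Nat.gcd_le_left _ (by norm_num)
  have h1 : q ^ 36 * (q ^ 2 - 1) * (q ^ 5 - 1) * (q ^ 6 - 1) * (q ^ 8 - 1) * (q ^ 9 - 1) * (q ^ 12 - 1) ≤ 3 * N := by
    rw [← ho]; exact Nat.mul_le_mul_right _ hg
  have k2 := key_pow hq 2
  have k5 := key_pow hq 5
  have k6 := key_pow hq 6
  have k8 := key_pow hq 8
  have k9 := key_pow hq 9
  have k12 := key_pow hq 12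
  have h2 : (2 ^ 2 - 1) * (2 ^ 5 - 1) * (2 ^ 6 - 1) * (2 ^ 8 - 1) * (2 ^ 9 - 1) * (2 ^ 12 - 1) * q ^ 78 ≤
      2 ^ 42 * (3 * N) := by
    calc (2 ^ 2 - 1) * (2 ^ 5 - 1) * (2 ^ 6 - 1) * (2 ^ 8 - 1) * (2 ^ 9 - 1) * (2 ^ 12 - 1) * q ^ 78
        = q ^ 36 * ((2 ^ 2 - 1) * q ^ 2) * ((2 ^ 5 - 1) * q ^ 5) * ((2 ^ 6 - 1) * q ^ 6) * ((2 ^ 8 - 1) * q ^ 8) *
          ((2 ^ 9 - 1) * q ^ 9) * ((2 ^ 12 - 1) * q ^ 12) := by ring
      _ ≤ q ^ 36 * (2 ^ 2 * (q ^ 2 - 1)) * (2 ^ 5 * (q ^ 5 - 1)) * (2 ^ 6 * (q ^ 6 - 1)) * (2 ^ 8 * (q ^ 8 - 1)) *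
          (2 ^ 9 * (q ^ 9 - 1)) * (2 ^ 12 * (q ^ 12 - 1)) := by gcongr
      _ = 2 ^ 42 * (q ^ 36 * (q ^ 2 - 1) * (q ^ 5 - 1) * (q ^ 6 - 1) * (q ^ 8 - 1) * (q ^ 9 - 1) * (q ^ 12 - 1)) := by ring
      _ ≤ _ := Nat.mul_le_mul_left _ h1
  norm_num at h2
  omega

/-- the order of `²E₆(q)` -/
theorem card_tw_ge {K : Type u} [Field K] [Fintype K] {q : ℕ} (hq : IsPrimePow q) (hK : Fintype.card K = q ^ 2) :
    5 * q ^ 78 ≤ 24 * Nat.card ↥(Cfsg.Lie.twistedE6 K q) := by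
  have ho := S1066.result (K := K) hq hK
  have hq2 : 2 ≤ q := hq.two_le
  set N := Nat.card ↥(Cfsg.Lie.twistedE6 K q)
  have hg : Nat.gcd 3 (q + 1) ≤ 3 := Nat.gcd_le_left _ (by norm_num)
  have h1 : q ^ 36 * (q ^ 2 - 1) * (q ^ 5 + 1) * (q ^ 6 - 1) * (q ^ 8 - 1) * (q ^ 9 + 1) * (q ^ 12 - 1) ≤ 3 * N := by
    rw [← ho]; exact Nat.mul_le_mul_right _ hg
  have k2 := key_pow hq2 2
  have k6 := key_pow hq2 6
  have k8 := key_pow hq2 8
  have k12 := key_pow hq2 12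
  have h2 : (2 ^ 2 - 1) * (2 ^ 6 - 1) * (2 ^ 8 - 1) * (2 ^ 12 - 1) * q ^ 78 ≤ 2 ^ 28 * (3 * N) := by
    calc (2 ^ 2 - 1) * (2 ^ 6 - 1) * (2 ^ 8 - 1) * (2 ^ 12 - 1) * q ^ 78
        = q ^ 36 * ((2 ^ 2 - 1) * q ^ 2) * (q ^ 5) * ((2 ^ 6 - 1) * q ^ 6) * ((2 ^ 8 - 1) * q ^ 8) *
          (q ^ 9) * ((2 ^ 12 - 1) * q ^ 12) := by ring
      _ ≤ q ^ 36 * (2 ^ 2 * (q ^ 2 - 1)) * (q ^ 5 + 1) * (2 ^ 6 * (q ^ 6 - 1)) * (2 ^ 8 * (q ^ 8 - 1)) *
          (q ^ 9 + 1) * (2 ^ 12 * (q ^ 12 - 1)) := by gcongr <;> omega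
      _ = 2 ^ 28 * (q ^ 36 * (q ^ 2 - 1) * (q ^ 5 + 1) * (q ^ 6 - 1) * (q ^ 8 - 1) * (q ^ 9 + 1) * (q ^ 12 - 1)) := by ring
      _ ≤ _ := Nat.mul_le_mul_left _ h1
  norm_num at h2
  omega

theorem card_map_top {F : Type u} [Field F] : Nat.card ↥((⊤ : Subgroup ↥(Zgrp F)).map (ad F)) =
    Nat.card ↥(chevE6.group F) := by
  rw [← MonoidHom.range_eq_map, MonoidHom.range_eq_top.2 ad_surjective]
  exact Nat.card_congr Subgroup.topEquiv.toEquiv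

theorem map_Gs {K : Type u} [Field K] [Fintype K] {q : ℕ} (hq : IsPrimePow q) (hK : Fintype.card K = q ^ 2)
    {f : K →+* K} (hf : ∀ t, f t = t ^ q) (hqq : ∀ t : K, (t ^ q) ^ q = t) :
    (Gs f).map (ad K) = (incl K q).range := by
  ext y
  constructor
  · rintro ⟨g, hg, rfl⟩
    have h2 := Gs_le_Gl hq hK hf hqq hg
    rw [mem_Gl] at h2
    exact ⟨⟨_, h2⟩, Subtype.ext rfl⟩
  · rintro ⟨y, rfl⟩
    obtain ⟨g, hg, hgy⟩ := exists_Gs f hf hqq y.2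
    exact ⟨g, hg, Subtype.ext hgy⟩

theorem card_map_Gs {K : Type u} [Field K] [Fintype K] {q : ℕ} (hq : IsPrimePow q) (hK : Fintype.card K = q ^ 2)
    {f : K →+* K} (hf : ∀ t, f t = t ^ q) (hqq : ∀ t : K, (t ^ q) ^ q = t) :
    Nat.card ↥((Gs f).map (ad K)) = Nat.card ↥(Cfsg.Lie.twistedE6 K q) := by
  rw [map_Gs hq hK hf hqq]
  exact (Nat.card_congr (MonoidHom.ofInjective (incl_injective K q)).toEquiv).symm

/-- the order of `Aut PSL₂(p^a)` -/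
theorem card_aut_le {K : Type v} [Field K] [Fintype K] {p a : ℕ} [Fact p.Prime] (ha : 1 ≤ a)
    (hK : Fintype.card K = p ^ a) (h4 : 4 ≤ Fintype.card K) :
    Nat.card (MulAut (ProjectiveSpecialLinearGroup (Fin 2) K)) ≤ a * (p ^ a) ^ 3 := by
  rw [card_mulAut_psl p a ha hK h4]
  refine Nat.mul_le_mul_left _ ?_
  calc p ^ a * ((p ^ a) ^ 2 - 1) ≤ p ^ a * (p ^ a) ^ 2 := Nat.mul_le_mul_left _ (Nat.sub_le _ _)
    _ = _ := by ring

theorem two_mul_le_pow {p b : ℕ} (hp : 2 ≤ p) (hb : 1 ≤ b) : 2 * b ≤ p ^ b := by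
  refine le_trans ?_ (Nat.pow_le_pow_left hp b)
  induction b, hb using Nat.le_induction with
  | base => norm_num
  | succ n hn ih => rw [pow_succ]; omega

theorem card_aut_le' {K : Type v} [Field K] [Fintype K] {p a b c : ℕ} [Fact p.Prime] (ha : 1 ≤ a) (hb : 1 ≤ b)
    (hK : Fintype.card K = p ^ a) (h4 : 4 ≤ Fintype.card K) (hab : a ≤ c * b) :
    2 * Nat.card (MulAut (ProjectiveSpecialLinearGroup (Fin 2) K)) ≤ c * (p ^ b) ^ (3 * c + 1) := by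
  have hp : p.Prime := Fact.out
  have h1 := card_aut_le ha hK h4
  have h2 : (p ^ a) ^ 3 ≤ (p ^ b) ^ (3 * c) := by
    rw [← pow_mul, ← pow_mul]
    exact Nat.pow_le_pow_right hp.pos (by nlinarith)
  have h3 := two_mul_le_pow hp.two_le hb
  calc 2 * Nat.card (MulAut (ProjectiveSpecialLinearGroup (Fin 2) K)) ≤ 2 * (a * (p ^ a) ^ 3) := Nat.mul_le_mul_left _ h1
    _ ≤ 2 * (c * b * (p ^ b) ^ (3 * c)) := by gcongr
    _ = c * ((2 * b) * (p ^ b) ^ (3 * c)) := by ring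
    _ ≤ c * (p ^ b * (p ^ b) ^ (3 * c)) := by gcongr
    _ = _ := by ring

section main

variable {F : Type u} [Field F] {M : Subgroup ↥(Zgrp F)} {K : Type v} [Field K] [Fintype K]
  {ψ : ProjectiveSpecialLinearGroup (Fin 2) K →* ↥(Zgrp F)} {p a b : ℕ} [Fact p.Prime]

/-- **`E₆(q)`: no stable lines** -/
theorem noLine_e6 [Finite F] (h : Setup ⊤ M ψ) (hF : Nat.card F = p ^ b) (ha : 1 ≤ a) (hb : 1 ≤ b)
    (hK : Fintype.card K = p ^ a) (h4 : 4 ≤ Fintype.card K) (hab : a ≤ 6 * b) : NoSub M 1 := by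
  intro ρ hρ W hW h1
  have h2 := h.count_sub hρ hW h1 le_rfl (by norm_num)
  rw [card_map_top] at h2
  have h3 := card_e6_ge (F := F)
  have h5 := card_aut_le' ha hb hK h4 hab
  rw [← hF] at h5
  have hq : 2 ≤ Nat.card F := Finite.one_lt_card
  simp only [Finset.univ_unique, Fin.default_eq_zero, Fin.val_zero, Finset.prod_singleton, pow_one, pow_zero, mul_one]
    at h2
  set q := Nat.card F
  set N := Nat.card ↥(chevE6.group F)
  set X := Nat.card (MulAut (ProjectiveSpecialLinearGroup (Fin 2) K))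
  have h6 : N * 1 ≤ N * (q - 1) := Nat.mul_le_mul_left _ (by omega)
  have h7 : q ^ 78 ≤ 24 * q ^ 46 := by
    calc q ^ 78 ≤ 8 * N := h3
      _ ≤ 8 * (X * q ^ 27) := by omega
      _ = 4 * (2 * X) * q ^ 27 := by ring
      _ ≤ 4 * (6 * q ^ (3 * 6 + 1)) * q ^ 27 := by gcongr
      _ = 24 * q ^ 46 := by ring
  have h8 : q ^ 78 = q ^ 32 * q ^ 46 := by ring
  rw [h8] at h7
  have h9 : 0 < q ^ 46 := by positivity
  have h10 := Nat.le_of_mul_le_mul_right h7 h9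
  have h11 : 2 ^ 32 ≤ q ^ 32 := Nat.pow_le_pow_left hq 32
  norm_num at h11
  omega

/-- **`E₆(q)`: no stable subspaces of dimension 2** -/
theorem noTwo_e6 [Finite F] (h : Setup ⊤ M ψ) (hF : Nat.card F = p ^ b) (ha : 1 ≤ a) (hb : 1 ≤ b)
    (hK : Fintype.card K = p ^ a) (h4 : 4 ≤ Fintype.card K) (hab : a ≤ 6 * b) : NoSub M 2 := by
  intro ρ hρ W hW h1
  have h2 := h.count_sub hρ hW h1 (by norm_num) (by norm_num)
  rw [card_map_top] at h2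
  have h3 := card_e6_ge (F := F)
  have h5 := card_aut_le' ha hb hK h4 hab
  rw [← hF] at h5
  have hq : 2 ≤ Nat.card F := Finite.one_lt_card
  simp only [Fin.prod_univ_two, Fin.val_zero, Fin.val_one, pow_zero, pow_one] at h2
  set q := Nat.card F
  set N := Nat.card ↥(chevE6.group F)
  set X := Nat.card (MulAut (ProjectiveSpecialLinearGroup (Fin 2) K))
  have h6 : N * (q * q) ≤ N * ((q ^ 2 - 1) * (q ^ 2 - q)) := by
    refine Nat.mul_le_mul_left _ (Nat.mul_le_mul ?_ ?_)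
    · have : q + 1 ≤ q ^ 2 := by nlinarith
      omega
    · have : q + q ≤ q ^ 2 := by nlinarith
      omega
  have h7 : q ^ 80 ≤ 24 * q ^ 73 := by
    calc q ^ 80 = q ^ 78 * (q * q) := by ring
      _ ≤ 8 * N * (q * q) := Nat.mul_le_mul_right _ h3
      _ = 8 * (N * (q * q)) := by ring
      _ ≤ 8 * (X * q ^ (27 * 2)) := by omega
      _ = 4 * (2 * X) * q ^ 54 := by ring
      _ ≤ 4 * (6 * q ^ (3 * 6 + 1)) * q ^ 54 := by gcongr
      _ = 24 * q ^ 73 := by ring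
  have h8 : q ^ 80 = q ^ 7 * q ^ 73 := by ring
  rw [h8] at h7
  have h9 : 0 < q ^ 73 := by positivity
  have h10 := Nat.le_of_mul_le_mul_right h7 h9
  have h11 : 2 ^ 7 ≤ q ^ 7 := Nat.pow_le_pow_left hq 7
  norm_num at h11
  omega

end main

/-- **`²E₆(q)`: no stable lines**, `a ≤ 6 b` -/
theorem noLine_tw {L : Type u} [Field L] [Fintype L] {p a b : ℕ} [Fact p.Prime] {f : L →+* L}
    (hf : ∀ t, f t = t ^ (p ^ b)) (hqq : ∀ t : L, (t ^ (p ^ b)) ^ (p ^ b) = t) (hL : Fintype.card L = (p ^ b) ^ 2)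
    {M : Subgroup ↥(Zgrp L)} {K : Type v} [Field K] [Fintype K]
    {ψ : ProjectiveSpecialLinearGroup (Fin 2) K →* ↥(Zgrp L)} (h : Setup (Gs f) M ψ) (ha : 1 ≤ a) (hb : 1 ≤ b)
    (hK : Fintype.card K = p ^ a) (h4 : 4 ≤ Fintype.card K) (hab : a ≤ 6 * b) : NoSub M 1 := by
  intro ρ hρ W hW h1
  have hp : p.Prime := Fact.out
  have hpp : IsPrimePow (p ^ b) := hp.isPrimePow.pow (by omega)
  have h2 := h.count_sub hρ hW h1 le_rfl (by norm_num)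
  rw [card_map_Gs hpp hL hf hqq, Nat.card_eq_fintype_card (α := L), hL] at h2
  have h3 := card_tw_ge hpp hL
  have h5 := card_aut_le' ha hb hK h4 hab
  have hq : 2 ≤ p ^ b := hpp.two_le
  simp only [Finset.univ_unique, Fin.default_eq_zero, Fin.val_zero, Finset.prod_singleton, pow_one, pow_zero, mul_one]
    at h2
  set q := p ^ b
  set N := Nat.card ↥(Cfsg.Lie.twistedE6 L q)
  set X := Nat.card (MulAut (ProjectiveSpecialLinearGroup (Fin 2) K))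
  have h6 : N * q ≤ N * (q ^ 2 - 1) := Nat.mul_le_mul_left _ (by
    have : q + 1 ≤ q ^ 2 := by nlinarith
    omega)
  have h7 : 5 * q ^ 79 ≤ 72 * q ^ 73 := by
    calc 5 * q ^ 79 = 5 * q ^ 78 * q := by ring
      _ ≤ 24 * N * q := Nat.mul_le_mul_right _ h3
      _ = 24 * (N * q) := by ring
      _ ≤ 24 * (X * (q ^ 2) ^ 27) := by omega
      _ = 12 * (2 * X) * q ^ 54 := by ring
      _ ≤ 12 * (6 * q ^ (3 * 6 + 1)) * q ^ 54 := by gcongr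
      _ = 72 * q ^ 73 := by ring
  have h8 : 5 * q ^ 79 = (5 * q ^ 6) * q ^ 73 := by ring
  rw [h8] at h7
  have h9 : 0 < q ^ 73 := by positivity
  have h10 := Nat.le_of_mul_le_mul_right h7 h9
  have h11 : 2 ^ 6 ≤ q ^ 6 := Nat.pow_le_pow_left hq 6
  norm_num at h11
  omega

end Cfsg.Agent.R2.H9.E6
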