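import Mathlib
import Cfsg.Agent.R2.H9.E6.Num

/-!
# S5749, S5750: `a ≤ 6 b` (helper9)
-/

set_option autoImplicit false

namespace Cfsg.Agent.R2.H9.E6

open Cfsg Matrix

universe u v

theorem le_e6 {F : Type u} [Field F] [Fintype F] {p b : ℕ} (hp : p.Prime) (hb : 1 ≤ b) (hF : Fintype.card F = p ^ b)
    {K : Type v} [Field K] [Fintype K] {a : ℕ} (ha : 1 ≤ a) (hK : Fintype.card K = p ^ a)
    {φ : ProjectiveSpecialLinearGroup (Fin 2) K →* ↥(Cfsg.Lie.chevE6.group F)} (hφ : Function.Injective φ) :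
    a ≤ 6 * b := by
  rcases bound_e6 hp hF ha hK hφ with rfl | ⟨-, rfl⟩ | ⟨d, hd, h⟩
  · omega
  · omega
  · have h1 : d ≤ 12 ∧ 0 < d := by
      simp only [List.mem_cons, List.not_mem_nil, or_false] at hd
      omega
    have h2 := Nat.le_of_dvd (Nat.mul_pos hb h1.2) h
    have h3 : b * d ≤ b * 12 := Nat.mul_le_mul_left _ h1.1
    omega

/-- `a ≠ 9 b` in `²E₆(p^b)` -/
theorem ne_nine {L : Type u} [Field L] [Fintype L] {p b : ℕ} (hp : p.Prime) (hb : 1 ≤ b)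
    (hL : Fintype.card L = (p ^ b) ^ 2)
    {K : Type v} [Field K] [Fintype K] {a : ℕ} (hK : Fintype.card K = p ^ a)
    {φ : ProjectiveSpecialLinearGroup (Fin 2) K →* ↥(Cfsg.Lie.twistedE6 L (p ^ b))} (hφ : Function.Injective φ) :
    a ≠ 9 * b := by
  rintro rfl
  obtain ⟨r, hr, hr1, hr2⟩ := S2904.result p (9 * b) hp.one_lt (by omega) (by
    rintro ⟨-, h5⟩
    omega) (by
    rintro ⟨h4, -⟩
    omega)
  have hrp : r ≠ p := by
    rintro rfl
    have h4 : r ∣ r ^ (9 * b) := dvd_pow_self r (by omega)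
    have h5 : 1 ≤ r ^ (9 * b) := Nat.one_le_pow _ _ hr.pos
    have h6 := (Nat.dvd_sub h4 hr1)
    rw [show r ^ (9 * b) - (r ^ (9 * b) - 1) = 1 by omega] at h6
    exact hr.one_lt.ne' (Nat.dvd_one.1 h6)
  have hr20 : r ≠ 2 := by
    rintro rfl
    have h4 : Odd p := hp.odd_of_ne_two (Ne.symm hrp)
    refine hr2 1 one_pos (by omega) ?_
    rw [pow_one]
    obtain ⟨k, hk⟩ := h4
    exact ⟨k, by omega⟩
  have hra : r ∣ (p ^ (9 * b)) ^ 2 - 1 := by
    have h7 : (p ^ (9 * b)) ^ 2 - 1 = (p ^ (9 * b) + 1) * (p ^ (9 * b) - 1) := by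
      rw [← Nat.sq_sub_sq, one_pow]
    rw [h7]
    exact Dvd.dvd.mul_left hr1 _
  have h4 := (prime_dvd_psl hK hr hr20 hra).trans (Subgroup.card_dvd_of_injective φ hφ)
  have h5 := S1066.result (K := L) (hp.isPrimePow.pow (by omega)) hL
  have h6 := h4.trans (Dvd.intro_left _ h5)
  have key : ∀ d, r ∣ (p ^ b) ^ d - 1 → 9 * b ∣ b * d := by
    intro d hd
    rw [← pow_mul] at hd
    exact dvd_of_primitive hp.one_lt hr hr1 hr2 (by omega) hd
  have key' : ∀ d, r ∣ (p ^ b) ^ d - 1 → 9 ∣ d := by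
    intro d hd
    have h8 := key d hd
    rw [mul_comm 9 b] at h8
    exact Nat.dvd_of_mul_dvd_mul_left hb h8
  have hq : ¬ r ∣ (p ^ b) ^ 36 := by
    intro h
    exact hrp ((Nat.prime_dvd_prime_iff_eq hr hp).1 (hr.dvd_of_dvd_pow (hr.dvd_of_dvd_pow h)))
  have hsq : ∀ m : ℕ, r ∣ (p ^ b) ^ m + 1 → r ∣ (p ^ b) ^ (2 * m) - 1 := by
    intro m h
    have h7 : (p ^ b) ^ (2 * m) - 1 = ((p ^ b) ^ m + 1) * ((p ^ b) ^ m - 1) := by
      rw [mul_comm 2 m, pow_mul, ← Nat.sq_sub_sq, one_pow]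
    rw [h7]
    exact Dvd.dvd.mul_right h _
  simp only [Nat.Prime.dvd_mul hr] at h6
  rcases h6 with (((((h | h) | h) | h) | h) | h) | h
  · exact absurd h hq
  · exact absurd (key' 2 h) (by norm_num)
  · exact absurd (key' 10 (hsq 5 h)) (by norm_num)
  · exact absurd (key' 6 h) (by norm_num)
  · exact absurd (key' 8 h) (by norm_num)
  · -- `r` divides `q^9 + 1` and `q^9 - 1`
    have h8 : r ∣ (p ^ b) ^ 9 - 1 := by rwa [← pow_mul, mul_comm b 9]
    have h9 : 1 ≤ (p ^ b) ^ 9 := Nat.one_le_pow _ _ (Nat.pow_pos hp.pos)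
    have h10 := Nat.dvd_sub h h8
    rw [show (p ^ b) ^ 9 + 1 - ((p ^ b) ^ 9 - 1) = 2 by omega] at h10
    exact hr20 ((Nat.prime_dvd_prime_iff_eq hr Nat.prime_two).1 h10)
  · exact absurd (key' 12 h) (by norm_num)

theorem le_tw {L : Type u} [Field L] [Fintype L] {p b : ℕ} (hp : p.Prime) (hb : 1 ≤ b)
    (hL : Fintype.card L = (p ^ b) ^ 2)
    {K : Type v} [Field K] [Fintype K] {a : ℕ} (ha : 1 ≤ a) (hK : Fintype.card K = p ^ a)
    {φ : ProjectiveSpecialLinearGroup (Fin 2) K →* ↥(Cfsg.Lie.twistedE6 L (p ^ b))} (hφ : Function.Injective φ) :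
    a ≤ 6 * b := by
  have h9 := ne_nine hp hb hL hK hφ
  rcases bound_tw hp hb hL ha hK hφ with rfl | ⟨-, rfl⟩ | ⟨d, hd, h⟩
  · omega
  · omega
  · have h18 : d ≠ 18 → a ≤ 6 * b := by
      intro h18
      have h1 : d ≤ 12 ∧ 0 < d := by
        simp only [List.mem_cons, List.not_mem_nil, or_false] at hd
        omega
      have h2 := Nat.le_of_dvd (Nat.mul_pos hb h1.2) h
      have h3 : b * d ≤ b * 12 := Nat.mul_le_mul_left _ h1.1
      omega
    by_cases h1 : d = 18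
    · subst h1
      obtain ⟨k, hk⟩ := h
      have hk0 : k ≠ 0 := by rintro rfl; omega
      have hk1 : k ≠ 1 := by rintro rfl; omega
      have hk2 : 2 ≤ k := by omega
      have : 2 * a * 2 ≤ 2 * a * k := Nat.mul_le_mul_left _ hk2
      omega
    · exact h18 h1

end Cfsg.Agent.R2.H9.E6
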