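import Mathlib
import Cfsg.Agent.R2.H9.E6.NoLine
import Cfsg.Agent.R2.H9.E6.NumTw
import Cfsg.Agent.S1054
import Cfsg.Agent.S1070

/-!
# S5749, S5750: the configuration (helper9)

`Cfg p a b Γ M ψ` : the configuration to be excluded, for both families. `cfg_e6`, `cfg_tw` : its existence for a maximal
subgroup with generalized Fitting subgroup `PSL₂(p^a)`, `p^a ≥ 7`, `p^a ≠ 9`.
-/

set_option autoImplicit false

namespace Cfsg.Agent.R2.H9.E6

open Cfsg Cfsg.Lie Module Matrix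
open Cfsg.Agent.ChevalleyStructure
open Cfsg.Agent.ChevalleyStructure.E6Min.Basic Cfsg.Agent.ChevalleyStructure.E6Min.Adjoint
open Cfsg.Agent.H163.E6 Cfsg.Agent.H944.E6Tw Cfsg.Agent.H163.E6.Tw
open Cfsg.Agent.H952.F4 (ev sh cr tf)

universe u v w

/-- the configuration to be excluded -/
structure Cfg {F : Type u} [Field F] [Fintype F] {K : Type v} [Field K] [Fintype K] (p a b : ℕ)
    (Γ M : Subgroup ↥(Zgrp F)) (ψ : ProjectiveSpecialLinearGroup (Fin 2) K →* ↥(Zgrp F)) : Prop where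
  set : Setup Γ M ψ
  prime : p.Prime
  ha : 1 ≤ a
  hb : 1 ≤ b
  charF : CharP F p
  charK : CharP K p
  cardK : Fintype.card K = p ^ a
  seven : 7 ≤ Fintype.card K
  nine : Fintype.card K ≠ 9
  le : a ≤ 6 * b
  noLine : NoSub M 1
  fam : (Γ = ⊤ ∧ Fintype.card F = p ^ b ∧ NoSub M 2) ∨
    (Fintype.card F = (p ^ b) ^ 2 ∧ ∃ f : F →+* F, (∀ t, f t = t ^ (p ^ b)) ∧ (∀ t : F, (t ^ (p ^ b)) ^ (p ^ b) = t) ∧
      Γ = Gs f)

theorem charP_of_card {F : Type u} [Field F] [Fintype F] {p n : ℕ} (hp : p.Prime) (h : Fintype.card F = p ^ n) :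
    CharP F p := by
  have : Fact p.Prime := ⟨hp⟩
  exact charP_of_card_eq_prime_pow h

/-- **`E₆(q)`** -/
theorem cfg_e6 {F : Type u} [Field F] [Fintype F] {p : ℕ} (hp : p.Prime) (hF : CharP F p)
    {H : Subgroup ↥(chevE6.group F)} (hH : IsCoatom H) {K : Type v} [Field K] [Fintype K] {a : ℕ} (ha : 1 ≤ a)
    (hK : Fintype.card K = p ^ a) (h7 : 7 ≤ Fintype.card K) (h9 : Fintype.card K ≠ 9)
    (e : Nonempty (↥(generalizedFittingSubgroup ↥H) ≃* ProjectiveSpecialLinearGroup (Fin 2) K)) :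
    ∃ (b : ℕ) (M : Subgroup ↥(Zgrp F)) (ψ : ProjectiveSpecialLinearGroup (Fin 2) K →* ↥(Zgrp F)),
      Cfg p a b ⊤ M ψ ∧ Fintype.card F = p ^ b := by
  have hfp : Fact p.Prime := ⟨hp⟩
  obtain ⟨n, -, hn⟩ := FiniteField.card F p
  have hb : 1 ≤ (n : ℕ) := n.2
  have hs : IsSimpleGroup ↥(chevE6.group F) := (S1054.result chevE6 (by simp)).1
  have hsA := psl_simple (K := K) (by omega)
  obtain ⟨φ, hM⟩ := exists_maxSimp hH (psl_noncomm (by omega)) e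
  obtain ⟨ψ, hψ⟩ := exists_lift_psl (by omega) h9 (psl_perfect (by omega)) hM.inj
  have hS := Setup.of_e6 hM (psl_perfect (by omega)) hψ
  have hle := le_e6 hp hb hn ha hK hM.inj
  have hF' : Nat.card F = p ^ (n : ℕ) := by rw [Nat.card_eq_fintype_card, hn]
  refine ⟨n, _, ψ, ⟨hS, hp, ha, hb, hF, charP_of_card hp hK, hK, h7, h9, hle, ?_, Or.inl ⟨rfl, hn, ?_⟩⟩, hn⟩
  · exact noLine_e6 hS hF' ha hb hK (by omega) hle
  · exact noTwo_e6 hS hF' ha hb hK (by omega) hle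

/-- **`²E₆(q)`** -/
theorem cfg_tw {L : Type u} [Field L] [Fintype L] {p b : ℕ} (hp : p.Prime) (hb : 1 ≤ b)
    (hL : Fintype.card L = (p ^ b) ^ 2)
    {H : Subgroup ↥(Cfsg.Lie.twistedE6 L (p ^ b))} (hH : IsCoatom H) {K : Type v} [Field K] [Fintype K] {a : ℕ}
    (ha : 1 ≤ a) (hK : Fintype.card K = p ^ a) (h7 : 7 ≤ Fintype.card K) (h9 : Fintype.card K ≠ 9)
    (e : Nonempty (↥(generalizedFittingSubgroup ↥H) ≃* ProjectiveSpecialLinearGroup (Fin 2) K)) :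
    ∃ (Γ M : Subgroup ↥(Zgrp L)) (ψ : ProjectiveSpecialLinearGroup (Fin 2) K →* ↥(Zgrp L)),
      Cfg p a b Γ M ψ ∧ SemiG (p ^ b) Γ := by
  have hfp : Fact p.Prime := ⟨hp⟩
  have hq : IsPrimePow (p ^ b) := hp.isPrimePow.pow (by omega)
  have hs : IsSimpleGroup ↥(Cfsg.Lie.twistedE6 L (p ^ b)) := (S1070.result hq hL).1
  have hsA := psl_simple (K := K) (by omega)
  obtain ⟨φ, hM⟩ := exists_maxSimp hH (psl_noncomm (by omega)) e
  obtain ⟨ψ, hψ⟩ := exists_lift_psl (by omega) h9 (psl_perfect (by omega))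
    (φ := (incl L (p ^ b)).comp φ) ((incl_injective L (p ^ b)).comp hM.inj)
  obtain ⟨f, hf, hqq⟩ := TwE6Basic.exists_frob hq hL
  have hS := Setup.of_tw hq hL hf hqq hM (psl_perfect (by omega)) hψ
  have hle := le_tw hp hb hL ha hK hM.inj
  have hL' : Fintype.card L = p ^ (b * 2) := by rw [hL, ← pow_mul]
  refine ⟨_, _, ψ, ⟨hS, hp, ha, hb, charP_of_card hp hL', charP_of_card hp hK, hK, h7, h9, hle, ?_,
    Or.inr ⟨hL, f, hf, hqq, rfl⟩⟩, semi_of_tw hf hqq⟩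
  exact noLine_tw hf hqq hL hS ha hb hK (by omega) hle

end Cfsg.Agent.R2.H9.E6
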