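import Mathlib
import Cfsg.Agent.R2.H9.E6.Cfg
import Cfsg.Agent.S5927
import Cfsg.Agent.S5928
import Cfsg.Agent.S0252
import Cfsg.Agent.S0253
import Cfsg.Agent.S0254

/-!
# S5749, S5750: reduction to the configuration (helper9)
-/

set_option autoImplicit false

namespace Cfsg.Agent.R2.H9.E6

open Cfsg Cfsg.Lie Matrix
open Cfsg.Agent.ChevalleyStructure.E6Min.Basic

universe u v

/-- small fields -/
theorem small_cases {K : Type v} [Field K] [Fintype K] {p a : ℕ} (hp : p.Prime) (ha : 1 ≤ a)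
    (hK : Fintype.card K = p ^ a) (h4 : 4 ≤ Fintype.card K) :
    (7 ≤ Fintype.card K ∧ Fintype.card K ≠ 9) ∨
      (p < 7 ∧ ∃ n, 5 ≤ n ∧ Nonempty (ProjectiveSpecialLinearGroup (Fin 2) K ≃* alternatingGroup (Fin n))) := by
  have hpd : p ∣ Fintype.card K := by rw [hK]; exact dvd_pow_self p (by omega)
  by_cases h9 : Fintype.card K = 9
  · right
    have h3 : p = 3 := by
      rw [h9] at hpd
      exact (Nat.prime_dvd_prime_iff_eq hp Nat.prime_three).1 (hp.dvd_of_dvd_pow (show p ∣ 3 ^ 2 from hpd))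
    exact ⟨by omega, 6, by norm_num, S0254.result h9⟩
  by_cases h7 : 7 ≤ Fintype.card K
  · exact Or.inl ⟨h7, h9⟩
  right
  have h : Fintype.card K = 4 ∨ Fintype.card K = 5 ∨ Fintype.card K = 6 := by omega
  rcases h with h | h | h
  · have h3 : p = 2 := by
      rw [h] at hpd
      exact (Nat.prime_dvd_prime_iff_eq hp Nat.prime_two).1 (hp.dvd_of_dvd_pow (show p ∣ 2 ^ 2 from hpd))
    exact ⟨by omega, 5, le_rfl, S0252.result h⟩
  · have h3 : p = 5 := by
      rw [h] at hpd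
      exact (Nat.prime_dvd_prime_iff_eq hp Nat.prime_five).1 hpd
    exact ⟨by omega, 5, le_rfl, S0253.result h⟩
  · exfalso
    have h6 : ¬ IsPrimePow 6 := by
      intro h6
      rw [isPrimePow_nat_iff] at h6
      obtain ⟨r, k, hr, hk, h7⟩ := h6
      have h2 : 2 ∣ r ^ k := by rw [h7]; norm_num
      have h3 : 3 ∣ r ^ k := by rw [h7]; norm_num
      have h2' := (Nat.prime_dvd_prime_iff_eq Nat.prime_two hr).1 (Nat.prime_two.dvd_of_dvd_pow h2)
      have h3' := (Nat.prime_dvd_prime_iff_eq Nat.prime_three hr).1 (Nat.prime_three.dvd_of_dvd_pow h3)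
      omega
    apply h6
    rw [← h, hK]
    exact hp.isPrimePow.pow (by omega)

/-- **S5749 from the configuration** -/
theorem e6_of_core {F : Type u} [Field F] [Fintype F] (p : ℕ) [Fact p.Prime] [CharP F p]
    (H : Subgroup (chevE6.group F)) (hH : IsCoatom H) {K : Type v} [Field K] [Fintype K] (a : ℕ) (ha : 1 ≤ a)
    (hK : Fintype.card K = p ^ a)
    (core : ∀ (b : ℕ) (M : Subgroup ↥(Zgrp F)) (ψ : ProjectiveSpecialLinearGroup (Fin 2) K →* ↥(Zgrp F)),
      Fintype.card F = p ^ b → Cfg p a b ⊤ M ψ → False) :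
    IsEmpty (generalizedFittingSubgroup H ≃* ProjectiveSpecialLinearGroup (Fin 2) K) := by
  refine ⟨fun e => ?_⟩
  have hp : p.Prime := Fact.out
  have h4 := four_le_of_genFitting e
  rcases small_cases hp ha hK h4 with ⟨h7, h9⟩ | ⟨hp7, n, hn, ⟨e'⟩⟩
  · obtain ⟨b, M, ψ, hC, hF⟩ := cfg_e6 hp inferInstance hH ha hK h7 h9 ⟨e⟩
    exact core b M ψ hF hC
  · have h := S5927.result p H hH n hn ⟨e.trans e'⟩
    omega

/-- **S5750 from the configuration** -/
theorem tw_of_core {L : Type u} [Field L] [Fintype L] (p b : ℕ) [Fact p.Prime] (hb : 1 ≤ b)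
    (hL : Fintype.card L = (p ^ b) ^ 2)
    (H : Subgroup (twistedE6 L (p ^ b))) (hH : IsCoatom H) {K : Type v} [Field K] [Fintype K] (a : ℕ) (ha : 1 ≤ a)
    (hK : Fintype.card K = p ^ a)
    (core : ∀ (Γ M : Subgroup ↥(Zgrp L)) (ψ : ProjectiveSpecialLinearGroup (Fin 2) K →* ↥(Zgrp L)),
      Cfg p a b Γ M ψ → SemiG (p ^ b) Γ → False) :
    IsEmpty (generalizedFittingSubgroup H ≃* ProjectiveSpecialLinearGroup (Fin 2) K) := by
  refine ⟨fun e => ?_⟩
  have hp : p.Prime := Fact.out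
  have h4 := four_le_of_genFitting e
  rcases small_cases hp ha hK h4 with ⟨h7, h9⟩ | ⟨hp7, n, hn, ⟨e'⟩⟩
  · obtain ⟨Γ, M, ψ, hC, hJ⟩ := cfg_tw hp hb hL hH ha hK h7 h9 ⟨e⟩
    exact core Γ M ψ hC hJ
  · have h := S5928.result p b hb hL H hH n hn ⟨e.trans e'⟩
    omega

end Cfsg.Agent.R2.H9.E6
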