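import Mathlib
import Cfsg.Agent.H944.E6TwE

/-!
# `²E₆(q)` is irreducible on `V` and `V'` (helper9)
-/

set_option autoImplicit false

namespace Cfsg.Agent.R2.H9.E6.TwIrr

open Cfsg Cfsg.Lie Module
open scoped Matrix
open Cfsg.Agent.ChevalleyStructure
open Cfsg.Agent.ChevalleyStructure.E6Min.Tables Cfsg.Agent.ChevalleyStructure.E6Min.Basic
  Cfsg.Agent.ChevalleyStructure.E6Min.Adjoint
open Cfsg.Agent.ChevalleyStructure.E6Min.Forms (e e_apply)
open Cfsg.Agent.H163.E6
open Cfsg.Agent.H944.E6Tw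

universe u

def L12 : List ℕ := [46, 25, 39, 32, 56, 36, 15, 35, 42, 37, 29, 34]

def rk27 (x : I27) : ℕ :=
  [0, 1, 2, 1, 2, 3, 2, 3, 4, 8, 5, 4, 7, 4, 3, 6, 5, 4, 8, 7, 6, 5, 4, 5, 4, 3, 4].getD (code x) 0

theorem L12_lt : ∀ r ∈ L12, r < 72 := by decide

theorem L12_opp : ∀ r ∈ L12, 71 - r ∈ L12 := by decide

theorem up_all : ∀ y : I27, y = dec 0 ∨ ∃ r ∈ L12, sg r y ≠ 0 ∧ rk27 (sr r y) < rk27 y := by decide +kernel

theorem down_all : ∀ x : I27, x = dec 0 ∨ ∃ r ∈ L12, ∃ y, sg r y ≠ 0 ∧ sr r y = x ∧ rk27 y < rk27 x := by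
  decide +kernel

theorem sep12 : ∀ x y : I27, x = y ∨ ∃ r ∈ L12, ind r y ≠ ind r x := by decide +kernel

section stable

variable {F : Type u} [Field F] {W : Submodule F (I27 → F)} (hW : ∀ r ∈ L12, ∀ w ∈ W, Nm F r *ᵥ w ∈ W)

include hW

theorem diag_stable {r : ℕ} (hr : r ∈ L12) {w : I27 → F} (hw : w ∈ W) : (fun y => ((ind r y : ℤ) : F) * w y) ∈ W := by
  have h1 := hW r hr _ (hW (71 - r) (L12_opp r hr) w hw)
  rw [Matrix.mulVec_mulVec, Nm_mul_opp (L12_lt r hr)] at h1
  have h2 : (Matrix.diagonal (fun x => ((ind r x : ℤ) : F)) *ᵥ w) = fun y => ((ind r y : ℤ) : F) * w y := by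
    funext y
    rw [Matrix.mulVec_diagonal]
  rwa [h2] at h1

theorem proj_stable (x : I27) {w : I27 → F} (hw : w ∈ W) (l : List ℕ) (hl : ∀ r ∈ l, r ∈ L12) :
    (fun y => ((l.map fun r => if ind r y = ind r x then (1 : F) else 0).prod) * w y) ∈ W := by
  induction l with
  | nil => simpa using hw
  | cons r l ih =>
    have h1 := ih (fun s hs => hl s (List.mem_cons_of_mem _ hs))
    have h2 := diag_stable hW (hl r List.mem_cons_self) h1
    rcases H163.E6.Cnt.ind_cases r x with h3 | h3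
    · have h4 := sub_mem h1 h2
      convert h4 using 1
      funext y
      rw [List.map_cons, List.prod_cons, Pi.sub_apply, h3]
      rcases H163.E6.Cnt.ind_cases r y with h5 | h5
      · rw [h5, if_pos rfl]; push_cast; ring
      · rw [h5, if_neg (by norm_num)]; push_cast; ring
    · convert h2 using 1
      funext y
      rw [List.map_cons, List.prod_cons, h3]
      rcases H163.E6.Cnt.ind_cases r y with h5 | h5
      · rw [h5, if_neg (by norm_num)]; push_cast; ring
      · rw [h5, if_pos rfl]; push_cast; ring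

theorem basis_mem {x : I27} {w : I27 → F} (hw : w ∈ W) (hx : w x ≠ 0) : e F x ∈ W := by
  have h1 := proj_stable hW x hw L12 (fun _ h => h)
  have h2 : (fun y => ((L12.map fun r => if ind r y = ind r x then (1 : F) else 0).prod) * w y) = w x • e F x := by
    funext y
    rw [Pi.smul_apply, e_apply, smul_eq_mul]
    by_cases h : y = x
    · rw [h, if_pos rfl, mul_one, List.prod_eq_one, one_mul]
      intro t ht
      obtain ⟨r, -, rfl⟩ := List.mem_map.1 ht
      rw [if_pos rfl]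
    · obtain ⟨r, hr, h3⟩ := (sep12 x y).resolve_left (Ne.symm h)
      rw [if_neg h, mul_zero, List.prod_eq_zero, zero_mul]
      refine List.mem_map.2 ⟨r, hr, ?_⟩
      rw [if_neg h3]
  rw [h2] at h1
  have h3 := W.smul_mem (w x)⁻¹ h1
  rwa [smul_smul, inv_mul_cancel₀ hx, one_smul] at h3

theorem step_mem {r : ℕ} (hr : r ∈ L12) {y : I27} (hsg : sg r y ≠ 0) (hi : e F (sr r y) ∈ W) : e F y ∈ W := by
  have h1 := hW r hr _ hi
  refine basis_mem hW h1 (x := y) ?_
  rw [Nm_mulVec, e_apply, if_pos rfl, mul_one]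
  exact Act.cast_sg_ne hsg

theorem up_mem (h0 : e F (dec 0) ∈ W) : ∀ (n : ℕ) (y : I27), rk27 y ≤ n → e F y ∈ W := by
  intro n
  induction n with
  | zero =>
    intro y hy
    rcases up_all y with rfl | ⟨r, -, -, h⟩
    · exact h0
    · omega
  | succ n ih =>
    intro y hy
    rcases up_all y with rfl | ⟨r, hr, hsg, h⟩
    · exact h0
    · exact step_mem hW hr hsg (ih _ (by omega))

theorem down_mem : ∀ (n : ℕ) (x : I27), rk27 x ≤ n → e F x ∈ W → e F (dec 0) ∈ W := by
  intro n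
  induction n with
  | zero =>
    intro x hx hm
    rcases down_all x with rfl | ⟨r, -, y, -, -, h⟩
    · exact hm
    · omega
  | succ n ih =>
    intro x hx hm
    rcases down_all x with rfl | ⟨r, hr, y, hsg, hsr, h⟩
    · exact hm
    · exact ih y (by omega) (step_mem hW hr hsg (by rw [hsr]; exact hm))

/-- a non-zero subspace stable under the twelve operators is everything -/
theorem eq_top_of_stable (h0 : W ≠ ⊥) : W = ⊤ := by
  obtain ⟨w, hw, hw0⟩ := Submodule.exists_mem_ne_zero_of_ne_bot h0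
  obtain ⟨x, hx⟩ : ∃ x, w x ≠ 0 := by
    by_contra hcon
    push Not at hcon
    exact hw0 (funext hcon)
  have h1 := down_mem hW _ x le_rfl (basis_mem hW hw hx)
  have h2 : ∀ y, e F y ∈ W := fun y => up_mem hW h1 _ y le_rfl
  rw [eq_top_iff]
  intro v _
  have h3 : v = ∑ k, v k • e F k := by
    funext j
    rw [Finset.sum_apply, Finset.sum_eq_single j]
    · rw [Pi.smul_apply, e_apply, if_pos rfl, smul_eq_mul, mul_one]
    · intro k _ hk
      rw [Pi.smul_apply, e_apply, if_neg (Ne.symm hk), smul_zero]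
    · intro h; exact absurd (Finset.mem_univ _) h
  rw [h3]
  exact Submodule.sum_mem _ fun k _ => W.smul_mem _ (h2 k)

end stable

section tw

variable {F : Type u} [Field F] [Fintype F] {φ : F →+* F} {q : ℕ}

/-- orthogonality on the units -/
theorem sum_units {M : Type*} [AddCommGroup M] [Module F M] {q : ℕ} (hq : 2 ≤ q) (hF : Fintype.card F = q ^ 2)
    (W : Submodule F M) (a b c : M)
    (h : ∀ t : Fˣ, (t : F) • a + (t : F) ^ q • b + (t : F) ^ (q + 1) • c ∈ W) : a ∈ W ∧ b ∈ W ∧ c ∈ W := by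
  classical
  have hcard : Fintype.card F - 1 = q ^ 2 - 1 := by rw [hF]
  have hqq : q + 1 < q ^ 2 := by nlinarith
  have key : ∀ k : ℕ, (∑ t : Fˣ, (t : F) ^ k) = if q ^ 2 - 1 ∣ k then -1 else 0 := by
    intro k
    have h1 := FiniteField.sum_pow_units F k
    rwa [hcard] at h1
  have hs : ∀ k : ℕ, (∑ t : Fˣ, (t : F) ^ (k + 1)) • a + (∑ t : Fˣ, (t : F) ^ (k + q)) • b +
      (∑ t : Fˣ, (t : F) ^ (k + (q + 1))) • c ∈ W := by
    intro k
    have h1 : ∑ t : Fˣ, (t : F) ^ k • ((t : F) • a + (t : F) ^ q • b + (t : F) ^ (q + 1) • c) ∈ W :=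
      W.sum_mem fun t _ => W.smul_mem _ (h t)
    convert h1 using 1
    rw [Finset.sum_smul, Finset.sum_smul, Finset.sum_smul, ← Finset.sum_add_distrib, ← Finset.sum_add_distrib]
    refine Finset.sum_congr rfl fun t _ => ?_
    rw [smul_add, smul_add, smul_smul, smul_smul, smul_smul, pow_succ, pow_add, pow_add _ k (q + 1)]
  have hnd : ∀ k, 0 < k → k < q ^ 2 - 1 → ¬ q ^ 2 - 1 ∣ k := fun k h1 h2 h3 => by
    have := Nat.le_of_dvd h1 h3
    omega
  have hnd' : ∀ k, 0 < k → k < q ^ 2 - 1 → ¬ q ^ 2 - 1 ∣ (q ^ 2 - 1) + k := fun k h1 h2 h3 =>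
    hnd k h1 h2 ((Nat.dvd_add_right (dvd_refl _)).1 h3)
  have hc : c ∈ W := by
    have h1 := hs (q ^ 2 - 1 - (q + 1))
    rw [key, key, key, if_neg (hnd _ (by omega) (by omega)), if_neg (hnd _ (by omega) (by omega)),
      if_pos (by rw [show q ^ 2 - 1 - (q + 1) + (q + 1) = q ^ 2 - 1 by omega]), zero_smul, zero_smul, zero_add, zero_add,
      neg_one_smul] at h1
    exact (Submodule.neg_mem_iff W).1 h1
  have ha : a ∈ W := by
    have h1 := hs (q ^ 2 - 2)
    rw [key, key, key, if_pos (by rw [show q ^ 2 - 2 + 1 = q ^ 2 - 1 by omega]),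
      if_neg (by rw [show q ^ 2 - 2 + q = (q ^ 2 - 1) + (q - 1) by omega]; exact hnd' _ (by omega) (by omega)),
      if_neg (by rw [show q ^ 2 - 2 + (q + 1) = (q ^ 2 - 1) + q by omega]; exact hnd' _ (by omega) (by omega)),
      zero_smul, zero_smul, add_zero, add_zero, neg_one_smul] at h1
    exact (Submodule.neg_mem_iff W).1 h1
  have hb : b ∈ W := by
    have h1 := h 1
    simp only [Units.val_one, one_pow, one_smul] at h1
    have h2 := W.sub_mem (W.sub_mem h1 hc) ha
    rwa [add_sub_cancel_right, add_sub_cancel_left] at h2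
  exact ⟨ha, hb, hc⟩

/-- **`V` is irreducible for `²E₆(q)`** -/
theorem irred (hq : IsPrimePow q) (hF : Fintype.card F = q ^ 2) (hφ : ∀ t, φ t = t ^ q)
    (hqq : ∀ t : F, (t ^ q) ^ q = t) {W : Submodule F (I27 → F)} (hW : ∀ g ∈ Gs φ, ∀ w ∈ W, V F g w ∈ W) :
    W = ⊥ ∨ W = ⊤ := by
  by_cases h0 : W = ⊥
  · exact Or.inl h0
  right
  refine eq_top_of_stable ?_ h0
  have hsingle : ∀ r ∈ [46, 25, 39, 32], ∀ w ∈ W, Nm F r *ᵥ w ∈ W := by
    intro r hr w hw
    have hr' : r < 72 := by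
      simp only [List.mem_cons, List.not_mem_nil, or_false] at hr
      omega
    have h1 := hW _ (zZ_mem_Gs hφ (one_pow q) hr) w hw
    rw [V_zZ hr', one_smul] at h1
    have h2 := W.sub_mem h1 hw
    rwa [add_sub_cancel_left] at h2
  have hpair : ∀ rs ∈ [(56, 36), (15, 35), (42, 37), (29, 34)], ∀ w ∈ W, Nm F rs.1 *ᵥ w ∈ W ∧ Nm F rs.2 *ᵥ w ∈ W := by
    intro rs hrs w hw
    have hr' : rs.1 < 72 ∧ rs.2 < 72 := by
      simp only [List.mem_cons, List.not_mem_nil, or_false] at hrs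
      rcases hrs with rfl | rfl | rfl | rfl <;> decide
    have h1 := sum_units hq.two_le hF W (Nm F rs.1 *ᵥ w) (Nm F rs.2 *ᵥ w) (Nm F rs.1 *ᵥ (Nm F rs.2 *ᵥ w)) (by
      intro t
      have h2 := hW _ (zZ_pair_mem_Gs hφ hqq (t : F) hrs) w hw
      rw [map_mul, Module.End.mul_apply, V_zZ hr'.2, V_zZ hr'.1] at h2
      have h3 := W.sub_mem h2 hw
      convert h3 using 1
      rw [Matrix.mulVec_add, Matrix.mulVec_smul, smul_add, smul_smul, pow_succ']
      abel)
    exact ⟨h1.1, h1.2.1⟩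
  intro r hr w hw
  have h56 := hpair (56, 36) (by decide) w hw
  have h15 := hpair (15, 35) (by decide) w hw
  have h42 := hpair (42, 37) (by decide) w hw
  have h29 := hpair (29, 34) (by decide) w hw
  simp only [L12, List.mem_cons, List.not_mem_nil, or_false] at hr
  rcases hr with rfl | rfl | rfl | rfl | rfl | rfl | rfl | rfl | rfl | rfl | rfl | rfl
  · exact hsingle 46 (by decide) w hw
  · exact hsingle 25 (by decide) w hw
  · exact hsingle 39 (by decide) w hw
  · exact hsingle 32 (by decide) w hw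
  · exact h56.1
  · exact h56.2
  · exact h15.1
  · exact h15.2
  · exact h42.1
  · exact h42.2
  · exact h29.1
  · exact h29.2

/-- the image of a subspace under `J` -/
def mapJ (_hφφ : ∀ t : F, φ (φ t) = t) (W : Submodule F (I27 → F)) : Submodule F (I27 → F) where
  carrier := {x | J φ x ∈ W}
  add_mem' := by
    intro x y hx hy
    rw [Set.mem_ofPred_eq, J_add]
    exact W.add_mem hx hy
  zero_mem' := by rw [Set.mem_ofPred_eq, J_zero]; exact W.zero_mem
  smul_mem' := by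
    intro c x hx
    rw [Set.mem_ofPred_eq, J_smul]
    exact W.smul_mem _ hx

omit [Fintype F] in
theorem mem_mapJ (hφφ : ∀ t : F, φ (φ t) = t) {W : Submodule F (I27 → F)} {x : I27 → F} :
    x ∈ mapJ hφφ W ↔ J φ x ∈ W := Iff.rfl

omit [Fintype F] in
theorem mapJ_mapJ (hφφ : ∀ t : F, φ (φ t) = t) (W : Submodule F (I27 → F)) : mapJ hφφ (mapJ hφφ W) = W := by
  ext x
  rw [mem_mapJ, mem_mapJ, J_J φ hφφ]

/-- **`V'` is irreducible for `²E₆(q)`** -/
theorem irred' (hq : IsPrimePow q) (hF : Fintype.card F = q ^ 2) (hφ : ∀ t, φ t = t ^ q)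
    (hqq : ∀ t : F, (t ^ q) ^ q = t) {W : Submodule F (I27 → F)} (hW : ∀ g ∈ Gs φ, ∀ w ∈ W, V' F g w ∈ W) :
    W = ⊥ ∨ W = ⊤ := by
  have hφφ : ∀ t : F, φ (φ t) = t := fun t => by rw [hφ, hφ, hqq]
  have h1 := irred hq hF hφ hqq (W := mapJ hφφ W) (by
    intro g hg w hw
    rw [mem_mapJ] at hw ⊢
    rw [← V'_J φ hg]
    exact hW g hg _ hw)
  rcases h1 with h | h
  · left
    rw [eq_bot_iff]
    intro x hx
    have h2 : J φ x ∈ mapJ hφφ W := by rw [mem_mapJ, J_J φ hφφ]; exact hx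
    rw [h, Submodule.mem_bot, J_eq_zero φ hφφ] at h2
    exact h2
  · right
    rw [eq_top_iff]
    intro x _
    have h2 : J φ x ∈ mapJ hφφ W := by rw [h]; trivial
    rwa [mem_mapJ, J_J φ hφφ] at h2

end tw

end Cfsg.Agent.R2.H9.E6.TwIrr
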