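import Mathlib
import Cfsg.Agent.R2.H9.E6.TwIrr
import Cfsg.Agent.R2.H9.E6.Cfg
import Cfsg.Agent.H65.E6Full
import Cfsg.Agent.H333.E6Act

/-!
# S5749, S5750: base change to a field `k ⊇ F` (helper9)

* `lie_top`, `lie_Gs` : the `k`-span of the pairs `(V g, V' g)`, `g ∈ Γ`, contains the root elements of the Lie algebra;
* `irr_k`, `irr_k'` : `V_k`, `V'_k` are irreducible for `Γ`;
* `no_form` : no bilinear form on `V_k` is invariant under `Γ` up to scalars.
-/

set_option autoImplicit false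
set_option linter.unusedSectionVars false

namespace Cfsg.Agent.R2.H9.E6.Kb

open Cfsg Cfsg.Lie Module
open scoped Matrix
open Cfsg.Agent.ChevalleyStructure
open Cfsg.Agent.ChevalleyStructure.E6Min.Tables Cfsg.Agent.ChevalleyStructure.E6Min.Basic
  Cfsg.Agent.ChevalleyStructure.E6Min.Adjoint
open Cfsg.Agent.H163.E6 Cfsg.Agent.H163.E6.Act
open Cfsg.Agent.H944.E6Tw
open Cfsg.Agent.H184.GraphE6
open Cfsg.Agent.H65.E6Emb
open Cfsg.Agent.R2.H9.E6.TwIrr
open Cfsg.Agent.H952.F4 (ev es matRep sh cr tf)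

universe u v

section pairs

variable {k : Type v} [Field k]

/-- the pair of matrices on `V` and `V'` -/
def pr (g : GL I27 k) : Matrix I27 I27 k × Matrix I27 I27 k := ((g : Matrix I27 I27 k), ((gU g : GL I27 k) : Matrix I27 I27 k))

/-- the matrix on `V'` of the root element `r` of the Lie algebra -/
def Np (k : Type v) [Field k] (r : ℕ) : Matrix I27 I27 k := -(PM k * Nm k (71 - r) * PM k)

theorem gU_zU {r : ℕ} (hr : r < 72) (t : k) : ((gU (zU r t) : GL I27 k) : Matrix I27 I27 k) = 1 + t • Np k r := by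
  have h1 : ((zU r t)⁻¹ : GL I27 k) = zU r (-t) := by
    rw [inv_eq_iff_mul_eq_one]
    apply Units.ext
    rw [Units.val_mul, coe_zU hr, coe_zU hr, zM_def, zM_def, Units.val_one]
    have h2 := Nm_sq (F := k) hr
    simp only [add_mul, mul_add, one_mul, mul_one, smul_mul_assoc, mul_smul_comm, h2, smul_zero]
    module
  rw [coe_gU, h1, coe_zU hr, zM_transpose hr, zM_def]
  have h3 : PM k * PM k = 1 := PM_sq
  rw [Np, mul_add, add_mul, mul_one, h3, mul_smul_comm, smul_mul_assoc, neg_smul, smul_neg]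

theorem pr_zU {r : ℕ} (hr : r < 72) (t : k) : pr (zU r t) = (1, 1) + t • (Nm k r, Np k r) := by
  rw [pr, gU_zU hr, coe_zU hr, zM_def]
  rfl

theorem pr_mul (g h : GL I27 k) : pr (g * h) = ((pr g).1 * (pr h).1, (pr g).2 * (pr h).2) := by
  rw [pr, gU_mul, Units.val_mul, Units.val_mul]
  rfl

theorem pr_pair {r s : ℕ} (hr : r < 72) (hs : s < 72) (t u : k) : pr (zU r t * zU s u) =
    (1, 1) + (t • (Nm k r, Np k r) + u • (Nm k s, Np k s) + (t * u) • (Nm k r * Nm k s, Np k r * Np k s)) := by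
  rw [pr_mul, pr_zU hr, pr_zU hs]
  ext1
  · simp only [Prod.fst_add, Prod.smul_fst, add_mul, mul_add, one_mul, mul_one, smul_mul_assoc, mul_smul_comm]
    module
  · simp only [Prod.snd_add, Prod.smul_snd, add_mul, mul_add, one_mul, mul_one, smul_mul_assoc, mul_smul_comm]
    module

theorem zU_pow {r : ℕ} (hr : r < 72) (t : k) (n : ℕ) : (zU r t : GL I27 k) ^ n = zU r (n * t) := by
  induction n with
  | zero =>
    rw [pow_zero, Nat.cast_zero, zero_mul]
    apply Units.ext
    rw [coe_zU hr, zM_zero, Units.val_one]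
  | succ n ih =>
    rw [pow_succ, ih]
    apply Units.ext
    rw [Units.val_mul, coe_zU hr, coe_zU hr, coe_zU hr, zM_def, zM_def, zM_def]
    have h2 := Nm_sq (F := k) hr
    simp only [add_mul, mul_add, one_mul, mul_one, smul_mul_assoc, mul_smul_comm, h2, smul_zero, Nat.cast_succ, add_smul]
    module

theorem zU_p {r : ℕ} (hr : r < 72) (t : k) (p : ℕ) [CharP k p] : (zU r t : GL I27 k) ^ p = 1 := by
  rw [zU_pow hr, CharP.cast_eq_zero, zero_mul]
  apply Units.ext
  rw [coe_zU hr, zM_zero, Units.val_one]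

end pairs

section span

variable {F : Type u} [Field F] {k : Type v} [Field k] (f : F →+* k)

theorem map_zU {r : ℕ} (hr : r < 72) (t : F) : Matrix.GeneralLinearGroup.map f (zU r t) = zU r (f t) := by
  apply Units.ext
  rw [coe_zU hr]
  show ((zU r t : GL I27 F) : Matrix I27 I27 F).map f = _
  rw [coe_zU hr, zM_map]

/-- orthogonality on the units, over `k` -/
theorem sum_units_k [Fintype F] {M : Type*} [AddCommGroup M] [Module k M] {q : ℕ} (hq : 2 ≤ q)
    (hF : Fintype.card F = q ^ 2) (W : Submodule k M) (a b c : M)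
    (h : ∀ t : Fˣ, f t • a + f t ^ q • b + f t ^ (q + 1) • c ∈ W) : a ∈ W ∧ b ∈ W ∧ c ∈ W := by
  letI : Module F M := Module.compHom M f
  have h1 := sum_units (F := F) hq hF (M := M) { W with smul_mem' := fun t x hx => W.smul_mem (f t) hx } a b c (by
    intro t
    have h2 := h t
    rw [← map_pow, ← map_pow] at h2
    exact h2)
  exact h1

/-- the pairs of the root elements belong to the span of the group -/
theorem lie_top {p : ℕ} [CharP F p] {S : Submodule k (Matrix I27 I27 k × Matrix I27 I27 k)}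
    (h : ∀ g : ↥(Zgrp F), g ^ p = 1 → pr (emb f g : GL I27 k) ∈ S) : ∀ r ∈ L12, (Nm k r, Np k r) ∈ S := by
  intro r hr
  have hr' := L12_lt r hr
  have h1 := h 1 (one_pow _)
  have h2 := h ⟨zU r 1, zU_mem _ _⟩ (Subtype.ext (zU_p hr' 1 p))
  have e1 : pr (emb f (1 : ↥(Zgrp F)) : GL I27 k) = (1, 1) := by
    have h3 := pr_zU (k := k) hr' 0
    have h4 : (zU r 0 : GL I27 k) = 1 := by
      apply Units.ext
      rw [coe_zU hr', zM_zero, Units.val_one]
    rw [zero_smul, add_zero, h4] at h3
    rw [map_one]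
    exact h3
  rw [e1] at h1
  rw [coe_emb', map_zU f hr', pr_zU hr', map_one, one_smul] at h2
  have h3 := S.sub_mem h2 h1
  rwa [add_sub_cancel_left] at h3

theorem lie_Gs [Fintype F] {p q : ℕ} [CharP F p] {φ : F →+* F} (hq : IsPrimePow q) (hF : Fintype.card F = q ^ 2)
    (hφ : ∀ t, φ t = t ^ q) (hqq : ∀ t : F, (t ^ q) ^ q = t)
    {S : Submodule k (Matrix I27 I27 k × Matrix I27 I27 k)}
    (h : ∀ g ∈ Gs φ, g ^ p = 1 → pr (emb f g : GL I27 k) ∈ S) : ∀ r ∈ L12, (Nm k r, Np k r) ∈ S := by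
  have e1 : pr (emb f (1 : ↥(Zgrp F)) : GL I27 k) = (1, 1) := by
    have h3 := pr_zU (k := k) (show 0 < 72 by norm_num) 0
    have h4 : (zU 0 0 : GL I27 k) = 1 := by
      apply Units.ext
      rw [coe_zU (by norm_num), zM_zero, Units.val_one]
    rw [zero_smul, add_zero, h4] at h3
    rw [map_one]
    exact h3
  have h1 := h 1 (one_mem _) (one_pow _)
  rw [e1] at h1
  have hsingle : ∀ r ∈ [46, 25, 39, 32], (Nm k r, Np k r) ∈ S := by
    intro r hr
    have hr' : r < 72 := by
      simp only [List.mem_cons, List.not_mem_nil, or_false] at hr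
      omega
    have h2 := h _ (zZ_mem_Gs hφ (one_pow q) hr) (Subtype.ext (zU_p hr' 1 p))
    rw [coe_emb'] at h2
    change pr (Matrix.GeneralLinearGroup.map f (zU r 1)) ∈ S at h2
    rw [map_zU f hr', pr_zU hr', map_one, one_smul] at h2
    have h3 := S.sub_mem h2 h1
    rwa [add_sub_cancel_left] at h3
  have hpair : ∀ rs ∈ [(56, 36), (15, 35), (42, 37), (29, 34)], (Nm k rs.1, Np k rs.1) ∈ S ∧ (Nm k rs.2, Np k rs.2) ∈ S := by
    intro rs hrs
    have hr' : rs.1 < 72 ∧ rs.2 < 72 := by
      simp only [List.mem_cons, List.not_mem_nil, or_false] at hrs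
      rcases hrs with rfl | rfl | rfl | rfl <;> decide
    have hcomm : ∀ t u : F, Commute (zU rs.1 t) (zU rs.2 u) := fun t u => zU_comm (by
      simp only [List.mem_cons, List.not_mem_nil, or_false] at hrs ⊢
      rcases hrs with rfl | rfl | rfl | rfl <;> simp) t u
    have h2 := sum_units_k f hq.two_le hF S (Nm k rs.1, Np k rs.1) (Nm k rs.2, Np k rs.2)
      (Nm k rs.1 * Nm k rs.2, Np k rs.1 * Np k rs.2) (by
      intro t
      have h3 := h _ (zZ_pair_mem_Gs hφ hqq (t : F) hrs) (by
        apply Subtype.ext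
        change (zU rs.1 (t : F) * zU rs.2 ((t : F) ^ q)) ^ p = 1
        rw [(hcomm _ _).mul_pow, zU_p hr'.1, zU_p hr'.2, one_mul])
      rw [coe_emb'] at h3
      change pr (Matrix.GeneralLinearGroup.map f (zU rs.1 (t : F) * zU rs.2 ((t : F) ^ q))) ∈ S at h3
      rw [map_mul, map_zU f hr'.1, map_zU f hr'.2, pr_pair hr'.1 hr'.2] at h3
      have h4 := S.sub_mem h3 h1
      rw [add_sub_cancel_left, map_pow, ← pow_succ'] at h4
      exact h4)
    exact ⟨h2.1, h2.2.1⟩
  intro r hr
  have h56 := hpair (56, 36) (by decide)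
  have h15 := hpair (15, 35) (by decide)
  have h42 := hpair (42, 37) (by decide)
  have h29 := hpair (29, 34) (by decide)
  simp only [L12, List.mem_cons, List.not_mem_nil, or_false] at hr
  rcases hr with rfl | rfl | rfl | rfl | rfl | rfl | rfl | rfl | rfl | rfl | rfl | rfl
  · exact hsingle 46 (by decide)
  · exact hsingle 25 (by decide)
  · exact hsingle 39 (by decide)
  · exact hsingle 32 (by decide)
  · exact h56.1
  · exact h56.2
  · exact h15.1
  · exact h15.2
  · exact h42.1
  · exact h42.2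
  · exact h29.1
  · exact h29.2

end span

end Cfsg.Agent.R2.H9.E6.Kb
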