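import Mathlib
import Cfsg.Agent.R2.H9.E6.Kb

/-!
# S5749, S5750: irreducibility over `k`, no invariant bilinear forms (helper9)
-/

set_option autoImplicit false
set_option linter.unusedSectionVars false

namespace Cfsg.Agent.R2.H9.E6.Kb

open Cfsg Cfsg.Lie Module
open scoped Matrix
open Cfsg.Agent.ChevalleyStructure
open Cfsg.Agent.ChevalleyStructure.E6Min.Tables Cfsg.Agent.ChevalleyStructure.E6Min.Basic
  Cfsg.Agent.ChevalleyStructure.E6Min.Adjoint
open Cfsg.Agent.H163.E6 Cfsg.Agent.H163.E6.Act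
open Cfsg.Agent.H944.E6Tw
open Cfsg.Agent.H184.GraphE6
open Cfsg.Agent.H65.E6Emb
open Cfsg.Agent.R2.H9.E6.TwIrr
open Cfsg.Agent.H952.F4 (ev es matRep sh cr tf)

universe u v

/-- the `k`-span of the `p`-elements of `Γ` contains the root elements of the Lie algebra (on `V` and `V'`) -/
def LieG {F : Type u} [Field F] {k : Type v} [Field k] (f : F →+* k) (p : ℕ) (Γ : Subgroup ↥(Zgrp F)) : Prop :=
  ∀ S : Submodule k (Matrix I27 I27 k × Matrix I27 I27 k),
    (∀ g ∈ Γ, g ^ p = 1 → pr (emb f g : GL I27 k) ∈ S) → ∀ r ∈ L12, (Nm k r, Np k r) ∈ S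

theorem sepD : ∀ x y : I27, ∃ r ∈ L12, ind r x ≠ ind (71 - r) (pi y) := by decide +kernel

section main

variable {F : Type u} [Field F] {k : Type v} [Field k] {f : F →+* k} {p : ℕ} {Γ : Subgroup ↥(Zgrp F)}

/-- **`V_k` is irreducible for `Γ`** -/
theorem LieG.irr (h : LieG f p Γ) {W : Submodule k (I27 → k)} (hW : ∀ g ∈ Γ, ∀ w ∈ W, V k (emb f g) w ∈ W) :
    W = ⊥ ∨ W = ⊤ := by
  by_cases h0 : W = ⊥
  · exact Or.inl h0
  right
  refine eq_top_of_stable ?_ h0
  let S : Submodule k (Matrix I27 I27 k × Matrix I27 I27 k) :=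
    { carrier := {AB | ∀ w ∈ W, AB.1 *ᵥ w ∈ W}
      add_mem' := by
        intro A B hA hB w hw
        rw [Prod.fst_add, Matrix.add_mulVec]
        exact W.add_mem (hA w hw) (hB w hw)
      zero_mem' := by
        intro w _
        rw [Prod.fst_zero, Matrix.zero_mulVec]
        exact W.zero_mem
      smul_mem' := by
        intro c A hA w hw
        rw [Prod.smul_fst, Matrix.smul_mulVec]
        exact W.smul_mem _ (hA w hw) }
  intro r hr w hw
  have h1 : (Nm k r, Np k r) ∈ S := h S (fun g hg _ w hw => hW g hg w hw) r hr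
  exact h1 w hw

theorem tf_perp (W : Submodule k (I27 → k)) (hW : ∀ y, (∀ w ∈ W, tf w y = 0) → y = 0) : W = ⊤ := by
  classical
  by_contra hne
  obtain ⟨φ, hφ0, hφ⟩ := Submodule.exists_le_ker_of_lt_top W (lt_top_iff_ne_top.2 hne)
  have h1 : ∃ y, ∀ w, tf w y = φ w := by
    refine ⟨fun i => φ (Pi.single (pi i) 1), fun w => ?_⟩
    rw [tf_eq_dot, dotProduct]
    have h2 : ∀ i, (PM k *ᵥ fun i => φ (Pi.single (pi i) 1)) i = φ (Pi.single i 1) := by
      intro i
      rw [PM_mulVec, pi_pi]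
    simp only [h2]
    conv_rhs => rw [pi_eq_sum_univ' w]
    rw [map_sum]
    refine Finset.sum_congr rfl fun i _ => ?_
    rw [map_smul, smul_eq_mul]
  obtain ⟨y, hy⟩ := h1
  have h2 := hW y fun w hw => by rw [hy]; exact hφ hw
  apply hφ0
  refine LinearMap.ext fun w => ?_
  rw [← hy, h2, LinearMap.zero_apply, tf_eq_dot, Matrix.mulVec_zero, dotProduct_zero]

/-- **`V'_k` is irreducible for `Γ`** -/
theorem LieG.irr' (h : LieG f p Γ) {W : Submodule k (I27 → k)} (hW : ∀ g ∈ Γ, ∀ w ∈ W, V' k (emb f g) w ∈ W) :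
    W = ⊥ ∨ W = ⊤ := by
  let X : Submodule k (I27 → k) :=
    { carrier := {x | ∀ w ∈ W, tf w x = 0}
      add_mem' := by
        intro a b ha hb w hw
        rw [Cfsg.Agent.H952.F4.Jord.tf_add_right, ha w hw, hb w hw, add_zero]
      zero_mem' := by
        intro w _
        have := Cfsg.Agent.H952.F4.Jord.tf_smul_right (0 : k) w 0
        rw [zero_smul, zero_mul] at this
        exact this
      smul_mem' := by
        intro c a ha w hw
        rw [Cfsg.Agent.H952.F4.Jord.tf_smul_right, ha w hw, mul_zero] }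
  have hX : ∀ g ∈ Γ, ∀ x ∈ X, V k (emb f g) x ∈ X := by
    intro g hg x hx w hw
    have h1 := hx _ (hW g⁻¹ (Γ.inv_mem hg) w hw)
    have h2 := tf_act (emb f g) x (V' k (emb f g⁻¹) w)
    rw [map_inv] at h1 h2
    have h3 : V' k (emb f g) (V' k (emb f g)⁻¹ w) = w := by
      rw [← Module.End.mul_apply, ← map_mul, mul_inv_cancel, map_one, Module.End.one_apply]
    rw [h3, Cfsg.Agent.H952.F4.Jord.tf_comm, Cfsg.Agent.H952.F4.Jord.tf_comm x] at h2
    rw [h2, h1]
  rcases h.irr hX with h1 | h1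
  · right
    refine tf_perp W fun y hy => ?_
    have : y ∈ X := hy
    rwa [h1, Submodule.mem_bot] at this
  · left
    rw [eq_bot_iff]
    intro w hw
    rw [Submodule.mem_bot]
    apply Cfsg.Agent.H952.F4.Jord.tf_nondeg
    intro y
    have : y ∈ X := by rw [h1]; trivial
    exact this w hw

theorem Np_Np {r : ℕ} (hr : r < 72) (v : I27 → k) (y : I27) :
    (Np k r *ᵥ (Np k (71 - r) *ᵥ v)) y = ((ind (71 - r) (pi y) : ℤ) : k) * v y := by
  have h1 : Np k r * Np k (71 - r) = PM k * (Nm k (71 - r) * Nm k r) * PM k := by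
    rw [Np, Np, opp_opp hr, neg_mul_neg]
    have h3 : PM k * PM k = 1 := PM_sq
    calc PM k * Nm k (71 - r) * PM k * (PM k * Nm k r * PM k) =
        PM k * Nm k (71 - r) * (PM k * PM k) * Nm k r * PM k := by noncomm_ring
      _ = _ := by rw [h3]; noncomm_ring
  rw [Matrix.mulVec_mulVec, h1, Nm_opp_mul hr, ← Matrix.mulVec_mulVec, ← Matrix.mulVec_mulVec, PM_mulVec,
    Matrix.mulVec_diagonal, PM_mulVec, pi_pi]

/-- **`V_k` and `V'_k` are not isomorphic for `Γ`** -/
theorem LieG.no_hom (h : LieG f p Γ) [CharP k p] [Fact p.Prime] {φ : (I27 → k) →ₗ[k] (I27 → k)}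
    (hφ : ∀ g ∈ Γ, ∃ c : k, ∀ x, φ (V k (emb f g) x) = c • V' k (emb f g) (φ x)) : φ = 0 := by
  by_contra hne
  have hφ1 : ∀ g ∈ Γ, g ^ p = 1 → ∀ x, φ (V k (emb f g) x) = V' k (emb f g) (φ x) := by
    intro g hg hgp
    obtain ⟨c, hc⟩ := hφ g hg
    have h1 : ∀ n : ℕ, ∀ x, φ (V k (emb f (g ^ n)) x) = c ^ n • V' k (emb f (g ^ n)) (φ x) := by
      intro n
      induction n with
      | zero => intro x; simp only [pow_zero, map_one, Module.End.one_apply, one_smul]
      | succ n ih =>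
        intro x
        rw [pow_succ, map_mul, map_mul, Module.End.mul_apply, ih, hc, map_smul, smul_smul, map_mul, Module.End.mul_apply,
          ← pow_succ]
    have h2 : c ^ p = 1 := by
      by_contra hcp
      apply hne
      refine LinearMap.ext fun x => ?_
      have h3 := h1 p
      rw [hgp] at h3
      simp only [map_one, Module.End.one_apply] at h3
      have h4 : (c ^ p - 1) • φ x = 0 := by rw [sub_smul, one_smul, ← h3, sub_self]
      exact (smul_eq_zero.1 h4).resolve_left (sub_ne_zero.2 hcp)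
    have h3 : c = 1 := by
      have h4 : (c - 1) ^ p = 0 := by rw [sub_pow_char, h2, one_pow, sub_self]
      exact sub_eq_zero.1 (pow_eq_zero_iff (Fact.out : p.Prime).ne_zero |>.1 h4)
    intro x
    rw [hc, h3, one_smul]
  let S : Submodule k (Matrix I27 I27 k × Matrix I27 I27 k) :=
    { carrier := {AB | ∀ x, φ (AB.1 *ᵥ x) = AB.2 *ᵥ φ x}
      add_mem' := by
        intro A B hA hB x
        rw [Prod.fst_add, Prod.snd_add, Matrix.add_mulVec, Matrix.add_mulVec, map_add, hA, hB]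
      zero_mem' := by
        intro x
        rw [Prod.fst_zero, Prod.snd_zero, Matrix.zero_mulVec, Matrix.zero_mulVec, map_zero]
      smul_mem' := by
        intro c A hA x
        rw [Prod.smul_fst, Prod.smul_snd, Matrix.smul_mulVec, Matrix.smul_mulVec, map_smul, hA] }
  have hS : ∀ r ∈ L12, ∀ x, φ (Nm k r *ᵥ x) = Np k r *ᵥ φ x := fun r hr => h S (fun g hg hgp x => hφ1 g hg hgp x) r hr
  apply hne
  refine LinearMap.pi_ext' fun x => LinearMap.ext_ring ?_
  funext y
  obtain ⟨r, hr, hxy⟩ := sepD x y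
  have hr' := L12_lt r hr
  rw [LinearMap.comp_apply, LinearMap.zero_comp, LinearMap.zero_apply, Pi.zero_apply, LinearMap.single_apply]
  have h1 := hS r hr (Nm k (71 - r) *ᵥ (Pi.single x (1 : k) : I27 → k))
  rw [hS _ (L12_opp r hr), Matrix.mulVec_mulVec, Nm_mul_opp hr'] at h1
  have h2 := congrFun h1 y
  rw [Np_Np hr'] at h2
  have h3 : (Matrix.diagonal (fun x => ((ind r x : ℤ) : k)) *ᵥ (Pi.single x (1 : k) : I27 → k)) =
      ((ind r x : ℤ) : k) • (Pi.single x (1 : k) : I27 → k) := by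
    funext z
    rw [Matrix.mulVec_diagonal, Pi.smul_apply, smul_eq_mul]
    by_cases hz : z = x
    · rw [hz]
    · rw [Pi.single_eq_of_ne hz, mul_zero, mul_zero]
  rw [h3, map_smul, Pi.smul_apply, smul_eq_mul] at h2
  have h4 : (((ind r x : ℤ) : k) - ((ind (71 - r) (pi y) : ℤ) : k)) * φ (Pi.single x 1) y = 0 := by
    rw [sub_mul, h2, sub_self]
  refine (mul_eq_zero.1 h4).resolve_left ?_
  rcases H163.E6.Cnt.ind_cases r x with h5 | h5 <;> rcases H163.E6.Cnt.ind_cases (71 - r) (pi y) with h6 | h6 <;>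
    rw [h5, h6] at hxy ⊢ <;> simp at hxy ⊢

end main

end Cfsg.Agent.R2.H9.E6.Kb
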