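import Mathlib
import Cfsg.Agent.R2.H9.E6.Kb2
import Cfsg.Agent.H163.E6.TwSemi

/-!
# S5749, S5750: descent from `k` (helper9)

* `desc_top`, `desc_tw` : elements of `Zgrp k` commuting with the semilinear maps come from `Γ`;
* `Cfg.lie` : the hypothesis `LieG` of `Kb2`;
* `Setup.gen` : a subgroup containing `M` and an element of `Γ ∖ M` contains `Γ`.
-/

set_option autoImplicit false
set_option linter.unusedSectionVars false

namespace Cfsg.Agent.R2.H9.E6

open Cfsg Cfsg.Lie Module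
open scoped Matrix
open Cfsg.Agent.ChevalleyStructure
open Cfsg.Agent.ChevalleyStructure.E6Min.Tables Cfsg.Agent.ChevalleyStructure.E6Min.Basic
  Cfsg.Agent.ChevalleyStructure.E6Min.Adjoint
open Cfsg.Agent.H163.E6 Cfsg.Agent.H163.E6.Act Cfsg.Agent.H163.E6.Tw
open Cfsg.Agent.H944.E6Tw
open Cfsg.Agent.H944.E6T (gm coe_gm)
open Matrix (ProjectiveSpecialLinearGroup)
open Cfsg.Agent.H184.GraphE6
open Cfsg.Agent.H65.E6Emb
open Cfsg.Agent.R2.H9.E6.TwIrr Cfsg.Agent.R2.H9.E6.Kb
open Cfsg.Agent.H952.F4 (ev es matRep sh cr tf)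

universe u v w

section desc

variable {F : Type u} [Field F] [Fintype F] {k : Type v} [Field k] (f : F →+* k)

/-- **descent for `E₆(q)`** -/
theorem desc_top (s : k →+* k) (hs : ∀ x, s x = x ^ Fintype.card F) (z : ↥(Zgrp k))
    (h : ∀ x : I27 → k, V k z (fun i => s (x i)) = fun i => s (V k z x i)) : ∃ z0 : ↥(Zgrp F), emb f z0 = z := by
  refine Cfsg.Agent.H65.E6Full.exists_of_pow_all f z fun i j => ?_
  have h1 := congrFun (h (Pi.single j 1)) i
  have h2 : (fun i => s ((Pi.single j (1 : k) : I27 → k) i)) = Pi.single j 1 := by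
    funext i
    by_cases hij : i = j
    · rw [hij, Pi.single_eq_same, map_one]
    · rw [Pi.single_eq_of_ne hij, map_zero]
  rw [h2, V_apply, Matrix.mulVec_single_one, Matrix.col_apply, hs] at h1
  exact h1.symm

theorem map_QU (g : F →+* k) : Matrix.GeneralLinearGroup.map g (QU F) = QU k := by
  apply Units.ext
  show (QM F).map g = QM k
  unfold QM
  rw [Matrix.diagonal_map (map_zero g)]
  congr 1
  funext x
  exact map_intCast g _

/-- **descent for `²E₆(q)`** -/
theorem desc_tw {φ : F →+* F} {q : ℕ} (hF : Fintype.card F = q ^ 2) (hφ : ∀ t, φ t = t ^ q) (s : k →+* k)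
    (hs : ∀ x, s x = x ^ q) (z : ↥(Zgrp k)) (h : ∀ x : I27 → k, V k z (J s x) = J s (V' k z x)) :
    ∃ z0 ∈ Gs φ, emb f z0 = z := by
  have h1 : (z : GL I27 k) = sZ s (z : GL I27 k) := by
    apply Units.ext
    ext i j
    have h2 := congrFun (h (Pi.single j 1)) i
    have h3 : J s (Pi.single j (1 : k)) = ((qe j : ℤ) : k) • (Pi.single j (1 : k) : I27 → k) := by
      funext i
      rw [J_apply, Pi.smul_apply, smul_eq_mul]
      by_cases hij : i = j
      · rw [hij, Pi.single_eq_same, map_one]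
      · rw [Pi.single_eq_of_ne hij, map_zero, mul_zero, mul_zero]
    rw [h3, map_smul, V_apply, Pi.smul_apply, Matrix.mulVec_single_one, Matrix.col_apply, J_apply, V'_apply,
      Matrix.mulVec_single_one, Matrix.col_apply, smul_eq_mul] at h2
    rw [sZ_apply, Units.val_mul, Units.val_mul, coe_QU]
    unfold QM
    rw [Matrix.mul_diagonal, Matrix.diagonal_mul, ← gm_gU, coe_gm, Matrix.map_apply, ← h2]
    have h4 : ((qe j : ℤ) : k) * ((qe j : ℤ) : k) = 1 := by
      have h5 := congrFun (congrFun (QM_sq (F := k)) j) j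
      unfold QM at h5
      rw [Matrix.diagonal_mul_diagonal, Matrix.diagonal_apply_eq, Matrix.one_apply_eq] at h5
      exact h5
    rw [mul_comm, ← mul_assoc, h4, one_mul]
  have h2 : gU (z : GL I27 k) = QU k * gm s (z : GL I27 k) * QU k := by
    conv_lhs => rw [h1]
    rw [sZ_apply, gU_mul, gU_mul, gU_QU, gU_gU]
  have h3 : gm s (gm s (z : GL I27 k)) = z := by
    have h4 : gm s (z : GL I27 k) = QU k * gU (z : GL I27 k) * QU k := by
      rw [h2]
      calc gm s (z : GL I27 k) = 1 * gm s (z : GL I27 k) * 1 := by rw [one_mul, mul_one]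
        _ = (QU k * QU k) * gm s (z : GL I27 k) * (QU k * QU k) := by rw [QU_sq]
        _ = _ := by group
    rw [h4, map_mul, map_mul, gm_QU, gm_gU, ← sZ_apply]
    exact h1.symm
  obtain ⟨z0, hz0⟩ := Cfsg.Agent.H65.E6Full.exists_of_pow_all f z fun i j => by
    have h4 := congrArg (fun y : GL I27 k => (y : Matrix I27 I27 k) i j) h3
    simp only [coe_gm, Matrix.map_apply, hs] at h4
    rw [hF, sq, pow_mul]
    exact h4
  refine ⟨z0, ?_, hz0⟩
  rw [mem_Gs]
  apply emb_injective f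
  apply Subtype.ext
  rw [coe_emb', coe_sE, sZ_apply, map_mul, map_mul, map_QU, ← gU_map]
  have h4 : Matrix.GeneralLinearGroup.map f (gm φ (z0 : GL I27 F)) = gm s (z : GL I27 k) := by
    apply Units.ext
    rw [coe_gm, ← hz0, coe_emb]
    show ((gm φ (z0 : GL I27 F) : GL I27 F) : Matrix I27 I27 F).map f = _
    rw [coe_gm, Matrix.map_map, Matrix.map_map]
    ext i j
    rw [Matrix.map_apply, Matrix.map_apply, Function.comp_apply, Function.comp_apply, hφ, hs, map_pow]
  rw [h4, ← sZ_apply, hz0]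
  exact h1.symm

end desc

section cfg

variable {F : Type u} [Field F] [Fintype F] {K : Type w} [Field K] [Fintype K] {p a b : ℕ}
  {Γ M : Subgroup ↥(Zgrp F)} {ψ : ProjectiveSpecialLinearGroup (Fin 2) K →* ↥(Zgrp F)} {k : Type v} [Field k]

theorem Cfg.lie (h : Cfg p a b Γ M ψ) (f : F →+* k) : LieG f p Γ := by
  intro S hS
  haveI := h.charF
  rcases h.fam with ⟨h1, h2, -⟩ | ⟨h1, φ, h2, h3, h4⟩
  · exact lie_top f fun g hg => hS g (by rw [h1]; trivial) hg
  · refine lie_Gs f (h.prime.isPrimePow.pow (by have := h.hb; omega)) h1 h2 h3 fun g hg hgp => hS g ?_ hgp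
    rw [h4]
    exact hg

theorem Setup.gen {A : Type w} [Group A] {ψ : A →* ↥(Zgrp F)} (h : Setup Γ M ψ) {X : Subgroup ↥(Zgrp F)} (hM : M ≤ X)
    {z : ↥(Zgrp F)} (hz : z ∈ Γ) (hzM : z ∉ M) (hzX : z ∈ X) : Γ ≤ X := by
  rcases h.max (X ⊓ Γ) (le_inf hM h.hle) inf_le_right with h1 | h1
  · exfalso
    apply hzM
    rw [← h1]
    exact ⟨hzX, hz⟩
  · rw [← h1]
    exact inf_le_left

end cfg

end Cfsg.Agent.R2.H9.E6
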