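import Mathlib
import Cfsg.Agent.R2.H9.E6.Kb3
import Cfsg.Agent.H203.E6.Six

/-!
# S5749, S5750: the derivations `D(p, b)` of the cubic form (helper9)

`Dop p b v = ⟨b, v⟩ p - b × (p × v)` for `p ∈ V`, `b ∈ V'`.

* `Dop_conj` : `V g ∘ D(p, b) = D(V g p, V' g b) ∘ V g`;
* `exists_exp` : `1 + D(p, b) ∈ Zgrp` if `⟨p, b⟩ = 0` and `D(p, b)² = 0`;
* `Dop_cr` : `D(p, p × v) = 0` for `p` white; `Dop_zero` : `D(p, b) = 0` implies `b ∈ ann (ker (p × ·))`;
* `Dop_polar` : the polarization of `D(x, x^#) = - N(x)`.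
-/

set_option autoImplicit false
set_option linter.unusedSectionVars false

namespace Cfsg.Agent.R2.H9.E6

open Cfsg Cfsg.Lie Module
open scoped Matrix
open Cfsg.Agent.ChevalleyStructure
open Cfsg.Agent.ChevalleyStructure.E6Min.Tables Cfsg.Agent.ChevalleyStructure.E6Min.Basic
  Cfsg.Agent.ChevalleyStructure.E6Min.Adjoint
open Cfsg.Agent.H163.E6 Cfsg.Agent.H163.E6.Act
open Cfsg.Agent.H952.F4 (ev es matRep sh cr tf)
open Cfsg.Agent.H952.F4.Jord

universe u v

variable {k : Type v} [Field k]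

theorem tf_zero_left (x : I27 → k) : tf (0 : I27 → k) x = 0 := by
  have := tf_smul_left (0 : k) 0 x
  rwa [zero_smul, zero_mul] at this

theorem tf_zero_right (x : I27 → k) : tf x (0 : I27 → k) = 0 := by rw [tf_comm, tf_zero_left]

theorem cr_zero_left (x : I27 → k) : cr (0 : I27 → k) x = 0 := by
  have := cr_smul_left (0 : k) 0 x
  rwa [zero_smul, zero_smul] at this

theorem cr_zero_right (x : I27 → k) : cr x (0 : I27 → k) = 0 := by rw [cr_comm, cr_zero_left]

theorem tf_neg_left (x y : I27 → k) : tf (-x) y = -tf x y := by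
  have := tf_smul_left (-1 : k) x y
  rwa [neg_one_smul, neg_one_mul] at this

theorem tf_neg_right (x y : I27 → k) : tf x (-y) = -tf x y := by rw [tf_comm, tf_neg_left, tf_comm]

theorem tf_sub_left (x x' y : I27 → k) : tf (x - x') y = tf x y - tf x' y := by
  rw [sub_eq_add_neg, tf_add_left, tf_neg_left, ← sub_eq_add_neg]

theorem tf_sub_right (x y y' : I27 → k) : tf x (y - y') = tf x y - tf x y' := by
  rw [tf_comm, tf_sub_left, tf_comm y, tf_comm y']

/-- the linear map `cr x` -/
def crl (x : I27 → k) : (I27 → k) →ₗ[k] (I27 → k) where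
  toFun := cr x
  map_add' := cr_add_right x
  map_smul' c y := cr_smul_right c x y

/-- the linear map `tf x` -/
def tfl (x : I27 → k) : (I27 → k) →ₗ[k] k where
  toFun := tf x
  map_add' := tf_add_right x
  map_smul' c y := tf_smul_right c x y

theorem crl_apply (x y : I27 → k) : crl x y = cr x y := rfl

theorem tfl_apply (x y : I27 → k) : tfl x y = tf x y := rfl

/-- the derivation `D(p, b)` -/
def Dop (p b : I27 → k) : (I27 → k) →ₗ[k] (I27 → k) := (tfl b).smulRight p - (crl b).comp (crl p)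

theorem Dop_apply (p b v : I27 → k) : Dop p b v = tf b v • p - cr b (cr p v) := rfl

theorem tf_Dop (p b v w : I27 → k) : tf (Dop p b v) w = tf v (Dop b p w) := by
  rw [Dop_apply, Dop_apply, tf_sub_left, tf_sub_right, tf_smul_left, tf_smul_right, tf_comm b v, mul_comm,
    tf_comm (cr b (cr p v)) w, ← tf_cr w b, tf_comm (cr w b), cr_comm p v, tf_cr v p, cr_comm w b]

theorem Dop_add_left (p p' b v : I27 → k) : Dop (p + p') b v = Dop p b v + Dop p' b v := by
  rw [Dop_apply, Dop_apply, Dop_apply, cr_add_left, cr_add_right, smul_add]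
  abel

theorem Dop_add_right (p b b' v : I27 → k) : Dop p (b + b') v = Dop p b v + Dop p b' v := by
  rw [Dop_apply, Dop_apply, Dop_apply, cr_add_left, tf_add_left, add_smul]
  abel

theorem Dop_smul_left (c : k) (p b v : I27 → k) : Dop (c • p) b v = c • Dop p b v := by
  rw [Dop_apply, Dop_apply, cr_smul_left, cr_smul_right, smul_sub, smul_comm]

theorem Dop_smul_right (c : k) (p b v : I27 → k) : Dop p (c • b) v = c • Dop p b v := by
  rw [Dop_apply, Dop_apply, cr_smul_left, tf_smul_left, smul_sub, smul_smul]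

theorem V_Dop (g : ↥(Zgrp k)) (p b v : I27 → k) : V k g (Dop p b v) = Dop (V k g p) (V' k g b) (V k g v) := by
  rw [Dop_apply, Dop_apply, map_sub, map_smul, tf_comm (V' k g b), tf_act, tf_comm v, ← cr_act', ← cr_act]

theorem V'_Dop (g : ↥(Zgrp k)) (p b v : I27 → k) : V' k g (Dop b p v) = Dop (V' k g b) (V k g p) (V' k g v) := by
  rw [Dop_apply, Dop_apply, map_sub, map_smul, tf_act, ← cr_act, ← cr_act']

/-- `D(p, b)` is a derivation of the cubic form -/
theorem tf_sh_Dop {p b : I27 → k} (h : tf p b = 0) (v : I27 → k) : tf (sh v) (Dop p b v) = 0 := by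
  rw [Dop_apply, tf_sub_right, tf_smul_right, tf_comm (sh v) (cr b _), tf_cr b, cr_comm (cr p v), cr_comm p v,
    cr_sh_cr, tf_add_right, tf_smul_right, tf_smul_right, tf_comm b p, h]
  ring

/-- the polarization of `tf_sh_Dop` -/
theorem tf_sh_Dop' [NeZero (2 : k)] {p b : I27 → k} (h : tf p b = 0) (v w : I27 → k) :
    tf (sh v) (Dop p b w) + tf (cr v w) (Dop p b v) = 0 := by
  have h1 := tf_sh_Dop h (v + w)
  have h2 := tf_sh_Dop h (v - w)
  have h3 := tf_sh_Dop h v
  have h4 := tf_sh_Dop h w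
  have e1 : sh (v - w) = sh v + sh w - cr v w := by
    have := sh_add v (-w)
    have e2 : sh (-w) = sh w := by
      have := sh_smul (-1 : k) w
      rwa [neg_one_smul, neg_one_sq, one_smul] at this
    have e3 : cr v (-w) = -cr v w := by
      have := cr_smul_right (-1 : k) v w
      rwa [neg_one_smul, neg_one_smul] at this
    rw [e2, e3, ← sub_eq_add_neg, ← sub_eq_add_neg] at this
    exact this
  rw [sh_add, map_add] at h1
  rw [e1, map_sub] at h2
  simp only [tf_add_left, tf_add_right, tf_sub_left, tf_sub_right] at h1 h2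
  have h5 : (2 : k) * (tf (sh v) (Dop p b w) + tf (cr v w) (Dop p b v)) = 0 := by
    linear_combination h1 - h2 - 2 * h4
  exact (mul_eq_zero.1 h5).resolve_left (NeZero.ne 2)


theorem N_exp [NeZero (2 : k)] [NeZero (3 : k)] {p b : I27 → k} (h : tf p b = 0)
    (hsq : ∀ v, Dop p b (Dop p b v) = 0) (v : I27 → k) : cubicT (v + Dop p b v) = cubicT v := by
  have h1 : tf v (sh (Dop p b v)) = 0 := by
    have h2 := tf_sh_Dop' h v (Dop p b v)
    rw [hsq, tf_zero_right, zero_add, tf_cr, cr_self, tf_smul_right] at h2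
    exact (mul_eq_zero.1 h2).resolve_left (NeZero.ne 2)
  have h3 : cubicT (Dop p b v) = 0 := by
    have h4 := tf_sh_Dop' h (Dop p b v) v
    rw [hsq, tf_zero_right, add_zero, tf_sh_self] at h4
    exact (mul_eq_zero.1 h4).resolve_left (NeZero.ne 3)
  rw [N_add, tf_sh_Dop h, h1, h3, add_zero, add_zero, add_zero]

/-- **nilpotent derivations of square zero give elements of the group** -/
theorem exists_exp [NeZero (2 : k)] [NeZero (3 : k)] {p b : I27 → k} (h : tf p b = 0)
    (hsq : ∀ v, Dop p b (Dop p b v) = 0) : ∃ z : ↥(Zgrp k), (∀ v, V k z v = v + Dop p b v) ∧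
      ∀ w, V' k z w = w - Dop b p w := by
  classical
  let A : Matrix I27 I27 k := 1 + LinearMap.toMatrix' (Dop p b)
  let B : Matrix I27 I27 k := 1 - LinearMap.toMatrix' (Dop p b)
  have hDD : LinearMap.toMatrix' (Dop p b) * LinearMap.toMatrix' (Dop p b) = 0 := by
    rw [← LinearMap.toMatrix'_mul]
    have h1 : Dop p b * Dop p b = 0 := LinearMap.ext hsq
    rw [h1, map_zero]
  have hAB : A * B = 1 := by
    have h1 : A * B = 1 - LinearMap.toMatrix' (Dop p b) * LinearMap.toMatrix' (Dop p b) := by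
      show (1 + _) * (1 - _) = _
      noncomm_ring
    rw [h1, hDD, sub_zero]
  have hBA : B * A = 1 := by
    have h1 : B * A = 1 - LinearMap.toMatrix' (Dop p b) * LinearMap.toMatrix' (Dop p b) := by
      show (1 - _) * (1 + _) = _
      noncomm_ring
    rw [h1, hDD, sub_zero]
  let g : GL I27 k := ⟨A, B, hAB, hBA⟩
  have hg : ∀ v, (g : Matrix I27 I27 k) *ᵥ v = v + Dop p b v := by
    intro v
    show (1 + LinearMap.toMatrix' (Dop p b)) *ᵥ v = _
    rw [Matrix.add_mulVec, Matrix.one_mulVec, LinearMap.toMatrix'_mulVec]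
  have hmem : g ∈ Zgrp k := by
    rw [Cfsg.Agent.H65.E6Full.Zgrp_eq_of_three ⟨2, NeZero.ne 2, fun h2 => ?_⟩,
      Cfsg.Agent.ChevalleyStructure.E6Min.Forms.mem_E6univ_iff]
    · intro v
      rw [hg, N_exp h hsq]
    · have h3 : (1 : k) + 1 = 1 := by rw [one_add_one_eq_two]; exact h2
      exact one_ne_zero (left_eq_add.1 h3.symm)
  refine ⟨⟨g, hmem⟩, hg, fun w => ?_⟩
  have hsurj : ∀ y : I27 → k, ∃ x, x + Dop p b x = y := fun y => ⟨y - Dop p b y, by
    rw [map_sub, hsq, sub_zero, sub_add_cancel]⟩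
  have h1 : ∀ y : I27 → k, tf (V' k ⟨g, hmem⟩ w - (w - Dop b p w)) y = 0 := by
    intro y
    obtain ⟨x, rfl⟩ := hsurj y
    rw [tf_sub_left]
    have h2 := tf_act ⟨g, hmem⟩ x w
    have h3 : V k ⟨g, hmem⟩ x = x + Dop p b x := hg x
    rw [h3, tf_comm] at h2
    rw [h2]
    rw [tf_comm (w - _), tf_add_left, tf_sub_right, tf_sub_right, tf_Dop, ← tf_Dop p b (Dop p b x), hsq, tf_zero_left]
    ring
  exact sub_eq_zero.1 (tf_nondeg h1)

/-- `D(p, p × v) = 0` for white `p` -/
theorem Dop_cr {p : I27 → k} (hp : sh p = 0) (v w : I27 → k) : Dop p (cr p v) w = 0 := by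
  have h1 := cr_cr p v w
  rw [hp, cr_zero_left, tf_zero_left, tf_zero_left, zero_smul, zero_smul, add_zero, zero_add, zero_add] at h1
  rw [Dop_apply, h1, tf_cr, sub_self]

theorem Dop_zero {p b : I27 → k} (hp : p ≠ 0) (h : ∀ v, Dop p b v = 0) {v : I27 → k} (hv : cr p v = 0) : tf b v = 0 := by
  have h1 := h v
  rw [Dop_apply, hv, cr_zero_right, sub_zero] at h1
  exact (smul_eq_zero.1 h1).resolve_right hp

/-- the full polarization of `cr_sh_cr` -/
theorem cr_polar (a b c v : I27 → k) : cr (cr a v) (cr b c) + cr (cr b v) (cr a c) + cr (cr a b) (cr v c) =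
    tf (cr a b) v • c + tf (cr a b) c • v + tf a (cr v c) • b + tf b (cr v c) • a := by
  have h1 := cr_cr (a + b) v c
  have h2 := cr_cr a v c
  have h3 := cr_cr b v c
  rw [sh_add] at h1
  simp only [cr_add_left, cr_add_right, tf_add_left, add_smul, smul_add] at h1
  have e1 : cr (cr a v) (cr b c) + cr (cr b v) (cr a c) + cr (cr a b) (cr v c) =
      (cr (cr a v) (cr a c) + cr (cr b v) (cr a c) + (cr (cr a v) (cr b c) + cr (cr b v) (cr b c)) +
        (cr (sh a) (cr v c) + cr (sh b) (cr v c) + cr (cr a b) (cr v c))) -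
      (cr (cr a v) (cr a c) + cr (sh a) (cr v c)) - (cr (cr b v) (cr b c) + cr (sh b) (cr v c)) := by abel
  rw [e1, h1, h2, h3]
  abel

/-- the polarization of `D(x, x^#) = - N(x)` -/
theorem Dop_polar (a b c v : I27 → k) : Dop a (cr b c) v + Dop b (cr a c) v + Dop c (cr a b) v =
    -(tf (cr a b) c • v) := by
  have h1 := cr_polar a b c v
  rw [Dop_apply, Dop_apply, Dop_apply, cr_comm (cr b c), cr_comm (cr a c), cr_comm c v]
  have e1 : tf (cr b c) v = tf b (cr v c) := by rw [tf_cr, cr_comm c v]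
  have e2 : tf (cr a c) v = tf a (cr v c) := by rw [tf_cr, cr_comm c v]
  rw [e1, e2]
  have e3 : cr (cr a v) (cr b c) = tf (cr a b) v • c + tf (cr a b) c • v + tf a (cr v c) • b + tf b (cr v c) • a -
      cr (cr b v) (cr a c) - cr (cr a b) (cr v c) := by rw [← h1]; abel
  rw [e3]
  abel

end Cfsg.Agent.R2.H9.E6
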