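import Mathlib
import Cfsg.Agent.R2.H9.E6.DOp
import Cfsg.Agent.H203.E6.Strong

/-!
# S5749, S5750: the kernel of `cr p` for a white vector `p` has dimension at most 17 (helper9)
-/

set_option autoImplicit false
set_option linter.unusedSectionVars false

namespace Cfsg.Agent.R2.H9.E6

open Cfsg Cfsg.Lie Module
open scoped Matrix
open Cfsg.Agent.ChevalleyStructure
open Cfsg.Agent.ChevalleyStructure.E6Form.Cubic Cfsg.Agent.ChevalleyStructure.E6Form.Table
  Cfsg.Agent.ChevalleyStructure.E6Form.Elim
open Cfsg.Agent.ChevalleyStructure.E6Min.Basic (Zgrp zM zU)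
open Cfsg.Agent.H163.E6 (V V' V_apply)
open Cfsg.Agent.H163.E6.Act
open Cfsg.Agent.H203.E6
open Cfsg.Agent.H952.F4 (sh cr tf)
open Cfsg.Agent.H952.F4.Jord

universe u v

variable {k : Type v} [Field k]

theorem tri_eq_tf (x y z : I27 → k) : tri x y z = tf (cr x y) z := by
  rw [tri_eq, N_add (x + y) z, N_add x z, N_add y z, sh_add, tf_add_left, tf_add_left, tf_add_left]
  ring

theorem apply_of_cr {l : I27} {v : I27 → k} (h : cr (e k l) v = 0) {b : I27} (hb : nc l b = true) : v b = 0 := by
  obtain ⟨-, h1, h2, -, -⟩ := (th_facts l b).1 hb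
  have h3 : tri (e k l) v (e k (th l b)) = 0 := by rw [tri_eq_tf, h, tf_zero_left]
  rw [tri_comm23, tri_e_e, if_pos h1, h2] at h3
  exact (mul_eq_zero.1 h3).resolve_left (sg_ne_zero h1)

theorem card_nc : ∀ l : I27, Fintype.card {b : I27 // nc l b = false} = 17 := by decide +kernel

theorem finrank_ker_e (l : I27) : finrank k (LinearMap.ker (crl (e k l))) ≤ 17 := by
  let f : LinearMap.ker (crl (e k l)) →ₗ[k] ({b : I27 // nc l b = false} → k) :=
    (LinearMap.pi fun b => LinearMap.proj b.1).comp (Submodule.subtype _)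
  have hf : Function.Injective f := by
    rw [← LinearMap.ker_eq_bot, LinearMap.ker_eq_bot']
    intro v hv
    apply Subtype.ext
    funext b
    by_cases hb : nc l b = true
    · exact apply_of_cr v.2 hb
    · rw [Bool.not_eq_true] at hb
      exact congrFun hv ⟨b, hb⟩
  have h1 := LinearMap.finrank_le_finrank_of_injective hf
  rwa [finrank_fintype_fun_eq_card, card_nc] at h1

/-- **white vectors are conjugate to multiples of basis vectors** -/
theorem exists_white {p : I27 → k} (hp0 : p ≠ 0) (hp : sh p = 0) : ∃ (g : ↥(Zgrp k)) (l : I27) (c : k), c ≠ 0 ∧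
    V k g p = c • e k l := by
  obtain ⟨l, hl⟩ : ∃ l, p l ≠ 0 := by
    by_contra hcon
    push Not at hcon
    exact hp0 (funext hcon)
  obtain ⟨h, hh, h1⟩ := eliminate' (Zgrp k) le_rfl l ((singular_iff p).2 hp) hl fun r hr _ _ _ _ t => zG_mem hr t
  exact ⟨⟨h, hh⟩, l, p l, hl, h1⟩

theorem finrank_ker_crl {p : I27 → k} (hp0 : p ≠ 0) (hp : sh p = 0) : finrank k (LinearMap.ker (crl p)) ≤ 17 := by
  obtain ⟨g, l, c, hc, hg⟩ := exists_white hp0 hp
  refine le_trans ?_ (finrank_ker_e (k := k) l)
  let f : LinearMap.ker (crl p) →ₗ[k] LinearMap.ker (crl (e k l)) :=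
    ((V k g).comp (Submodule.subtype _)).codRestrict _ (by
      intro v
      rw [LinearMap.mem_ker, crl_apply, LinearMap.comp_apply]
      have h1 : cr p v = 0 := v.2
      have h2 : cr (c • e k l) (V k g v) = 0 := by rw [← hg, cr_act, h1, map_zero]
      rw [cr_smul_left] at h2
      exact (smul_eq_zero.1 h2).resolve_left hc)
  have hf : Function.Injective f := by
    intro v w hvw
    have h1 := congrArg (fun z : LinearMap.ker (crl (e k l)) => (z : I27 → k)) hvw
    have h2 : V k g v = V k g w := h1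
    apply Subtype.ext
    rw [← V_inv_apply g v, h2, V_inv_apply]
  exact LinearMap.finrank_le_finrank_of_injective hf

/-- **the rank of `cr p` for a white vector `p` is at least 10** -/
theorem finrank_range_crl {p : I27 → k} (hp0 : p ≠ 0) (hp : sh p = 0) : 10 ≤ finrank k (LinearMap.range (crl p)) := by
  have h1 := LinearMap.finrank_range_add_finrank_ker (crl p)
  have h2 := finrank_ker_crl hp0 hp
  have h3 : finrank k (I27 → k) = 27 := by
    rw [finrank_fintype_fun_eq_card]
    rfl
  omega

end Cfsg.Agent.R2.H9.E6
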