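import Mathlib
import Cfsg.Agent.R2.H9.E6.Gr
import Cfsg.Agent.R2.H9.E6.Rank
import Cfsg.Agent.R2.GEO.Five

/-!
# The frame for `V_k = L(12) + L(8) + L(4)` (equal twists) and its torus (helper9)

* `EF τ R v v'` : bases of `V_k`, `V'_k` adapted to `L(12) + L(8) + L(4)`;
* `EF.torus` : the diagonal elements `c ^ weight` belong to `Zgrp k`.
-/

set_option autoImplicit false
set_option linter.unusedSectionVars false

namespace Cfsg.Agent.R2.H9.E6.Gr

open Cfsg.Lie Module Matrix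
open Cfsg.Agent.H943.SL2Rel Cfsg.Agent.H943.SL2Mod Cfsg.Agent.H943.RepAdd
open Cfsg.Agent.ChevalleyStructure Cfsg.Agent.ChevalleyStructure.E6Form.Cubic
  Cfsg.Agent.ChevalleyStructure.E6Form.Table
open Cfsg.Agent.ChevalleyStructure.E6Min.Basic (Zgrp)
open Cfsg.Agent.H952.F4 (sh cr tf)
open Cfsg.Agent.H952.F4.Jord
open Cfsg.Agent.H163.E6 (V V')
open Cfsg.Agent.H163.E6.Act
open Cfsg.Agent.R2.GEO (crB crB_apply tfB tfB_apply gzHom gzHom_apply)

universe u v w

/-- the highest weights -/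
def nn : Fin 3 → ℕ := ![12, 8, 4]

/-- the index set of the bases -/
abbrev Ix : Type := Σ i : Fin 3, Fin (nn i + 1)

theorem card_Ix : Fintype.card Ix = 27 := by decide

variable {k : Type u} [Field k] {K : Type w} [Field K] [Fintype K] [DecidableEq K]

/-- **the frame** -/
structure EF (τ : K →+* k) (R : SpecialLinearGroup (Fin 2) K →* ↥(Zgrp k)) (v v' : Fin 3 → ℕ → (I27 → k)) : Prop where
  ne : ∀ j : ℕ, 0 < j → j ≤ 12 → (j : k) ≠ 0
  card : 13 ≤ Fintype.card K
  bs : ∀ i, Bs τ ((V k).comp R) (nn i) (v i)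
  bs' : ∀ i, Bs τ ((V' k).comp R) (nn i) (v' i)
  sp : ⊤ ≤ Submodule.span k (Set.range fun j : Ix => v j.1 j.2)
  sp' : ⊤ ≤ Submodule.span k (Set.range fun j : Ix => v' j.1 j.2)

theorem V_gzHom (R : SpecialLinearGroup (Fin 2) K →* ↥(Zgrp k)) : (V k).comp ((gzHom k).comp R) = (V' k).comp R := by
  refine MonoidHom.ext fun g => ?_
  exact V_gz (R g)

theorem V'_gzHom (R : SpecialLinearGroup (Fin 2) K →* ↥(Zgrp k)) : (V' k).comp ((gzHom k).comp R) = (V k).comp R := by
  refine MonoidHom.ext fun g => ?_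
  exact V'_gz (R g)

variable {τ : K →+* k} {R : SpecialLinearGroup (Fin 2) K →* ↥(Zgrp k)} {v v' : Fin 3 → ℕ → (I27 → k)}

theorem EF.swap (E : EF τ R v v') : EF τ ((gzHom k).comp R) v' v where
  ne := E.ne
  card := E.card
  bs i := by rw [V_gzHom]; exact E.bs' i
  bs' i := by rw [V'_gzHom]; exact E.bs i
  sp := E.sp'
  sp' := E.sp

/-- the trilinear form -/
noncomputable def T3 (k : Type u) [Field k] : (I27 → k) →ₗ[k] (I27 → k) →ₗ[k] (I27 → k) →ₗ[k] k := (crB k).compr₂ (tfB k)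

theorem T3_apply (x y z : I27 → k) : T3 k x y z = tf (cr x y) z := rfl

theorem T3_act (g : ↥(Zgrp k)) (x y z : I27 → k) : T3 k (V k g x) (V k g y) (V k g z) = T3 k x y z := by
  rw [T3_apply, T3_apply, cr_act, tf_comm, tf_act, tf_comm]

theorem T3_act' (g : ↥(Zgrp k)) (x y z : I27 → k) : T3 k (V' k g x) (V' k g y) (V' k g z) = T3 k x y z := by
  rw [T3_apply, T3_apply, cr_act', tf_act]

theorem T3_inv (R : SpecialLinearGroup (Fin 2) K →* ↥(Zgrp k)) (g : SpecialLinearGroup (Fin 2) K) (x y z : I27 → k) :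
    T3 k (((V k).comp R) g x) (((V k).comp R) g y) (((V k).comp R) g z) = T3 k x y z := by
  rw [MonoidHom.comp_apply, T3_act]

theorem tfB_inv (R : SpecialLinearGroup (Fin 2) K →* ↥(Zgrp k)) (g : SpecialLinearGroup (Fin 2) K) (x y : I27 → k) :
    tfB k (((V k).comp R) g x) (((V' k).comp R) g y) = tfB k x y := by
  rw [MonoidHom.comp_apply, MonoidHom.comp_apply, tfB_apply, tfB_apply, tf_act]

theorem T3_12 (x y z : I27 → k) : T3 k x y z = T3 k y x z := by rw [T3_apply, T3_apply, cr_comm]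

theorem T3_23 (x y z : I27 → k) : T3 k x y z = T3 k x z y := by
  rw [T3_apply, T3_apply, cr_comm x y, tf_comm, cr_comm x z, ← tf_cr, cr_comm z y, tf_cr, tf_comm]

theorem T3_self (x : I27 → k) : T3 k x x x = 6 * cubicT x := by
  rw [T3_apply, cr_self, tf_smul_left, tf_sh_self]
  ring

/-- the exact grading -/
def Grd (v : Fin 3 → ℕ → (I27 → k)) : Prop := ∀ i j l s s' s'', 2 * (s + s' + s'') ≠ nn i + nn j + nn l →
  T3 k (v i s) (v j s') (v l s'') = 0

theorem nn_facts : ∀ i j l : Fin 3, i ≤ j → i ≤ l → nn j ≤ nn i ∧ nn l ≤ nn i ∧ nn l ≤ 12 ∧ nn i ≤ 12 ∧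
    (nn l = 12 → l = 0) ∧ (nn j = 12 → j = 0) ∧ (nn i = 12 → i = 0) := by decide

theorem nn_le (i : Fin 3) : nn i ≤ 12 := (nn_facts i i i le_rfl le_rfl).2.2.2.1

theorem EF.grade_of (E : EF τ R v v') (h : Fintype.card K = 13 → T3 k (v 0 0) (v 0 12) (v 0 12) = 0) : Grd v := by
  have h1 : ∀ i j l : Fin 3, i ≤ j → i ≤ l → ∀ s s' s'', 2 * (s + s' + s'') ≠ nn i + nn j + nn l →
      T3 k (v i s) (v j s') (v l s'') = 0 := by
    intro i j l hij hil s s' s'' hN
    obtain ⟨f1, f2, f3, f4, f5, f6, f7⟩ := nn_facts i j l hij hil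
    have hK := E.card
    have hne : ∀ m, 0 < m → m ≤ nn i → (m : k) ≠ 0 := fun m hm hm' => E.ne m hm (by omega)
    have hq : nn j + nn l ≤ nn i + (Fintype.card K - 1) := by omega
    refine tri_grade' (T3 k) (T3_inv R) (E.bs i) (E.bs j) (E.bs l) hne hq (fun h2 => ?_) s s' s'' hN
    have e1 : nn l = 12 := by omega
    have e2 : nn i = 12 := by omega
    have e3 : nn j = 12 := by omega
    obtain rfl := f5 e1
    obtain rfl := f6 e3
    obtain rfl := f7 e2
    exact h (by omega)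
  intro i j l s s' s'' hN
  rcases le_total i j with hij | hij
  · rcases le_total i l with hil | hil
    · exact h1 i j l hij hil _ _ _ hN
    · rw [T3_23, T3_12]
      exact h1 l i j hil (hil.trans hij) _ _ _ (by omega)
  · rcases le_total j l with hjl | hjl
    · rw [T3_12]
      exact h1 j i l hij hjl _ _ _ (by omega)
    · rw [T3_23, T3_12]
      exact h1 l i j (hjl.trans hij) hjl _ _ _ (by omega)

/-- the basis of `V` -/
noncomputable def EF.B (E : EF τ R v v') : Basis Ix k (I27 → k) :=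
  basisOfTopLeSpanOfCardEqFinrank (fun j : Ix => v j.1 j.2) E.sp (by
    rw [card_Ix, finrank_fintype_fun_eq_card]
    rfl)

theorem EF.B_apply (E : EF τ R v v') (j : Ix) : E.B j = v j.1 j.2 := by
  rw [EF.B, coe_basisOfTopLeSpanOfCardEqFinrank]

/-- the weight -/
def wt (i : Fin 3) (s : ℕ) : ℤ := 2 * (s : ℤ) - nn i

/-- the diagonal map -/
noncomputable def EF.D (E : EF τ R v v') (c : k) : (I27 → k) →ₗ[k] (I27 → k) :=
  E.B.constr k fun j => c ^ wt j.1 j.2 • v j.1 j.2

theorem EF.D_apply (E : EF τ R v v') (c : k) {i : Fin 3} {s : ℕ} (hs : s ≤ nn i) :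
    E.D c (v i s) = c ^ wt i s • v i s := by
  have h1 := E.B.constr_basis k (fun j => c ^ wt j.1 j.2 • v j.1 j.2) ⟨i, ⟨s, by omega⟩⟩
  rw [E.B_apply] at h1
  exact h1

theorem EF.D_inv (E : EF τ R v v') {c : k} (hc : c ≠ 0) (x : I27 → k) : E.D c (E.D c⁻¹ x) = x := by
  have h1 : (E.D c).comp (E.D c⁻¹) = LinearMap.id := by
    refine E.B.ext fun j => ?_
    rw [E.B_apply, LinearMap.comp_apply, E.D_apply _ (by omega), map_smul, E.D_apply _ (by omega), smul_smul,
      ← mul_zpow, inv_mul_cancel₀ hc, _root_.one_zpow, one_smul]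
    rfl
  exact LinearMap.congr_fun h1 x

theorem EF.T3_D (E : EF τ R v v') (G : Grd v) {c : k} (hc : c ≠ 0) (x y z : I27 → k) :
    T3 k (E.D c x) (E.D c y) (E.D c z) = T3 k x y z := by
  have h1 : ∀ j j' j'' : Ix, T3 k (E.D c (E.B j)) (E.D c (E.B j')) (E.D c (E.B j'')) = T3 k (E.B j) (E.B j') (E.B j'') := by
    intro j j' j''
    rw [E.B_apply, E.B_apply, E.B_apply, E.D_apply c (by omega), E.D_apply c (by omega), E.D_apply c (by omega)]
    simp only [map_smul, LinearMap.smul_apply, smul_eq_mul]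
    by_cases h0 : 2 * ((j.2 : ℕ) + j'.2 + j''.2) = nn j.1 + nn j'.1 + nn j''.1
    · rw [← mul_assoc, ← mul_assoc, ← zpow_add₀ hc, ← zpow_add₀ hc]
      have h2 : wt j''.1 j''.2 + wt j'.1 j'.2 + wt j.1 j.2 = 0 := by
        unfold wt
        omega
      rw [h2, zpow_zero, one_mul]
    · rw [G _ _ _ _ _ _ h0, mul_zero, mul_zero, mul_zero]
  have h2 : ∀ j j' : Ix, T3 k (E.D c (E.B j)) (E.D c (E.B j')) (E.D c z) = T3 k (E.B j) (E.B j') z := by
    intro j j'
    have h3 : (T3 k (E.D c (E.B j)) (E.D c (E.B j'))).comp (E.D c) = T3 k (E.B j) (E.B j') :=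
      E.B.ext fun j'' => h1 j j' j''
    exact LinearMap.congr_fun h3 z
  have h3 : ∀ j : Ix, T3 k (E.D c (E.B j)) (E.D c y) (E.D c z) = T3 k (E.B j) y z := by
    intro j
    have h4 : ((T3 k (E.D c (E.B j))).flip (E.D c z)).comp (E.D c) = (T3 k (E.B j)).flip z :=
      E.B.ext fun j' => h2 j j'
    exact LinearMap.congr_fun h4 y
  have h4 : (((T3 k).flip (E.D c y)).flip (E.D c z)).comp (E.D c) = ((T3 k).flip y).flip z := E.B.ext fun j => h3 j
  exact LinearMap.congr_fun h4 x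

theorem EF.six (E : EF τ R v v') : (6 : k) ≠ 0 := by
  have := E.ne 6 (by norm_num) (by norm_num)
  exact_mod_cast this

theorem EF.two (E : EF τ R v v') : (2 : k) ≠ 0 := by
  have := E.ne 2 (by norm_num) (by norm_num)
  exact_mod_cast this

theorem EF.three (E : EF τ R v v') : (3 : k) ≠ 0 := by
  have := E.ne 3 (by norm_num) (by norm_num)
  exact_mod_cast this

theorem EF.pair (E : EF τ R v v') (i j : Fin 3) (s s' : ℕ) (hN : 2 * (s + s') ≠ nn i + nn j) :
    tf (v i s) (v' j s') = 0 := by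
  have hK := E.card
  have h1 := nn_le i
  have h2 := nn_le j
  by_cases hij : nn j < nn i + (Fintype.card K - 1)
  · exact bil_grade (E.bs i) (E.bs' j) (tfB k) (tfB_inv R) (fun m hm hm' => E.ne m hm (by omega)) hij s s' hN
  · have h3 : ∀ i : Fin 3, 4 ≤ nn i := by decide
    have h4 := h3 i
    omega

/-- the torus on the two modules -/
structure Tor (v v' : Fin 3 → ℕ → (I27 → k)) (c : k) (z : ↥(Zgrp k)) : Prop where
  act : ∀ i s, s ≤ nn i → V k z (v i s) = c ^ wt i s • v i s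
  act' : ∀ i s, s ≤ nn i → V' k z (v' i s) = c ^ wt i s • v' i s

theorem EF.torus_of (E : EF τ R v v') (G : Grd v) {c : k} (hc : c ≠ 0) : ∃ z, Tor v v' c z := by
  let A : Matrix I27 I27 k := LinearMap.toMatrix' (E.D c)
  let B : Matrix I27 I27 k := LinearMap.toMatrix' (E.D c⁻¹)
  have hAB : A * B = 1 := by
    show LinearMap.toMatrix' _ * LinearMap.toMatrix' _ = 1
    rw [← LinearMap.toMatrix'_comp, ← LinearMap.toMatrix'_id]
    congr 1
    exact LinearMap.ext fun x => E.D_inv hc x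
  have hBA : B * A = 1 := by
    show LinearMap.toMatrix' _ * LinearMap.toMatrix' _ = 1
    rw [← LinearMap.toMatrix'_comp, ← LinearMap.toMatrix'_id]
    congr 1
    refine LinearMap.ext fun x => ?_
    have := E.D_inv (inv_ne_zero hc) x
    rwa [inv_inv] at this
  let g : GL I27 k := ⟨A, B, hAB, hBA⟩
  have hg : ∀ x, (g : Matrix I27 I27 k) *ᵥ x = E.D c x := fun x => by
    show LinearMap.toMatrix' (E.D c) *ᵥ x = _
    rw [LinearMap.toMatrix'_mulVec]
  have hmem : g ∈ Zgrp k := by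
    rw [Cfsg.Agent.H65.E6Full.Zgrp_eq_of_three ⟨2, E.two, fun h2 => ?_⟩,
      Cfsg.Agent.ChevalleyStructure.E6Min.Forms.mem_E6univ_iff]
    · intro x
      rw [hg]
      apply mul_left_cancel₀ E.six
      rw [← T3_self, ← T3_self, E.T3_D G hc]
    · have h3 : (1 : k) + 1 = 1 := by rw [one_add_one_eq_two]; exact h2
      exact one_ne_zero (left_eq_add.1 h3.symm)
  have hact : ∀ i s, s ≤ nn i → V k ⟨g, hmem⟩ (v i s) = c ^ wt i s • v i s := by
    intro i s hs
    rw [← E.D_apply c hs]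
    exact hg _
  refine ⟨⟨g, hmem⟩, hact, fun j s' hs' => ?_⟩
  have h1 : ∀ x, tf x (V' k ⟨g, hmem⟩ (v' j s') - c ^ wt j s' • v' j s') = 0 := by
    intro x
    have h2 : (tfB k).flip (V' k ⟨g, hmem⟩ (v' j s') - c ^ wt j s' • v' j s') = 0 := by
      refine E.B.ext fun i => ?_
      rw [E.B_apply, LinearMap.zero_apply, LinearMap.flip_apply, tfB_apply, tf_sub_right, tf_smul_right]
      have h3 := tf_act ⟨g, hmem⟩ (v i.1 i.2) (v' j s')
      rw [hact i.1 i.2 (by omega), tf_smul_left] at h3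
      by_cases h0 : 2 * ((i.2 : ℕ) + s') = nn i.1 + nn j
      · have h4 : wt j s' = - wt i.1 i.2 := by
          unfold wt
          omega
        rw [h4, _root_.zpow_neg, ← h3, ← mul_assoc, inv_mul_cancel₀ (zpow_ne_zero _ hc), one_mul, sub_self]
      · rw [E.pair _ _ _ _ h0, mul_eq_zero] at h3
        rw [h3.resolve_left (zpow_ne_zero _ hc), E.pair _ _ _ _ h0, mul_zero, sub_self]
    exact LinearMap.congr_fun h2 x
  have h2 : V' k ⟨g, hmem⟩ (v' j s') - c ^ wt j s' • v' j s' = 0 :=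
    tf_nondeg fun x => by rw [tf_comm]; exact h1 x
  exact sub_eq_zero.1 h2

theorem Tor.swap {c : k} {z : ↥(Zgrp k)} (h : Tor v v' c z) : Tor v' v c (gzHom k z) where
  act i s hs := by
    rw [gzHom_apply, V_gz]
    exact h.act' i s hs
  act' i s hs := by
    rw [gzHom_apply, V'_gz]
    exact h.act i s hs

end Cfsg.Agent.R2.H9.E6.Gr
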