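import Mathlib
import Cfsg.Agent.R2.H22.L4
import Cfsg.Agent.R2.H9.E6.Fr

/-!
# Submodules `V_{4 p^i}` : the covariants of degree 2 (helper9)

`inSoc_four` : if `V_{4 p^i}` is a submodule of `V`, then it is a submodule of `V'` (`p ≥ 5`, `p ≠ 7`, `q ≥ 9`).
-/

set_option autoImplicit false
set_option linter.unusedSectionVars false
set_option linter.unusedSimpArgs false

namespace Cfsg.Agent.R2.H9.E6.Nsp

open Matrix Cfsg.Agent.H943.SL2Rel Cfsg.Agent.H943.SL2Mod Cfsg.Agent.H943.RepAdd
open Cfsg.Lie Cfsg.Agent.R2.H28.SL2 Cfsg.Agent.R2.H22.Loc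
open Cfsg.Agent.ChevalleyStructure Cfsg.Agent.ChevalleyStructure.E6Form.Cubic
  Cfsg.Agent.ChevalleyStructure.E6Form.Table
open Cfsg.Agent.ChevalleyStructure.E6Min.Basic (Zgrp)
open Cfsg.Agent.H952.F4 (sh cr tf)
open Cfsg.Agent.H952.F4.Jord
open Cfsg.Agent.H163.E6 (V V')
open Cfsg.Agent.R2.GEO (Pair crB crB_apply tfB tfB_apply)

universe u v w

attribute [local irreducible] Cfsg.Agent.H952.F4.cr Cfsg.Agent.H952.F4.sh Cfsg.Agent.H952.F4.tf

section comb

variable {k : Type u} [Field k] {E : Type v} [AddCommGroup E] [Module k E]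

theorem half_zero (h3 : (3 : k) ≠ 0) (h2 : (2 : k) ≠ 0) {b : ℕ → ℕ → E} (hs : ∀ n m, b n m = b m n)
    (R : ∀ x ≤ 4, ∀ y ≤ 4, ∀ z ≤ 4, ∀ t ≤ 4, b (x + y) (z + t) + b (x + z) (y + t) + b (x + t) (y + z) = 0) :
    ∀ n m, n + m ≤ 8 → b n m = 0 := by
  have s3 : ∀ x : E, (3 : k) • x = 0 → x = 0 := fun x hx => (smul_eq_zero.1 hx).resolve_left h3
  have s2 : ∀ x : E, (2 : k) • x = 0 → x = 0 := fun x hx => (smul_eq_zero.1 hx).resolve_left h2
  have r0000 : b 0 0 + b 0 0 + b 0 0 = 0 := by
    have h := R 0 (by norm_num) 0 (by norm_num) 0 (by norm_num) 0 (by norm_num)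
    simp only [Nat.reduceAdd] at h
    linear_combination (norm := module) h
  have b00 : b 0 0 = 0 := s3 _ (by linear_combination (norm := module) (1 : k) • r0000)
  have r1000 : b 1 0 + b 1 0 + b 1 0 = 0 := by
    have h := R 1 (by norm_num) 0 (by norm_num) 0 (by norm_num) 0 (by norm_num)
    simp only [Nat.reduceAdd] at h
    linear_combination (norm := module) h
  have b10 : b 1 0 = 0 := s3 _ (by linear_combination (norm := module) (1 : k) • r1000)
  have r1100 : b 2 0 + b 1 1 + b 1 1 = 0 := by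
    have h := R 1 (by norm_num) 1 (by norm_num) 0 (by norm_num) 0 (by norm_num)
    simp only [Nat.reduceAdd] at h
    linear_combination (norm := module) h
  have r2000 : b 2 0 + b 2 0 + b 2 0 = 0 := by
    have h := R 2 (by norm_num) 0 (by norm_num) 0 (by norm_num) 0 (by norm_num)
    simp only [Nat.reduceAdd] at h
    linear_combination (norm := module) h
  have b20 : b 2 0 = 0 := s3 _ (by linear_combination (norm := module) (1 : k) • r2000)
  have b11 : b 1 1 = 0 := s2 _ (s3 _ (by linear_combination (norm := module) (3 : k) • r1100 + (-1 : k) • r2000))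
  have r1110 : b 2 1 + b 2 1 + b 2 1 = 0 := by
    have h := R 1 (by norm_num) 1 (by norm_num) 1 (by norm_num) 0 (by norm_num)
    simp only [Nat.reduceAdd] at h
    linear_combination (norm := module) h - hs 1 2
  have r2100 : b 3 0 + b 2 1 + b 2 1 = 0 := by
    have h := R 2 (by norm_num) 1 (by norm_num) 0 (by norm_num) 0 (by norm_num)
    simp only [Nat.reduceAdd] at h
    linear_combination (norm := module) h
  have b30 : b 3 0 = 0 := s3 _ (by linear_combination (norm := module) (-2 : k) • r1110 + (3 : k) • r2100)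
  have b21 : b 2 1 = 0 := s3 _ (by linear_combination (norm := module) (1 : k) • r1110)
  have r1111 : b 2 2 + b 2 2 + b 2 2 = 0 := by
    have h := R 1 (by norm_num) 1 (by norm_num) 1 (by norm_num) 1 (by norm_num)
    simp only [Nat.reduceAdd] at h
    linear_combination (norm := module) h
  have r2110 : b 3 1 + b 3 1 + b 2 2 = 0 := by
    have h := R 2 (by norm_num) 1 (by norm_num) 1 (by norm_num) 0 (by norm_num)
    simp only [Nat.reduceAdd] at h
    linear_combination (norm := module) h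
  have r2200 : b 4 0 + b 2 2 + b 2 2 = 0 := by
    have h := R 2 (by norm_num) 2 (by norm_num) 0 (by norm_num) 0 (by norm_num)
    simp only [Nat.reduceAdd] at h
    linear_combination (norm := module) h
  have b40 : b 4 0 = 0 := s3 _ (by linear_combination (norm := module) (-2 : k) • r1111 + (3 : k) • r2200)
  have b31 : b 3 1 = 0 := s2 _ (s3 _ (by linear_combination (norm := module) (-1 : k) • r1111 + (3 : k) • r2110))
  have b22 : b 2 2 = 0 := s3 _ (by linear_combination (norm := module) (1 : k) • r1111)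
  have r2111 : b 3 2 + b 3 2 + b 3 2 = 0 := by
    have h := R 2 (by norm_num) 1 (by norm_num) 1 (by norm_num) 1 (by norm_num)
    simp only [Nat.reduceAdd] at h
    linear_combination (norm := module) h
  have r2210 : b 4 1 + b 3 2 + b 3 2 = 0 := by
    have h := R 2 (by norm_num) 2 (by norm_num) 1 (by norm_num) 0 (by norm_num)
    simp only [Nat.reduceAdd] at h
    linear_combination (norm := module) h - hs 2 3
  have r3200 : b 5 0 + b 3 2 + b 3 2 = 0 := by
    have h := R 3 (by norm_num) 2 (by norm_num) 0 (by norm_num) 0 (by norm_num)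
    simp only [Nat.reduceAdd] at h
    linear_combination (norm := module) h
  have b50 : b 5 0 = 0 := s3 _ (by linear_combination (norm := module) (-2 : k) • r2111 + (3 : k) • r3200)
  have b41 : b 4 1 = 0 := s3 _ (by linear_combination (norm := module) (-2 : k) • r2111 + (3 : k) • r2210)
  have b32 : b 3 2 = 0 := s3 _ (by linear_combination (norm := module) (1 : k) • r2111)
  have r2211 : b 4 2 + b 3 3 + b 3 3 = 0 := by
    have h := R 2 (by norm_num) 2 (by norm_num) 1 (by norm_num) 1 (by norm_num)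
    simp only [Nat.reduceAdd] at h
    linear_combination (norm := module) h
  have r2220 : b 4 2 + b 4 2 + b 4 2 = 0 := by
    have h := R 2 (by norm_num) 2 (by norm_num) 2 (by norm_num) 0 (by norm_num)
    simp only [Nat.reduceAdd] at h
    linear_combination (norm := module) h - hs 2 4
  have r3210 : b 5 1 + b 4 2 + b 3 3 = 0 := by
    have h := R 3 (by norm_num) 2 (by norm_num) 1 (by norm_num) 0 (by norm_num)
    simp only [Nat.reduceAdd] at h
    linear_combination (norm := module) h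
  have r3300 : b 6 0 + b 3 3 + b 3 3 = 0 := by
    have h := R 3 (by norm_num) 3 (by norm_num) 0 (by norm_num) 0 (by norm_num)
    simp only [Nat.reduceAdd] at h
    linear_combination (norm := module) h
  have b60 : b 6 0 = 0 := s3 _ (by linear_combination (norm := module) (-3 : k) • r2211 + (1 : k) • r2220 + (3 : k) • r3300)
  have b51 : b 5 1 = 0 := s2 _ (s3 _ (by linear_combination (norm := module) (-3 : k) • r2211 + (-1 : k) • r2220 + (6 : k) • r3210))
  have b42 : b 4 2 = 0 := s3 _ (by linear_combination (norm := module) (1 : k) • r2220)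
  have b33 : b 3 3 = 0 := s2 _ (s3 _ (by linear_combination (norm := module) (3 : k) • r2211 + (-1 : k) • r2220))
  have r2221 : b 4 3 + b 4 3 + b 4 3 = 0 := by
    have h := R 2 (by norm_num) 2 (by norm_num) 2 (by norm_num) 1 (by norm_num)
    simp only [Nat.reduceAdd] at h
    linear_combination (norm := module) h - hs 3 4
  have r3211 : b 5 2 + b 4 3 + b 4 3 = 0 := by
    have h := R 3 (by norm_num) 2 (by norm_num) 1 (by norm_num) 1 (by norm_num)
    simp only [Nat.reduceAdd] at h
    linear_combination (norm := module) h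
  have r3310 : b 6 1 + b 4 3 + b 4 3 = 0 := by
    have h := R 3 (by norm_num) 3 (by norm_num) 1 (by norm_num) 0 (by norm_num)
    simp only [Nat.reduceAdd] at h
    linear_combination (norm := module) h - hs 3 4
  have r4300 : b 7 0 + b 4 3 + b 4 3 = 0 := by
    have h := R 4 (by norm_num) 3 (by norm_num) 0 (by norm_num) 0 (by norm_num)
    simp only [Nat.reduceAdd] at h
    linear_combination (norm := module) h
  have b70 : b 7 0 = 0 := s3 _ (by linear_combination (norm := module) (-2 : k) • r2221 + (3 : k) • r4300)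
  have b61 : b 6 1 = 0 := s3 _ (by linear_combination (norm := module) (-2 : k) • r2221 + (3 : k) • r3310)
  have b52 : b 5 2 = 0 := s3 _ (by linear_combination (norm := module) (-2 : k) • r2221 + (3 : k) • r3211)
  have b43 : b 4 3 = 0 := s3 _ (by linear_combination (norm := module) (1 : k) • r2221)
  have r2222 : b 4 4 + b 4 4 + b 4 4 = 0 := by
    have h := R 2 (by norm_num) 2 (by norm_num) 2 (by norm_num) 2 (by norm_num)
    simp only [Nat.reduceAdd] at h
    linear_combination (norm := module) h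
  have r3221 : b 5 3 + b 5 3 + b 4 4 = 0 := by
    have h := R 3 (by norm_num) 2 (by norm_num) 2 (by norm_num) 1 (by norm_num)
    simp only [Nat.reduceAdd] at h
    linear_combination (norm := module) h
  have r3311 : b 6 2 + b 4 4 + b 4 4 = 0 := by
    have h := R 3 (by norm_num) 3 (by norm_num) 1 (by norm_num) 1 (by norm_num)
    simp only [Nat.reduceAdd] at h
    linear_combination (norm := module) h
  have r4310 : b 7 1 + b 5 3 + b 4 4 = 0 := by
    have h := R 4 (by norm_num) 3 (by norm_num) 1 (by norm_num) 0 (by norm_num)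
    simp only [Nat.reduceAdd] at h
    linear_combination (norm := module) h
  have r4400 : b 8 0 + b 4 4 + b 4 4 = 0 := by
    have h := R 4 (by norm_num) 4 (by norm_num) 0 (by norm_num) 0 (by norm_num)
    simp only [Nat.reduceAdd] at h
    linear_combination (norm := module) h
  have b80 : b 8 0 = 0 := s3 _ (by linear_combination (norm := module) (-2 : k) • r2222 + (3 : k) • r4400)
  have b71 : b 7 1 = 0 := s2 _ (s3 _ (by linear_combination (norm := module) (-1 : k) • r2222 + (-3 : k) • r3221 + (6 : k) • r4310))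
  have b62 : b 6 2 = 0 := s3 _ (by linear_combination (norm := module) (-2 : k) • r2222 + (3 : k) • r3311)
  have b53 : b 5 3 = 0 := s2 _ (s3 _ (by linear_combination (norm := module) (-1 : k) • r2222 + (3 : k) • r3221))
  have b44 : b 4 4 = 0 := s3 _ (by linear_combination (norm := module) (1 : k) • r2222)
  have key : ∀ n m, m ≤ n → n + m ≤ 8 → b n m = 0 := by
    intro n m hmn hnm
    have hm : m ≤ 4 := by omega
    have hn : n ≤ 8 := by omega
    interval_cases m <;> interval_cases n <;> first | assumption | omega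
  intro n m hnm
  rcases le_total m n with h | h
  · exact key n m h hnm
  · rw [hs]
    exact key m n h (by omega)

theorem all_zero (h3 : (3 : k) ≠ 0) (h2 : (2 : k) ≠ 0) {b : ℕ → ℕ → E} (hs : ∀ n m, b n m = b m n)
    (R : ∀ x ≤ 4, ∀ y ≤ 4, ∀ z ≤ 4, ∀ t ≤ 4, b (x + y) (z + t) + b (x + z) (y + t) + b (x + t) (y + z) = 0) :
    ∀ n ≤ 8, ∀ m ≤ 8, b n m = 0 := by
  intro n hn m hm
  rcases le_total (n + m) 8 with h | h
  · exact half_zero h3 h2 hs R n m h
  · have h1 := half_zero h3 h2 (b := fun n m => b (8 - n) (8 - m)) (fun n m => hs _ _) (fun x hx y hy z hz t ht => by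
      have h2 := R (4 - x) (by omega) (4 - y) (by omega) (4 - z) (by omega) (4 - t) (by omega)
      rw [show 8 - (x + y) = 4 - x + (4 - y) by omega, show 8 - (z + t) = 4 - z + (4 - t) by omega,
        show 8 - (x + z) = 4 - x + (4 - z) by omega, show 8 - (y + t) = 4 - y + (4 - t) by omega,
        show 8 - (x + t) = 4 - x + (4 - t) by omega, show 8 - (y + z) = 4 - y + (4 - z) by omega]
      exact h2) (8 - n) (8 - m) (by omega)
    rwa [show 8 - (8 - n) = n by omega, show 8 - (8 - m) = m by omega] at h1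

end comb

variable {k : Type u} [Field k] [DecidableEq k] [IsAlgClosed k] {K : Type w} [Field K] [Fintype K] [DecidableEq K]
  {ι : K →+* k} {p a : ℕ} [Fact p.Prime] [CharP k p] [CharP K p]
  {ψ : SpecialLinearGroup (Fin 2) K →* ↥(Zgrp k)} {ρ ρ' : Representation k ↥(Zgrp k) (I27 → k)}

section four

variable {i : ℕ} {v : ℕ → I27 → k}

omit [DecidableEq k] [IsAlgClosed k] in
theorem pow_mul_inv_pow {X : k} (hX : X ≠ 0) {n s : ℕ} (hs : s ≤ n) : X ^ s * X⁻¹ ^ (n - s) = X ^ (2 * (s : ℤ) - n) := by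
  rw [← zpow_natCast, ← zpow_natCast, _root_.inv_zpow', ← zpow_add₀ hX]
  congr 1
  omega

/-- the covariants of type `V_4` -/
def cov (v : ℕ → I27 → k) : ℕ → I27 → k
  | 0 => (6 : k) • (cr (v 0) (v 2) - cr (v 1) (v 1))
  | 1 => (3 : k) • (cr (v 0) (v 3) - cr (v 1) (v 2))
  | 2 => cr (v 0) (v 4) + (2 : k) • cr (v 1) (v 3) - (3 : k) • cr (v 2) (v 2)
  | 3 => (3 : k) • (cr (v 1) (v 4) - cr (v 2) (v 3))
  | 4 => (6 : k) • (cr (v 2) (v 4) - cr (v 3) (v 3))
  | _ => 0

theorem cov_ch (f : Fra p a ψ ρ ρ') (c : Ch ι p (Rr ρ ψ) 4 i v) : Ch ι p (Rr ρ' ψ) 4 i (cov v) := by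
  have w' : ∀ x y, cr (ρ (ψ w) x) (ρ (ψ w) y) = ρ' (ψ w) (cr x y) := pair_cr f.pair _
  have u' : ∀ t x y, cr (ρ (ψ (u t)) x) (ρ (ψ (u t)) y) = ρ' (ψ (u t)) (cr x y) := fun t => pair_cr f.pair _
  obtain ⟨w0, w1, w2, w3, w4⟩ := four_w c
  have c10 := cr_comm (v 1) (v 0)
  have c20 := cr_comm (v 2) (v 0)
  have c30 := cr_comm (v 3) (v 0)
  have c40 := cr_comm (v 4) (v 0)
  have c21 := cr_comm (v 2) (v 1)
  have c31 := cr_comm (v 3) (v 1)
  have c41 := cr_comm (v 4) (v 1)
  have c32 := cr_comm (v 3) (v 2)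
  have c42 := cr_comm (v 4) (v 2)
  have c43 := cr_comm (v 4) (v 3)
  refine ⟨fun s hs => ?_, fun s hs t => ?_, fun s hs b => ?_, fun s hs => ?_⟩
  · obtain ⟨m, rfl⟩ : ∃ m, s = m + 5 := ⟨s - 5, by omega⟩
    rfl
  · obtain ⟨u0, u1, u2, u3, u4⟩ := four_u c t
    rw [Rr_apply]
    interval_cases s
    · simp only [cov, map_smul, map_sub, map_add, ← u', u0, u1, u2, u3, u4, cr_add_left, cr_add_right, cr_smul_left,
        cr_smul_right, c10, c20, c30, c40, c21, c31, c41, c32, c42, c43, Finset.sum_range_succ, Finset.sum_range_zero,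
        Nat.choose, Nat.reduceAdd, Nat.reduceSub, Nat.cast_one, Nat.cast_ofNat]
      module
    · simp only [cov, map_smul, map_sub, map_add, ← u', u0, u1, u2, u3, u4, cr_add_left, cr_add_right, cr_smul_left,
        cr_smul_right, c10, c20, c30, c40, c21, c31, c41, c32, c42, c43, Finset.sum_range_succ, Finset.sum_range_zero,
        Nat.choose, Nat.reduceAdd, Nat.reduceSub, Nat.cast_one, Nat.cast_ofNat]
      module
    · simp only [cov, map_smul, map_sub, map_add, ← u', u0, u1, u2, u3, u4, cr_add_left, cr_add_right, cr_smul_left,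
        cr_smul_right, c10, c20, c30, c40, c21, c31, c41, c32, c42, c43, Finset.sum_range_succ, Finset.sum_range_zero,
        Nat.choose, Nat.reduceAdd, Nat.reduceSub, Nat.cast_one, Nat.cast_ofNat]
      module
    · simp only [cov, map_smul, map_sub, map_add, ← u', u0, u1, u2, u3, u4, cr_add_left, cr_add_right, cr_smul_left,
        cr_smul_right, c10, c20, c30, c40, c21, c31, c41, c32, c42, c43, Finset.sum_range_succ, Finset.sum_range_zero,
        Nat.choose, Nat.reduceAdd, Nat.reduceSub, Nat.cast_one, Nat.cast_ofNat]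
      module
    · simp only [cov, map_smul, map_sub, map_add, ← u', u0, u1, u2, u3, u4, cr_add_left, cr_add_right, cr_smul_left,
        cr_smul_right, c10, c20, c30, c40, c21, c31, c41, c32, c42, c43, Finset.sum_range_succ, Finset.sum_range_zero,
        Nat.choose, Nat.reduceAdd, Nat.reduceSub, Nat.cast_one, Nat.cast_ofNat]
      module
  · have hX : (ι (b : K) ^ p ^ i) ≠ 0 := pow_ne_zero _ ((map_ne_zero ι).2 b.ne_zero)
    have e := fun n s hs => pow_mul_inv_pow hX (n := n) (s := s) hs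
    have hcr : ∀ x ≤ 4, ∀ y ≤ 4, x + y = s + 2 → ρ' (ψ (h b)) (cr (v x) (v y)) =
        ((ι (b : K) ^ p ^ i) ^ s * ((ι (b : K) ^ p ^ i)⁻¹) ^ (4 - s)) • cr (v x) (v y) := by
      intro x hx y hy hxy
      have h1 := c.h x hx b
      have h2 := c.h y hy b
      rw [Rr_apply] at h1 h2
      rw [← pair_cr f.pair, h1, h2, cr_smul_left, cr_smul_right, smul_smul, e _ _ hx, e _ _ hy, e _ _ hs,
        ← zpow_add₀ hX]
      congr 2
      push_cast
      omega
    rw [Rr_apply]
    interval_cases s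
    · simp only [cov, map_smul, map_sub, map_add, hcr 0 (by norm_num) 2 (by norm_num) rfl,
        hcr 1 (by norm_num) 1 (by norm_num) rfl]
      module
    · simp only [cov, map_smul, map_sub, map_add, hcr 0 (by norm_num) 3 (by norm_num) rfl,
        hcr 1 (by norm_num) 2 (by norm_num) rfl]
      module
    · simp only [cov, map_smul, map_sub, map_add, hcr 0 (by norm_num) 4 (by norm_num) rfl,
        hcr 1 (by norm_num) 3 (by norm_num) rfl, hcr 2 (by norm_num) 2 (by norm_num) rfl]
      module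
    · simp only [cov, map_smul, map_sub, map_add, hcr 1 (by norm_num) 4 (by norm_num) rfl,
        hcr 2 (by norm_num) 3 (by norm_num) rfl]
      module
    · simp only [cov, map_smul, map_sub, map_add, hcr 2 (by norm_num) 4 (by norm_num) rfl,
        hcr 3 (by norm_num) 3 (by norm_num) rfl]
      module
  · rw [Rr_apply]
    have w1' : ρ (ψ w) (v 1) = (-1 : k) • v 3 := by rw [w1, neg_one_smul]
    have w3' : ρ (ψ w) (v 3) = (-1 : k) • v 1 := by rw [w3, neg_one_smul]
    interval_cases s <;>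
    · simp only [cov, map_smul, map_sub, map_add, ← w', w0, w1', w2, w3', w4, cr_smul_left, cr_smul_right, c10, c20, c30,
        c40, c21, c31, c41, c32, c42, c43]
      module

theorem bs_of_ch [ExpChar k p] {σ : Representation k (SpecialLinearGroup (Fin 2) K) (I27 → k)} {n : ℕ}
    (c : Ch ι p σ n i v) : Gr.Bs ((iterateFrobenius k p i).comp ι) σ n v where
  zero := c.zero
  u s hs t := by
    rw [c.u s hs t]
    rfl
  h s hs a := by
    rw [c.h s hs a]
    rfl
  w := c.w

/-- **the covariants do not vanish** -/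
theorem cov_ne (f : Fra p a ψ ρ ρ') (h5 : 5 ≤ p) (h7 : p ≠ 7) (h9 : 9 ≤ Fintype.card K) (nts : Nts ψ ρ) (nts' : Nts ψ ρ')
    (c : Ch ι p (Rr ρ ψ) 4 i v) (hv : v 0 ≠ 0) : ∃ s, cov v s ≠ 0 := by
  by_contra hcon
  push Not at hcon
  apply hv
  have hp : p.Prime := Fact.out
  have hexp : ExpChar k p := ExpChar.prime hp
  have hq : ∀ j : ℕ, 0 < j → j ≤ 4 → (j : k) ≠ 0 := by
    intro j hj hj' h0
    have := Nat.le_of_dvd hj ((CharP.cast_eq_zero_iff k p j).1 h0)
    omega
  have h2 : (2 : k) ≠ 0 := by exact_mod_cast hq 2 (by norm_num) (by norm_num)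
  have h3 : (3 : k) ≠ 0 := by exact_mod_cast hq 3 (by norm_num) (by norm_num)
  have h7' : (7 : k) ≠ 0 := by
    intro h0
    have h1 : ((7 : ℕ) : k) = 0 := by exact_mod_cast h0
    rw [CharP.cast_eq_zero_iff k p] at h1
    exact h7 ((Nat.prime_dvd_prime_iff_eq hp (by norm_num)).1 h1)
  have can : ∀ (e : k) (x : I27 → k), e ≠ 0 → e • x = 0 → x = 0 := fun e x he hx => (smul_eq_zero.1 hx).resolve_left he
  have s6 : (6 : k) ≠ 0 := by
    rw [show (6 : k) = 2 * 3 by norm_num]
    exact mul_ne_zero h2 h3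
  have w' : ∀ x y, cr (ρ (ψ w) x) (ρ (ψ w) y) = ρ' (ψ w) (cr x y) := pair_cr f.pair _
  have u' : ∀ t x y, cr (ρ (ψ (u t)) x) (ρ (ψ (u t)) y) = ρ' (ψ (u t)) (cr x y) := fun t => pair_cr f.pair _
  obtain ⟨w0, w1, w2, w3, w4⟩ := four_w c
  have c10 := cr_comm (v 1) (v 0)
  have c20 := cr_comm (v 2) (v 0)
  have c30 := cr_comm (v 3) (v 0)
  have c40 := cr_comm (v 4) (v 0)
  have c21 := cr_comm (v 2) (v 1)
  have c31 := cr_comm (v 3) (v 1)
  have c41 := cr_comm (v 4) (v 1)
  have c32 := cr_comm (v 3) (v 2)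
  have c42 := cr_comm (v 4) (v 2)
  have c43 := cr_comm (v 4) (v 3)
  have k02 : cr (v 0) (v 2) = cr (v 1) (v 1) := sub_eq_zero.1 (can _ _ s6 (hcon 0))
  have k03 : cr (v 0) (v 3) = cr (v 1) (v 2) := sub_eq_zero.1 (can _ _ h3 (hcon 1))
  have k14 : cr (v 1) (v 4) = cr (v 2) (v 3) := sub_eq_zero.1 (can _ _ h3 (hcon 3))
  have k24 : cr (v 2) (v 4) = cr (v 3) (v 3) := sub_eq_zero.1 (can _ _ s6 (hcon 4))
  have e2 : cr (v 0) (v 4) + (2 : k) • cr (v 1) (v 3) - (3 : k) • cr (v 2) (v 2) = 0 := hcon 2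
  -- the invariant
  have efix : cr (v 0) (v 4) - (4 : k) • cr (v 1) (v 3) + (3 : k) • cr (v 2) (v 2) = 0 := by
    refine fix_zero f.swap (fun t => ?_) (fun b => ?_) ?_
    · obtain ⟨u0, u1, u2, u3, u4⟩ := four_u c t
      simp only [map_smul, map_sub, map_add, ← u', u0, u1, u2, u3, u4, cr_add_left, cr_add_right, cr_smul_left,
        cr_smul_right, c10, c20, c30, c40, c21, c31, c41, c32, c42, c43]
      module
    · have hX : (ι (b : K) ^ p ^ i) ≠ 0 := pow_ne_zero _ ((map_ne_zero ι).2 b.ne_zero)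
      have hcr : ∀ x ≤ 4, ∀ y ≤ 4, x + y = 4 → ρ' (ψ (h b)) (cr (v x) (v y)) = cr (v x) (v y) := by
        intro x hx y hy hxy
        have h1 := c.h x hx b
        have h2 := c.h y hy b
        rw [Rr_apply] at h1 h2
        rw [← pair_cr f.pair, h1, h2, cr_smul_left, cr_smul_right, smul_smul, pow_mul_inv_pow hX hx,
          pow_mul_inv_pow hX hy, ← zpow_add₀ hX]
        have : (2 * (x : ℤ) - (4 : ℕ) + (2 * (y : ℤ) - (4 : ℕ))) = 0 := by
          push_cast
          omega
        rw [this, zpow_zero, one_smul]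
      simp only [map_smul, map_sub, map_add, hcr 0 (by norm_num) 4 (by norm_num) rfl,
        hcr 1 (by norm_num) 3 (by norm_num) rfl, hcr 2 (by norm_num) 2 (by norm_num) rfl]
    · have w1' : ρ (ψ w) (v 1) = (-1 : k) • v 3 := by rw [w1, neg_one_smul]
      have w3' : ρ (ψ w) (v 3) = (-1 : k) • v 1 := by rw [w3, neg_one_smul]
      simp only [map_smul, map_sub, map_add, ← w', w0, w1', w2, w3', w4, cr_smul_left, cr_smul_right, c10, c20, c30,
        c40, c21, c31, c41, c32, c42, c43]
      module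
  have k13 : cr (v 1) (v 3) = cr (v 2) (v 2) := by
    rw [← sub_eq_zero]
    refine can _ _ s6 ?_
    linear_combination (norm := module) e2 - efix
  have k04 : cr (v 0) (v 4) = cr (v 2) (v 2) := by
    rw [k13] at e2
    linear_combination (norm := module) e2
  -- the squares
  obtain ⟨z, hz⟩ : ∃ z : ℕ → I27 → k, z = fun n => if n ≤ 4 then cr (v 0) (v n) else cr (v (n - 4)) (v 4) := ⟨_, rfl⟩
  have hcz : ∀ x ≤ 4, ∀ y ≤ 4, cr (v x) (v y) = z (x + y) := by
    intro x hx y hy
    rw [hz]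
    interval_cases x <;> interval_cases y <;>
      simp only [Nat.reduceAdd, Nat.reduceSub, Nat.reduceLeDiff, if_true, if_false, c10, c20, c30, c40, c21, c31, c41, c32,
        c42, c43, k02, k03, k14, k24, k13, k04]
  -- the trilinear form
  have hT : ∀ g x y z, Gr.T3 k (Rr ρ ψ g x) (Rr ρ ψ g y) (Rr ρ ψ g z) = Gr.T3 k x y z := fun g x y z => tri_inv f g x y z
  have B := bs_of_ch c
  have gr : ∀ x y l, x + y + l ≠ 6 → tf (cr (v x) (v y)) (v l) = 0 := fun x y l hne =>
    Gr.tri_grade (Gr.T3 k) hT B B B (fun j hj hj' => hq j hj hj') (by omega) x y l (by omega)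
  have hsym' : ∀ x y z : I27 → k, tf (cr x y) z = tf (cr x z) y := fun x y z => by rw [tf_cr, cr_comm y z, ← tf_cr]
  have hsw : ∀ x ≤ 4, ∀ y ≤ 4, ∀ l ≤ 4, tf (z (x + y)) (v l) = tf (z (x + l)) (v y) := fun x hx y hy l hl => by
    rw [← hcz x hx y hy, ← hcz x hx l hl, hsym']
  have t24 : tf (z 2) (v 4) = tf (z 4) (v 2) := hsw 0 (by norm_num) 2 (by norm_num) 4 (by norm_num)
  have t33 : tf (z 3) (v 3) = tf (z 4) (v 2) := hsw 1 (by norm_num) 2 (by norm_num) 3 (by norm_num)
  have t51 : tf (z 5) (v 1) = tf (z 4) (v 2) := (hsw 2 (by norm_num) 3 (by norm_num) 1 (by norm_num)).trans t33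
  have t60 : tf (z 6) (v 0) = tf (z 4) (v 2) := (hsw 2 (by norm_num) 4 (by norm_num) 0 (by norm_num)).trans t24
  have t42 : tf (z 4) (v 2) = 0 := by
    have h := Gr.tri_der (Gr.T3 k) hT B B B (N := 6) (fun s s' s'' hss => gr s s' s'' (by omega)) (s := 4) (s' := 1)
      (s'' := 0) (by norm_num) (by norm_num) (by norm_num) (by norm_num)
    simp only [Gr.T3_apply, Nat.reduceAdd, Nat.reduceSub, Nat.cast_zero, zero_mul, zero_add, Nat.cast_ofNat] at h
    rw [hcz 4 (by norm_num) 2 (by norm_num), hcz 4 (by norm_num) 1 (by norm_num)] at h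
    simp only [Nat.reduceAdd, t60, t51] at h
    have h' : (7 : k) * tf (z 4) (v 2) = 0 := by linear_combination h
    exact (mul_eq_zero.1 h').resolve_left h7'
  have T0 : ∀ x ≤ 4, ∀ y ≤ 4, ∀ l ≤ 4, tf (cr (v x) (v y)) (v l) = 0 := by
    intro x hx y hy l hl
    by_cases hne : x + y + l = 6
    · rw [hcz x hx y hy]
      obtain ⟨n, hn⟩ : ∃ n, n = x + y := ⟨_, rfl⟩
      rw [← hn]
      have hn6 : n = 6 - l := by omega
      rw [hn6]
      interval_cases l <;> simp only [Nat.reduceSub, Nat.sub_zero, t24, t33, t51, t60, t42]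
    · exact gr x y l hne
  have L : ∀ x ≤ 4, ∀ y ≤ 4, ∀ l ≤ 4, ∀ t ≤ 4, cr (z (x + y)) (z (l + t)) + cr (z (x + l)) (z (y + t)) +
      cr (z (x + t)) (z (y + l)) = 0 := by
    intro x hx y hy l hl t ht
    rw [← hcz x hx y hy, ← hcz l hl t ht, ← hcz x hx l hl, ← hcz y hy t ht, ← hcz x hx t ht, ← hcz y hy l hl, cr4,
      T0 x hx y hy l hl, T0 x hx y hy t ht, T0 x hx l hl t ht, T0 y hy l hl t ht]
    simp
  have Z := all_zero h3 h2 (b := fun n m => cr (z n) (z m)) (fun n m => cr_comm _ _) L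
  refine sq_bot' (T := {y | ∃ n ≤ 8, y = z n}) f h2 nts nts' c.stab ?_ ?_ (v 0) ⟨0, rfl⟩
  · have hz0 : ∀ s, 4 < s → v s = 0 := c.zero
    rintro _ ⟨x, rfl⟩ _ ⟨y, rfl⟩
    rcases lt_or_ge 4 x with hx | hx
    · rw [hz0 x hx, Cfsg.Agent.R2.H22.Loc.cr_zero_left]
      exact Submodule.zero_mem _
    rcases lt_or_ge 4 y with hy | hy
    · rw [hz0 y hy, Cfsg.Agent.R2.H22.Loc.cr_zero_right]
      exact Submodule.zero_mem _
    rw [hcz x hx y hy]
    exact Submodule.subset_span ⟨x + y, by omega, rfl⟩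
  · rintro _ ⟨n, hn, rfl⟩ _ ⟨m, hm, rfl⟩
    exact Z n hn m hm

/-- **`V_{4 p^i}` in both socles** -/
theorem inSoc_four (f : Fra p a ψ ρ ρ') (h5 : 5 ≤ p) (h7 : p ≠ 7) (h9 : 9 ≤ Fintype.card K) (nts : Nts ψ ρ)
    (nts' : Nts ψ ρ') (hi : i < a) (h : InSoc ι p (Rr ρ ψ) (4 * p ^ i)) : InSoc ι p (Rr ρ' ψ) (4 * p ^ i) := by
  have hp : p.Prime := Fact.out
  obtain ⟨v, c, hv⟩ := exists_ch (by omega) h
  refine (cov_ch f c).inSoc (by omega) ?_ (cov_ne f h5 h7 h9 nts nts' c (hv 0 (by norm_num)))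
  rw [f.card]
  have h1 : p ^ (i + 1) ≤ p ^ a := Nat.pow_le_pow_right hp.pos hi
  have h2 : 0 < p ^ i := Nat.pow_pos hp.pos
  have h3 : 5 * p ^ i ≤ p ^ (i + 1) := by
    rw [pow_succ, mul_comm (p ^ i)]
    exact Nat.mul_le_mul_right _ h5
  omega

end four

end Cfsg.Agent.R2.H9.E6.Nsp
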