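import Mathlib
import Cfsg.Agent.R2.H9.E6.Fr

/-!
# The frame: highest weight vectors, the torus, weights (helper9)
-/

set_option autoImplicit false
set_option linter.unusedSectionVars false

namespace Cfsg.Agent.R2.H9.E6.Gr

open Cfsg.Lie Module Matrix
open Cfsg.Agent.H943.SL2Rel Cfsg.Agent.H943.SL2Mod Cfsg.Agent.H943.RepAdd
open Cfsg.Agent.ChevalleyStructure Cfsg.Agent.ChevalleyStructure.E6Form.Cubic
  Cfsg.Agent.ChevalleyStructure.E6Form.Table
open Cfsg.Agent.ChevalleyStructure.E6Min.Basic (Zgrp)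
open Cfsg.Agent.H952.F4 (sh cr tf)
open Cfsg.Agent.H952.F4.Jord
open Cfsg.Agent.H163.E6 (V V')
open Cfsg.Agent.H163.E6.Act
open Cfsg.Agent.R2.GEO (crB crB_apply tfB tfB_apply gzHom gzHom_apply)

universe u v w

variable {k : Type u} [Field k] {K : Type w} [Field K] [Fintype K] [DecidableEq K]
variable {τ : K →+* k} {R : SpecialLinearGroup (Fin 2) K →* ↥(Zgrp k)} {v v' : Fin 3 → ℕ → (I27 → k)}

/-- coordinates -/
noncomputable def EF.co (E : EF τ R v v') (i : Fin 3) (s : ℕ) : (I27 → k) →ₗ[k] k :=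
  if h : s < nn i + 1 then E.B.coord ⟨i, ⟨s, h⟩⟩ else 0

theorem EF.co_eq (E : EF τ R v v') (j : Ix) : E.co j.1 j.2 = E.B.coord j := by
  rw [EF.co, dif_pos j.2.2]

theorem EF.co_self (E : EF τ R v v') {i : Fin 3} {s : ℕ} (hs : s ≤ nn i) : E.co i s (v i s) = 1 := by
  have h1 := E.co_eq ⟨i, ⟨s, by omega⟩⟩
  have h2 := E.B_apply ⟨i, ⟨s, by omega⟩⟩
  change E.co i s = _ at h1
  change _ = v i s at h2
  rw [h1, ← h2, Basis.coord_apply, Basis.repr_self, Finsupp.single_eq_same]

theorem EF.co_ne (E : EF τ R v v') {i i' : Fin 3} {s s' : ℕ} (h : i ≠ i' ∨ s ≠ s') : E.co i s (v i' s') = 0 := by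
  rcases Nat.lt_or_ge (nn i) s with h1 | h1
  · rw [EF.co, dif_neg (by omega)]
    rfl
  rcases Nat.lt_or_ge (nn i') s' with h2 | h2
  · rw [(E.bs i').zero s' h2, map_zero]
  have h3 := E.co_eq ⟨i, ⟨s, by omega⟩⟩
  have h4 := E.B_apply ⟨i', ⟨s', by omega⟩⟩
  change E.co i s = _ at h3
  change _ = v i' s' at h4
  rw [h3, ← h4, Basis.coord_apply, Basis.repr_self, Finsupp.single_eq_of_ne]
  intro h5
  injection h5 with h6 h7
  subst h6
  have h8 := Fin.mk.inj (eq_of_heq h7)
  rcases h with h | h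
  · exact h rfl
  · exact h h8

theorem EF.sum_co (E : EF τ R v v') (x : I27 → k) : ∑ j : Ix, E.co j.1 j.2 x • v j.1 j.2 = x := by
  conv_rhs => rw [← E.B.sum_repr x]
  refine Finset.sum_congr rfl fun j _ => ?_
  rw [E.co_eq, E.B_apply, Basis.coord_apply]

theorem EF.ext (E : EF τ R v v') {x y : I27 → k} (h : ∀ i s, s ≤ nn i → E.co i s x = E.co i s y) : x = y := by
  rw [← E.sum_co x, ← E.sum_co y]
  refine Finset.sum_congr rfl fun j _ => ?_
  rw [h j.1 j.2 (by omega)]

theorem EF.hom_ext (E : EF τ R v v') {M : Type*} [AddCommGroup M] [Module k M] {f g : (I27 → k) →ₗ[k] M}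
    (h : ∀ i s, s ≤ nn i → f (v i s) = g (v i s)) : f = g := by
  refine E.B.ext fun j => ?_
  rw [E.B_apply]
  exact h j.1 j.2 (by omega)

theorem EF.co_hi (E : EF τ R v v') {i i' : Fin 3} {s m : ℕ} (h : i ≠ i' ∨ s < m) {r : I27 → k} (hr : r ∈ Hi (k := k) (v i') m) :
    E.co i s r = 0 := by
  have h1 : Hi (k := k) (v i') m ≤ LinearMap.ker (E.co i s) := by
    rw [Hi, Submodule.span_le]
    rintro _ ⟨s', hs', rfl⟩
    have hs'' : m ≤ s' := hs'
    exact E.co_ne (h.imp id fun h => by omega)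
  exact h1 hr

/-- vectors fixed by `u 1` -/
theorem EF.ufix (E : EF τ R v v') {y : I27 → k} (hy : V k (R (u 1)) y = y) (i : Fin 3) (s : ℕ) (hs : s < nn i) :
    E.co i s y = 0 := by
  induction s using Nat.strong_induction_on with
  | _ s ih =>
    let L : (I27 → k) →ₗ[k] k := (E.co i (s + 1)).comp (V k (R (u 1))) - E.co i (s + 1) - ((nn i - s : ℕ) : k) • E.co i s
    have hL : ∀ j : Ix, (j.1 = i → s ≤ (j.2 : ℕ)) → L (v j.1 j.2) = 0 := by
      intro j hj
      obtain ⟨r, hr, e⟩ := (E.bs j.1).u_two (show (j.2 : ℕ) ≤ nn j.1 by omega) 1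
      change V k (R (u 1)) (v j.1 j.2) = _ at e
      rw [map_one, mul_one] at e
      have h1 : L (v j.1 j.2) = E.co i (s + 1) (V k (R (u 1)) (v j.1 j.2)) - E.co i (s + 1) (v j.1 j.2) -
          ((nn i - s : ℕ) : k) * E.co i s (v j.1 j.2) := rfl
      rw [h1, e, map_add, map_add, map_smul, smul_eq_mul]
      by_cases hij : j.1 = i
      · have h2 := hj hij
        rw [E.co_hi (i := i) (s := s + 1) (m := (j.2 : ℕ) + 2) (Or.inr (by omega)) hr, add_zero]
        rcases eq_or_lt_of_le h2 with h3 | h3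
        · rw [← h3, hij, E.co_self (by omega), E.co_self (by omega)]
          ring
        · rw [E.co_ne (i := i) (s := s + 1) (i' := j.1) (s' := (j.2 : ℕ) + 1) (Or.inr (by omega)),
            E.co_ne (i := i) (s := s) (i' := j.1) (s' := (j.2 : ℕ)) (Or.inr (by omega))]
          ring
      · rw [E.co_hi (Or.inl (Ne.symm hij)) hr, E.co_ne (Or.inl (Ne.symm hij)), E.co_ne (Or.inl (Ne.symm hij)),
          E.co_ne (Or.inl (Ne.symm hij))]
        ring
    have h1 : L y = 0 := by
      rw [← E.sum_co y, map_sum]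
      refine Finset.sum_eq_zero fun j _ => ?_
      rw [map_smul]
      by_cases hj : j.1 = i → s ≤ (j.2 : ℕ)
      · rw [hL j hj, smul_zero]
      · push Not at hj
        have h6 : E.co j.1 (j.2 : ℕ) = E.co i (j.2 : ℕ) := congrArg (fun l => E.co l (j.2 : ℕ)) hj.1
        rw [h6, ih j.2 hj.2 (by omega), zero_smul]
    have h2 : L y = E.co i (s + 1) (V k (R (u 1)) y) - E.co i (s + 1) y - ((nn i - s : ℕ) : k) * E.co i s y := rfl
    rw [h2, hy, sub_self, zero_sub, neg_eq_zero, mul_eq_zero] at h1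
    have := nn_le i
    exact h1.resolve_left (E.ne _ (by omega) (by omega))

theorem nn_pos : ∀ i : Fin 3, 4 ≤ nn i := by decide

theorem nn_inj : ∀ i j : Fin 3, nn i = nn j → i = j := by decide

theorem nn_sub : ∀ i j : Fin 3, nn i < nn j → nn j - nn i ≤ 8 := by decide

theorem EF.ufix' (E : EF τ R v v') {y : I27 → k} (hy : V k (R (u 1)) y = y) :
    y = ∑ i : Fin 3, E.co i (nn i) y • v i (nn i) := by
  refine E.ext fun j s hs => ?_
  rw [map_sum]
  rcases eq_or_lt_of_le hs with h1 | h1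
  · rw [h1, Finset.sum_eq_single j]
    · rw [map_smul, E.co_self le_rfl, smul_eq_mul, mul_one]
    · intro i _ hij
      rw [map_smul, E.co_ne (Or.inl (Ne.symm hij)), smul_zero]
    · intro h
      exact absurd (Finset.mem_univ _) h
  · rw [E.ufix hy j s h1]
    symm
    refine Finset.sum_eq_zero fun i _ => ?_
    rw [map_smul, E.co_ne, smul_zero]
    by_cases hij : j = i
    · right
      subst hij
      omega
    · exact Or.inl hij

theorem EF.h_top (E : EF τ R v v') (i : Fin 3) (a : Kˣ) : V k (R (h a)) (v i (nn i)) = τ a ^ nn i • v i (nn i) := by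
  have h1 := (E.bs i).h (nn i) le_rfl a
  rw [Nat.sub_self, pow_zero, mul_one] at h1
  exact h1

/-- **highest weight vectors** -/
theorem EF.hw (E : EF τ R v v') {y : I27 → k} (hy0 : y ≠ 0) (hy : V k (R (u 1)) y = y) {g : Kˣ}
    (hg : ∀ x, x ∈ Subgroup.zpowers g) {c : k} (hc : V k (R (h g)) y = c • y) :
    ∃ i, ∃ a : k, a ≠ 0 ∧ y = a • v i (nn i) ∧ c = τ g ^ nn i := by
  have h1 := E.ufix' hy
  have h2 : ∀ i, E.co i (nn i) y ≠ 0 → c = τ g ^ nn i := by
    intro i hi
    have h3 : V k (R (h g)) y = ∑ i : Fin 3, (E.co i (nn i) y * τ g ^ nn i) • v i (nn i) := by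
      conv_lhs => rw [h1]
      rw [map_sum]
      refine Finset.sum_congr rfl fun j _ => ?_
      rw [map_smul, E.h_top, smul_smul]
    have h4 : E.co i (nn i) (V k (R (h g)) y) = E.co i (nn i) y * τ g ^ nn i := by
      rw [h3, map_sum, Finset.sum_eq_single i]
      · rw [map_smul, E.co_self le_rfl, smul_eq_mul, mul_one]
      · intro j _ hij
        rw [map_smul, E.co_ne (Or.inl (Ne.symm hij)), smul_zero]
      · intro h
        exact absurd (Finset.mem_univ _) h
    rw [hc, map_smul, smul_eq_mul, mul_comm] at h4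
    exact mul_left_cancel₀ hi h4
  have hK := E.card
  have h3 : ∀ i j : Fin 3, nn i < nn j → τ (g : K) ^ nn i ≠ τ (g : K) ^ nn j := by
    intro i j hij h4
    have h5 := nn_sub i j hij
    have h6 : g ^ nn i = g ^ nn j := by
      apply Units.ext
      apply τ.injective
      rw [Units.val_pow_eq_pow_val, Units.val_pow_eq_pow_val, map_pow, map_pow, h4]
    have h7 := (pow_eq_pow_iff_modEq.1 h6).symm
    have h8 := (Nat.modEq_iff_dvd' hij.le).1 h7.symm
    rw [orderOf_eq_card_of_forall_mem_zpowers hg, Nat.card_eq_fintype_card, Fintype.card_units] at h8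
    have := Nat.le_of_dvd (by omega) h8
    omega
  obtain ⟨i, hi⟩ : ∃ i, E.co i (nn i) y ≠ 0 := by
    by_contra hcon
    push Not at hcon
    apply hy0
    rw [h1]
    exact Finset.sum_eq_zero fun i _ => by rw [hcon, zero_smul]
  refine ⟨i, E.co i (nn i) y, hi, ?_, h2 i hi⟩
  conv_lhs => rw [h1]
  rw [Finset.sum_eq_single i]
  · intro j _ hji
    have : E.co j (nn j) y = 0 := by
      by_contra hj
      have h4 := (h2 i hi).symm.trans (h2 j hj)
      rcases Nat.lt_trichotomy (nn i) (nn j) with h5 | h5 | h5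
      · exact h3 i j h5 h4
      · exact hji (nn_inj _ _ h5.symm)
      · exact h3 j i h5 h4.symm
    rw [this, zero_smul]
  · intro h
    exact absurd (Finset.mem_univ _) h

theorem EF.top_ne (E : EF τ R v v') {i : Fin 3} {s : ℕ} (hs : s ≤ nn i) : v i s ≠ 0 := by
  intro h
  have := E.co_self hs
  rw [h, map_zero] at this
  exact zero_ne_one this

theorem EF.u_top (E : EF τ R v v') (i : Fin 3) (t : K) : V k (R (u t)) (v i (nn i)) = v i (nn i) := by
  obtain ⟨r, hr, e⟩ := (E.bs i).u_one le_rfl t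
  change V k (R (u t)) (v i (nn i)) = _ at e
  have h1 : Hi (k := k) (v i) (nn i + 1) = ⊥ := by
    rw [Hi, Submodule.span_eq_bot]
    rintro _ ⟨s, hs, rfl⟩
    have hs' : nn i + 1 ≤ s := hs
    exact (E.bs i).zero s (by omega)
  rw [h1, Submodule.mem_bot] at hr
  rw [e, hr, add_zero]

/-- the case `q = 13` -/
theorem EF.grade_or (E : EF τ R v v') : Grd v ∨ Grd v' := by
  by_cases h13 : Fintype.card K = 13
  swap
  · exact Or.inl (E.grade_of fun h => absurd h h13)
  by_cases hth : T3 k (v 0 0) (v 0 12) (v 0 12) = 0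
  · exact Or.inl (E.grade_of fun _ => hth)
  right
  refine E.swap.grade_of fun _ => ?_
  have h0 : nn 0 = 12 := rfl
  -- `sh (v 0 12)` is a multiple of `v' 0 12`
  have h1 : T3 k (v 0 0) (v 0 12) (v 0 12) = 2 * tf (sh (v 0 12)) (v 0 0) := by
    rw [T3_12, T3_23, T3_apply, cr_self, tf_smul_left]
  have hw0 : sh (v 0 12) ≠ 0 := by
    intro h2
    rw [h2, tf_zero_left, mul_zero] at h1
    exact hth h1
  obtain ⟨g, hg⟩ := IsCyclic.exists_generator (α := Kˣ)
  have h2 : V' k (R (u 1)) (sh (v 0 12)) = sh (v 0 12) := by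
    rw [← sh_act]
    exact congrArg sh (E.u_top 0 1)
  have h3 : V' k (R (h g)) (sh (v 0 12)) = (τ g ^ 24) • sh (v 0 12) := by
    rw [← sh_act]
    have := E.h_top 0 g
    rw [h0] at this
    rw [this, sh_smul, ← pow_mul]
  have h4 := E.swap.hw hw0 (by
    rw [MonoidHom.comp_apply, gzHom_apply, V_gz]
    exact h2) hg (c := τ g ^ 24) (by
    rw [MonoidHom.comp_apply, gzHom_apply, V_gz]
    exact h3)
  obtain ⟨i, a, ha, h5, h6⟩ := h4
  have hi : i = 0 := by
    have h7 : g ^ 24 = g ^ nn i := by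
      apply Units.ext
      apply τ.injective
      rw [Units.val_pow_eq_pow_val, Units.val_pow_eq_pow_val, map_pow, map_pow, h6]
    have h8 := nn_le i
    have h9 := (Nat.modEq_iff_dvd' (by omega : nn i ≤ 24)).1 (pow_eq_pow_iff_modEq.1 h7).symm
    rw [orderOf_eq_card_of_forall_mem_zpowers hg, Nat.card_eq_fintype_card, Fintype.card_units, h13] at h9
    fin_cases i
    · rfl
    · exfalso
      change 13 - 1 ∣ 24 - 8 at h9
      omega
    · exfalso
      change 13 - 1 ∣ 24 - 4 at h9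
      omega
  rw [hi] at h5
  change sh (v 0 12) = a • v' 0 12 at h5
  -- `N (v 0 12) = 0`
  have h7 : T3 k (v 0 12) (v 0 12) (v 0 12) = 0 := by
    have hz : ∀ s s' : ℕ, 24 < s + s' → v 0 s = 0 ∨ v 0 s' = 0 := by
      intro s s' hss
      rcases Nat.lt_or_ge 12 s with h8 | h8
      · exact Or.inl ((E.bs 0).zero s h8)
      · exact Or.inr ((E.bs 0).zero s' (show 12 < s' by omega))
    refine tri_top (T3 k) (T3_inv R) (E.bs 0) (E.bs 0) (E.bs 0) (fun m hm hm' => E.ne m hm hm') (N := 36)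
      (fun s s' s'' hss => ?_) (fun s' s'' hss => ?_) 12 12 12 rfl
    · rcases Nat.lt_or_ge 12 s with h8 | h8
      · rw [(E.bs 0).zero s h8, map_zero]
        rfl
      · rcases hz s' s'' (by omega) with h9 | h9
        · rw [h9, map_zero]
          rfl
        · rw [h9, map_zero]
    · rcases hz s' s'' (by omega) with h9 | h9
      · rw [h9, map_zero]
        rfl
      · rw [h9, map_zero]
  have h8 : cubicT (v 0 12) = 0 := by
    rw [T3_self] at h7
    exact (mul_eq_zero.1 h7).resolve_left E.six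
  have h9 : sh (v' 0 12) = 0 := by
    have h10 := sh_sh (v 0 12)
    rw [h5, sh_smul, h8, zero_smul] at h10
    exact (smul_eq_zero.1 h10).resolve_left (pow_ne_zero _ ha)
  rw [T3_12, T3_23, T3_apply, cr_self, h9, smul_zero, tf_zero_left]

/-- **the torus** -/
theorem EF.torus (E : EF τ R v v') {c : k} (hc : c ≠ 0) : ∃ z, Tor v v' c z := by
  rcases E.grade_or with h1 | h1
  · exact E.torus_of h1 hc
  · obtain ⟨z, hz⟩ := E.swap.torus_of h1 hc
    exact ⟨_, hz.swap⟩

end Cfsg.Agent.R2.H9.E6.Gr
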