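import Mathlib
import Cfsg.Agent.R2.H9.E6.Fr2

/-!
# The frame: weights and the nilpotent derivation `e` (helper9)
-/

set_option autoImplicit false
set_option linter.unusedSectionVars false

namespace Cfsg.Agent.R2.H9.E6.Gr

open Cfsg.Lie Module Matrix
open Cfsg.Agent.H943.SL2Rel Cfsg.Agent.H943.SL2Mod Cfsg.Agent.H943.RepAdd
open Cfsg.Agent.ChevalleyStructure Cfsg.Agent.ChevalleyStructure.E6Form.Cubic
  Cfsg.Agent.ChevalleyStructure.E6Form.Table
open Cfsg.Agent.ChevalleyStructure.E6Min.Basic (Zgrp)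
open Cfsg.Agent.H952.F4 (sh cr tf)
open Cfsg.Agent.H952.F4.Jord
open Cfsg.Agent.H163.E6 (V V')
open Cfsg.Agent.H163.E6.Act
open Cfsg.Agent.R2.GEO (crB crB_apply tfB tfB_apply gzHom gzHom_apply)

universe u v w

variable {k : Type u} [Field k] [Infinite k] {K : Type w} [Field K] [Fintype K] [DecidableEq K]
variable {τ : K →+* k} {R : SpecialLinearGroup (Fin 2) K →* ↥(Zgrp k)} {v v' : Fin 3 → ℕ → (I27 → k)}

theorem exists_zpow_ne {w : ℤ} (hw : w ≠ 0) : ∃ c : k, c ≠ 0 ∧ c ^ w ≠ 1 := by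
  classical
  obtain ⟨n, hn0, hn⟩ : ∃ n : ℕ, 0 < n ∧ (w = n ∨ w = -n) := ⟨w.natAbs, Int.natAbs_pos.2 hw, by omega⟩
  have hfin : ({c : k | c ^ n = 1} ∪ {0}).Finite := by
    refine Set.Finite.union ?_ (Set.finite_singleton _)
    refine ((Polynomial.nthRoots n (1 : k)).toFinset.finite_toSet).subset fun c hc => ?_
    rw [Finset.mem_coe, Multiset.mem_toFinset, Polynomial.mem_nthRoots hn0]
    exact hc
  obtain ⟨c, hc⟩ := hfin.exists_notMem
  rw [Set.mem_union, not_or] at hc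
  have hc0 : c ≠ 0 := fun h => hc.2 h
  refine ⟨c, hc0, fun h => hc.1 ?_⟩
  rcases hn with rfl | rfl
  · rwa [_root_.zpow_natCast] at h
  · rw [_root_.zpow_neg, _root_.zpow_natCast, inv_eq_one] at h
    exact h

/-- weight vectors -/
def Wv (v v' : Fin 3 → ℕ → (I27 → k)) (w : ℤ) (x : I27 → k) : Prop :=
  ∀ c : k, c ≠ 0 → ∀ z, Tor v v' c z → V k z x = c ^ w • x

omit [Infinite k] in
theorem Wv.act' {w : ℤ} {y : I27 → k} (h : Wv v' v w y) {c : k} (hc : c ≠ 0) {z : ↥(Zgrp k)} (hz : Tor v v' c z) :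
    V' k z y = c ^ w • y := by
  have h1 := h c hc _ hz.swap
  rwa [gzHom_apply, V_gz] at h1

omit [Infinite k] in
theorem Wv.of' {w : ℤ} {y : I27 → k} (h : ∀ c : k, c ≠ 0 → ∀ z, Tor v v' c z → V' k z y = c ^ w • y) : Wv v' v w y := by
  intro c hc z hz
  have h1 := h c hc _ hz.swap
  rwa [gzHom_apply, V'_gz] at h1

omit [Infinite k] in
theorem EF.wv (_ : EF τ R v v') {i : Fin 3} {s : ℕ} (hs : s ≤ nn i) : Wv v v' (wt i s) (v i s) :=
  fun _ _ _ hz => hz.act i s hs

omit [Infinite k] in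
theorem Wv.smul {w : ℤ} {x : I27 → k} (h : Wv v v' w x) (a : k) : Wv v v' w (a • x) := by
  intro c hc z hz
  rw [map_smul, h c hc z hz, smul_comm]

omit [Infinite k] in
theorem Wv.add {w : ℤ} {x y : I27 → k} (h : Wv v v' w x) (h' : Wv v v' w y) : Wv v v' w (x + y) := by
  intro c hc z hz
  rw [map_add, h c hc z hz, h' c hc z hz, smul_add]

omit [Infinite k] in
theorem Wv.zero (w : ℤ) : Wv v v' w (0 : I27 → k) := by
  intro c hc z hz
  rw [map_zero, smul_zero]

omit [Infinite k] in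
theorem Wv.sub {w : ℤ} {x y : I27 → k} (h : Wv v v' w x) (h' : Wv v v' w y) : Wv v v' w (x - y) := by
  intro c hc z hz
  rw [map_sub, h c hc z hz, h' c hc z hz, smul_sub]

omit [Infinite k] in
theorem Wv.sum {ι : Type*} (s : Finset ι) (f : ι → I27 → k) {w : ℤ} (h : ∀ i ∈ s, Wv v v' w (f i)) :
    Wv v v' w (∑ i ∈ s, f i) := by
  intro c hc z hz
  rw [map_sum, Finset.smul_sum]
  exact Finset.sum_congr rfl fun i hi => h i hi c hc z hz

omit [Infinite k] in
theorem Wv.cr {w w' : ℤ} {x y : I27 → k} (h : Wv v v' w x) (h' : Wv v v' w' y) : Wv v' v (w + w') (cr x y) := by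
  refine Wv.of' fun c hc z hz => ?_
  rw [← cr_act, h c hc z hz, h' c hc z hz, cr_smul_left, cr_smul_right, smul_smul, ← zpow_add₀ hc]

omit [Infinite k] in
theorem EF.co_V (E : EF τ R v v') {c : k} {z : ↥(Zgrp k)} (hz : Tor v v' c z) (i : Fin 3) (s : ℕ) (x : I27 → k) :
    E.co i s (V k z x) = c ^ wt i s * E.co i s x := by
  have h1 : (E.co i s).comp (V k z) = c ^ wt i s • E.co i s := by
    refine E.hom_ext fun i' s' hs' => ?_
    rw [LinearMap.comp_apply, hz.act i' s' hs', map_smul, smul_eq_mul, LinearMap.smul_apply, smul_eq_mul]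
    by_cases h : i = i' ∧ s = s'
    · rw [h.1, h.2]
    · rw [E.co_ne (by tauto), mul_zero, mul_zero]
  exact LinearMap.congr_fun h1 x

/-- the coordinates of a weight vector -/
theorem EF.co_wv (E : EF τ R v v') {w : ℤ} {x : I27 → k} (h : Wv v v' w x) {i : Fin 3} {s : ℕ} (hw : wt i s ≠ w) :
    E.co i s x = 0 := by
  obtain ⟨c, hc, hcw⟩ := exists_zpow_ne (k := k) (w := wt i s - w) (by omega)
  obtain ⟨z, hz⟩ := E.torus hc
  have h1 := E.co_V hz i s x
  rw [h c hc z hz, map_smul, smul_eq_mul] at h1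
  by_contra hne
  apply hcw
  rw [zpow_sub₀ hc, ← mul_right_cancel₀ hne h1, div_self (zpow_ne_zero _ hc)]

omit [Infinite k] in
theorem EF.wv_of_co (E : EF τ R v v') {w : ℤ} {x : I27 → k} (h : ∀ i s, s ≤ nn i → wt i s ≠ w → E.co i s x = 0) :
    Wv v v' w x := by
  rw [← E.sum_co x]
  refine Wv.sum _ _ fun j _ => ?_
  by_cases hj : wt j.1 j.2 = w
  · have := (E.wv (i := j.1) (s := j.2) (by omega)).smul (E.co j.1 j.2 x)
    rwa [hj] at this
  · rw [h _ _ (by omega) hj, zero_smul]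
    exact Wv.zero _

theorem EF.wv_unique (E : EF τ R v v') {w w' : ℤ} {x : I27 → k} (h : Wv v v' w x) (h' : Wv v v' w' x) (hw : w ≠ w') :
    x = 0 := by
  refine E.ext fun i s _ => ?_
  rw [map_zero]
  by_cases h1 : wt i s = w
  · exact E.co_wv h' (by omega)
  · exact E.co_wv h h1

theorem EF.wv_big (E : EF τ R v v') {w : ℤ} {x : I27 → k} (h : Wv v v' w x) (hw : 12 < w) : x = 0 := by
  refine E.ext fun i s hs => ?_
  rw [map_zero]
  refine E.co_wv h fun h1 => ?_
  have := nn_le i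
  unfold wt at h1
  omega

theorem EF.wv_small (E : EF τ R v v') {w : ℤ} {x : I27 → k} (h : Wv v v' w x) (hw : w < -12) : x = 0 := by
  refine E.ext fun i s hs => ?_
  rw [map_zero]
  refine E.co_wv h fun h1 => ?_
  have := nn_le i
  unfold wt at h1
  omega

theorem EF.grd (E : EF τ R v v') : Grd v := by
  intro i j l s s' s'' hN
  rcases Nat.lt_or_ge (nn i) s with h1 | h1
  · rw [(E.bs i).zero s h1, map_zero]
    rfl
  rcases Nat.lt_or_ge (nn j) s' with h2 | h2
  · rw [(E.bs j).zero s' h2, map_zero]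
    rfl
  rcases Nat.lt_or_ge (nn l) s'' with h3 | h3
  · rw [(E.bs l).zero s'' h3, map_zero]
  obtain ⟨c, hc, hcw⟩ := exists_zpow_ne (k := k) (w := wt i s + wt j s' + wt l s'') (by unfold wt; omega)
  obtain ⟨z, hz⟩ := E.torus hc
  have h4 := T3_act z (v i s) (v j s') (v l s'')
  rw [hz.act i s h1, hz.act j s' h2, hz.act l s'' h3] at h4
  simp only [map_smul, LinearMap.smul_apply, smul_eq_mul] at h4
  by_contra hne
  apply hcw
  apply mul_right_cancel₀ hne
  rw [one_mul]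
  conv_rhs => rw [← h4]
  rw [zpow_add₀ hc, zpow_add₀ hc]
  ring

/-! ## the derivation `e` -/

/-- the nilpotent derivation -/
noncomputable def EF.e (E : EF τ R v v') : (I27 → k) →ₗ[k] (I27 → k) :=
  E.B.constr k fun j => ((nn j.1 - j.2 : ℕ) : k) • v j.1 (j.2 + 1)

omit [Infinite k] in
theorem EF.e_apply (E : EF τ R v v') {i : Fin 3} {s : ℕ} (hs : s ≤ nn i) :
    E.e (v i s) = ((nn i - s : ℕ) : k) • v i (s + 1) := by
  have h1 := E.B.constr_basis k (fun j => ((nn j.1 - j.2 : ℕ) : k) • v j.1 (j.2 + 1)) ⟨i, ⟨s, by omega⟩⟩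
  rw [E.B_apply] at h1
  exact h1

omit [Infinite k] in
theorem EF.e_top (E : EF τ R v v') (i : Fin 3) : E.e (v i (nn i)) = 0 := by
  rw [E.e_apply le_rfl, Nat.sub_self, Nat.cast_zero, zero_smul]

omit [Infinite k] in
theorem EF.e_wv_basis (E : EF τ R v v') {i : Fin 3} {s : ℕ} (hs : s ≤ nn i) : Wv v v' (wt i s + 2) (E.e (v i s)) := by
  rw [E.e_apply hs]
  refine Wv.smul ?_ _
  rcases eq_or_lt_of_le hs with h1 | h1
  · rw [(E.bs i).zero (s + 1) (by omega)]
    exact Wv.zero _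
  · have h2 := E.wv (i := i) (s := s + 1) (by omega)
    have h3 : wt i (s + 1) = wt i s + 2 := by
      unfold wt
      push_cast
      ring
    rwa [h3] at h2

theorem EF.e_wv (E : EF τ R v v') {w : ℤ} {x : I27 → k} (h : Wv v v' w x) : Wv v v' (w + 2) (E.e x) := by
  rw [← E.sum_co x, map_sum]
  refine Wv.sum _ _ fun j _ => ?_
  rw [map_smul]
  by_cases hj : wt j.1 j.2 = w
  · rw [← hj]
    exact (E.e_wv_basis (by omega)).smul _
  · rw [E.co_wv h hj, zero_smul]
    exact Wv.zero _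

theorem EF.T3_e_basis (E : EF τ R v v') {i j l : Fin 3} {s s' s'' : ℕ} (h1 : s ≤ nn i) (h2 : s' ≤ nn j) (h3 : s'' ≤ nn l) :
    T3 k (E.e (v i s)) (v j s') (v l s'') + T3 k (v i s) (E.e (v j s')) (v l s'') +
      T3 k (v i s) (v j s') (E.e (v l s'')) = 0 := by
  have G := E.grd
  rw [E.e_apply h1, E.e_apply h2, E.e_apply h3]
  simp only [map_smul, LinearMap.smul_apply, smul_eq_mul]
  by_cases hN : 2 * (s + s' + s'' + 1) = nn i + nn j + nn l
  · exact tri_der (T3 k) (T3_inv R) (E.bs i) (E.bs j) (E.bs l) (N := s + s' + s'' + 1)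
      (fun t t' t'' ht => G _ _ _ _ _ _ (by omega)) h1 h2 h3 rfl
  · rw [G _ _ _ _ _ _ (by omega), G _ _ _ _ _ _ (by omega), G _ _ _ _ _ _ (by omega), mul_zero, mul_zero, mul_zero,
      add_zero, add_zero]

theorem EF.T3_e (E : EF τ R v v') (x y z : I27 → k) : T3 k (E.e x) y z + T3 k x (E.e y) z + T3 k x y (E.e z) = 0 := by
  have h1 : ∀ i s, s ≤ nn i → ∀ j s', s' ≤ nn j → T3 k (E.e (v i s)) (v j s') z + T3 k (v i s) (E.e (v j s')) z +
      T3 k (v i s) (v j s') (E.e z) = 0 := by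
    intro i s hs j s' hs'
    have h2 : T3 k (E.e (v i s)) (v j s') + T3 k (v i s) (E.e (v j s')) + (T3 k (v i s) (v j s')).comp E.e = 0 :=
      E.hom_ext fun l s'' hs'' => E.T3_e_basis hs hs' hs''
    exact LinearMap.congr_fun h2 z
  have h2 : ∀ i s, s ≤ nn i → T3 k (E.e (v i s)) y z + T3 k (v i s) (E.e y) z + T3 k (v i s) y (E.e z) = 0 := by
    intro i s hs
    have h3 : (T3 k (E.e (v i s))).flip z + ((T3 k (v i s)).flip z).comp E.e + (T3 k (v i s)).flip (E.e z) = 0 :=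
      E.hom_ext fun j s' hs' => h1 i s hs j s' hs'
    exact LinearMap.congr_fun h3 y
  have h3 : (((T3 k).flip y).flip z).comp E.e + ((T3 k).flip (E.e y)).flip z + ((T3 k).flip y).flip (E.e z) = 0 :=
    E.hom_ext fun i s hs => h2 i s hs
  exact LinearMap.congr_fun h3 x

theorem EF.tf_e (E : EF τ R v v') (x y : I27 → k) : tf (E.e x) y + tf x (E.swap.e y) = 0 := by
  have h1 : ∀ i s, s ≤ nn i → ∀ j s', s' ≤ nn j → tf (E.e (v i s)) (v' j s') + tf (v i s) (E.swap.e (v' j s')) = 0 := by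
    intro i s hs j s' hs'
    rw [E.e_apply hs, E.swap.e_apply hs', tf_smul_left, tf_smul_right]
    by_cases hN : 2 * (s + s' + 1) = nn i + nn j
    · exact bil_der (E.bs i) (E.bs' j) (tfB k) (tfB_inv R) (N := s + s' + 1)
        (fun t t' ht => E.pair _ _ _ _ (by omega)) hs hs' rfl
    · rw [E.pair _ _ _ _ (by omega), E.pair _ _ _ _ (by omega), mul_zero, mul_zero, add_zero]
  have h2 : ∀ i s, s ≤ nn i → tf (E.e (v i s)) y + tf (v i s) (E.swap.e y) = 0 := by
    intro i s hs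
    have h3 : tfB k (E.e (v i s)) + (tfB k (v i s)).comp E.swap.e = 0 := E.swap.hom_ext fun j s' hs' => h1 i s hs j s' hs'
    exact LinearMap.congr_fun h3 y
  have h3 : ((tfB k).flip y).comp E.e + (tfB k).flip (E.swap.e y) = 0 := E.hom_ext fun i s hs => h2 i s hs
  exact LinearMap.congr_fun h3 x

/-- `e` is a derivation of the product -/
theorem EF.cr_e (E : EF τ R v v') (x y : I27 → k) : E.swap.e (cr x y) = cr (E.e x) y + cr x (E.e y) := by
  rw [← sub_eq_zero]
  refine tf_nondeg fun z => ?_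
  have h1 := E.T3_e x y z
  have h2 := E.tf_e z (cr x y)
  rw [T3_apply, T3_apply, T3_apply] at h1
  rw [tf_comm, tf_comm z] at h2
  rw [tf_sub_left, tf_add_left]
  linear_combination h2 - h1

theorem EF.Dop_e (E : EF τ R v v') (p b x : I27 → k) :
    E.e (Dop p b x) = Dop (E.e p) b x + Dop p (E.swap.e b) x + Dop p b (E.e x) := by
  have h1 := E.cr_e p x
  have h2 := E.swap.cr_e b (cr p x)
  have h3 := E.tf_e x b
  change E.e (cr b (cr p x)) = _ at h2
  rw [tf_comm, tf_comm x] at h3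
  have h4 : tf (E.swap.e b) x = - tf b (E.e x) := by linear_combination h3
  rw [Dop_apply, Dop_apply, Dop_apply, Dop_apply, map_sub, map_smul, h2, h1, cr_add_right, cr_comm (E.e p) x, h4]
  simp only [cr_comm x, neg_smul]
  abel

end Cfsg.Agent.R2.H9.E6.Gr
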