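import Mathlib
import Cfsg.Agent.R2.H9.E6.Fr3

/-!
# The nilpotent element of weight 14 (helper9)

`p = v 0 12` is a white vector, `x = D(p, b)` with `b` of weight `2`, `e b = p × (v 1 0)`.
-/

set_option autoImplicit false
set_option linter.unusedSectionVars false

namespace Cfsg.Agent.R2.H9.E6.Gr

open Cfsg.Lie Module Matrix
open Cfsg.Agent.H943.SL2Rel Cfsg.Agent.H943.SL2Mod Cfsg.Agent.H943.RepAdd
open Cfsg.Agent.ChevalleyStructure Cfsg.Agent.ChevalleyStructure.E6Form.Cubic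
  Cfsg.Agent.ChevalleyStructure.E6Form.Table
open Cfsg.Agent.ChevalleyStructure.E6Min.Basic (Zgrp)
open Cfsg.Agent.H952.F4 (sh cr tf)
open Cfsg.Agent.H952.F4.Jord
open Cfsg.Agent.H163.E6 (V V')
open Cfsg.Agent.H163.E6.Act
open Cfsg.Agent.R2.GEO (crB crB_apply tfB tfB_apply gzHom gzHom_apply)
open Cfsg.Agent.R2.H9.E6

universe u v w

section gen

variable {k : Type u} [Field k]

theorem exists_rep (φ : (I27 → k) →ₗ[k] k) : ∃ y, ∀ w, tf w y = φ w := by
  classical
  refine ⟨fun i => φ (Pi.single (Cfsg.Agent.H184.GraphE6.pi i) 1), fun w => ?_⟩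
  rw [tf_eq_dot, dotProduct]
  have h2 : ∀ i, (Cfsg.Agent.H184.GraphE6.PM k *ᵥ fun i => φ (Pi.single (Cfsg.Agent.H184.GraphE6.pi i) 1)) i =
      φ (Pi.single i 1) := by
    intro i
    rw [Cfsg.Agent.H184.GraphE6.PM_mulVec, Cfsg.Agent.H184.GraphE6.pi_pi]
  simp only [h2]
  conv_rhs => rw [pi_eq_sum_univ' w]
  rw [map_sum]
  refine Finset.sum_congr rfl fun i _ => ?_
  rw [map_smul, smul_eq_mul]

/-- `D(p, d) = 0` implies `d ∈ range (p × ·)` -/
theorem mem_range_of_Dop {p d : I27 → k} (hp : p ≠ 0) (h : ∀ y, Dop p d y = 0) : d ∈ LinearMap.range (crl p) := by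
  by_contra hd
  obtain ⟨φ, hφd, hφ⟩ := Submodule.exists_le_ker_of_notMem hd
  obtain ⟨y, hy⟩ := exists_rep φ
  apply hφd
  rw [← hy]
  refine Dop_zero hp h ?_
  refine tf_nondeg fun x => ?_
  have h1 : φ (crl p x) = 0 := hφ ⟨x, rfl⟩
  rw [← hy, crl_apply] at h1
  have h2 := T3_23 (k := k) p x y
  rw [T3_apply, T3_apply] at h2
  rw [← h2, h1]

end gen

variable {k : Type u} [Field k] [Infinite k] {K : Type w} [Field K] [Fintype K] [DecidableEq K]
variable {τ : K →+* k} {R : SpecialLinearGroup (Fin 2) K →* ↥(Zgrp k)} {v v' : Fin 3 → ℕ → (I27 → k)}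

/-- the projection to a weight space -/
noncomputable def EF.P (E : EF τ R v v') (w : ℤ) (x : I27 → k) : I27 → k :=
  ∑ j : Ix, if wt j.1 j.2 = w then E.co j.1 j.2 x • v j.1 j.2 else 0

omit [Infinite k] in
theorem EF.P_wv (E : EF τ R v v') (w : ℤ) (x : I27 → k) : Wv v v' w (E.P w x) := by
  refine Wv.sum _ _ fun j _ => ?_
  by_cases h : wt j.1 j.2 = w
  · rw [if_pos h, ← h]
    exact (E.wv (by omega)).smul _
  · rw [if_neg h]
    exact Wv.zero _

theorem EF.proj (E : EF τ R v v') {p : I27 → k} {a w : ℤ} (hp : Wv v v' a p) {d : I27 → k} (hd : Wv v' v w d)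
    (h : d ∈ LinearMap.range (crl p)) : ∃ y, Wv v v' (w - a) y ∧ cr p y = d := by
  obtain ⟨y0, hy0⟩ := h
  rw [crl_apply] at hy0
  refine ⟨E.P (w - a) y0, E.P_wv _ _, ?_⟩
  have h1 : Wv v' v w (cr p (E.P (w - a) y0)) := by
    have := hp.cr (E.P_wv (w - a) y0)
    rwa [show a + (w - a) = w by ring] at this
  rw [← sub_eq_zero]
  refine E.swap.ext fun i s hs => ?_
  rw [map_zero]
  by_cases hw : wt i s = w
  · have h2 : cr p (E.P (w - a) y0) - d = ∑ j : Ix, if wt j.1 j.2 = w - a then 0 else -(E.co j.1 j.2 y0 • cr p (v j.1 j.2)) := by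
      rw [← hy0, ← crl_apply, ← crl_apply]
      conv_lhs => rw [← E.sum_co y0]
      rw [E.sum_co y0, EF.P, map_sum]
      nth_rewrite 2 [← E.sum_co y0]
      rw [map_sum, ← Finset.sum_sub_distrib]
      refine Finset.sum_congr rfl fun j _ => ?_
      by_cases hj : wt j.1 j.2 = w - a
      · rw [if_pos hj, if_pos hj, sub_self]
      · rw [if_neg hj, if_neg hj, map_zero, zero_sub, map_smul, crl_apply]
    rw [h2, map_sum]
    refine Finset.sum_eq_zero fun j _ => ?_
    by_cases hj : wt j.1 j.2 = w - a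
    · rw [if_pos hj, map_zero]
    · rw [if_neg hj, map_neg, map_smul, E.swap.co_wv (hp.cr (E.wv (i := j.1) (s := j.2) (by omega))) (by omega), smul_zero,
        neg_zero]
  · exact E.swap.co_wv (h1.sub hd) hw

/-! ## the vector `p` -/

theorem nn_zero : nn 0 = 12 := rfl

theorem nn_one : nn 1 = 8 := rfl

theorem nn_two : nn 2 = 4 := rfl

omit [Infinite k] in
theorem EF.p_wv (E : EF τ R v v') : Wv v v' 12 (v 0 12) := E.wv (i := 0) (s := 12) le_rfl

theorem EF.sh_top (E : EF τ R v v') : sh (v 0 12) = 0 := by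
  have h1 : cr (v 0 12) (v 0 12) = 0 := E.swap.wv_big (E.p_wv.cr E.p_wv) (by norm_num)
  rw [cr_self] at h1
  exact (smul_eq_zero.1 h1).resolve_left E.two

theorem card_hi : Fintype.card {j : Ix // 6 ≤ wt j.1 j.2} = 6 := by decide

theorem card_lo : Fintype.card {j : Ix // ¬ (-6 ≤ wt j.1 j.2)} = 4 := by decide

/-- rank consequences -/
theorem EF.rank (E : EF τ R v v') : (∀ j : Ix, 6 ≤ wt j.1 j.2 → v' j.1 j.2 ∈ LinearMap.range (crl (v 0 12))) ∧
    LinearIndependent k (fun j : {j : Ix // ¬ (-6 ≤ wt j.1 j.2)} => cr (v 0 12) (v j.1.1 j.1.2)) := by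
  let U : Submodule k (I27 → k) := Submodule.span k (Set.range fun j : {j : Ix // 6 ≤ wt j.1 j.2} => v' j.1.1 j.1.2)
  let A : Submodule k (I27 → k) :=
    Submodule.span k (Set.range fun j : {j : Ix // -6 ≤ wt j.1 j.2} => cr (v 0 12) (v j.1.1 j.1.2))
  let B : Submodule k (I27 → k) :=
    Submodule.span k (Set.range fun j : {j : Ix // ¬ (-6 ≤ wt j.1 j.2)} => cr (v 0 12) (v j.1.1 j.1.2))
  have hAU : A ≤ U := by
    rw [Submodule.span_le]
    rintro _ ⟨j, rfl⟩
    have h1 : Wv v' v (12 + wt j.1.1 j.1.2) (cr (v 0 12) (v j.1.1 j.1.2)) := E.p_wv.cr (E.wv (by omega))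
    have h2 := E.swap.sum_co (cr (v 0 12) (v j.1.1 j.1.2))
    show cr (v 0 12) (v j.1.1 j.1.2) ∈ U
    rw [← h2]
    refine Submodule.sum_mem _ fun i _ => ?_
    by_cases hi : wt i.1 i.2 = 12 + wt j.1.1 j.1.2
    · refine Submodule.smul_mem _ _ (Submodule.subset_span ⟨⟨i, ?_⟩, rfl⟩)
      have := j.2
      omega
    · rw [E.swap.co_wv h1 hi, zero_smul]
      exact Submodule.zero_mem _
  have hAr : A ≤ LinearMap.range (crl (v 0 12)) := by
    rw [Submodule.span_le]
    rintro _ ⟨j, rfl⟩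
    exact ⟨_, rfl⟩
  have hle : LinearMap.range (crl (v 0 12)) ≤ A ⊔ B := by
    rintro _ ⟨y, rfl⟩
    rw [← E.sum_co y, map_sum]
    refine Submodule.sum_mem _ fun j _ => ?_
    rw [map_smul]
    refine Submodule.smul_mem _ _ ?_
    by_cases hj : -6 ≤ wt j.1 j.2
    · exact Submodule.mem_sup_left (Submodule.subset_span ⟨⟨j, hj⟩, rfl⟩)
    · exact Submodule.mem_sup_right (Submodule.subset_span ⟨⟨j, hj⟩, rfl⟩)
  have h10 := finrank_range_crl (E.top_ne (i := 0) (s := 12) le_rfl) E.sh_top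
  have hU : finrank k U ≤ 6 := by
    have := finrank_range_le_card (R := k) (fun j : {j : Ix // 6 ≤ wt j.1 j.2} => v' j.1.1 j.1.2)
    rwa [card_hi] at this
  have hB : finrank k B ≤ 4 := by
    have := finrank_range_le_card (R := k) (fun j : {j : Ix // ¬ (-6 ≤ wt j.1 j.2)} => cr (v 0 12) (v j.1.1 j.1.2))
    rwa [card_lo] at this
  have h1 : finrank k (LinearMap.range (crl (v 0 12))) ≤ finrank k A + finrank k B :=
    (Submodule.finrank_mono hle).trans (Submodule.finrank_add_le_finrank_add_finrank A B)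
  have h2 := Submodule.finrank_mono hAU
  have h3 : A = U := Submodule.eq_of_le_of_finrank_eq hAU (by omega)
  refine ⟨fun j hj => ?_, ?_⟩
  · refine hAr ?_
    rw [h3]
    exact Submodule.subset_span ⟨⟨j, hj⟩, rfl⟩
  · rw [linearIndependent_iff_card_eq_finrank_span]
    have h4 : finrank k B = 4 := by omega
    rw [card_lo]
    exact h4.symm

theorem EF.indep (E : EF τ R v v') {a b : k} (h : a • cr (v 0 12) (v 1 0) = b • cr (v 0 12) (v 0 2)) : a = 0 := by
  have h1 := E.rank.2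
  rw [Fintype.linearIndependent_iff] at h1
  let j0 : {j : Ix // ¬ (-6 ≤ wt j.1 j.2)} := ⟨⟨1, ⟨0, by decide⟩⟩, by decide⟩
  let j1 : {j : Ix // ¬ (-6 ≤ wt j.1 j.2)} := ⟨⟨0, ⟨2, by decide⟩⟩, by decide⟩
  have hne : j0 ≠ j1 := by decide
  have h2 := h1 (fun j => if j = j0 then a else if j = j1 then -b else 0) (by
    rw [Finset.sum_eq_add j0 j1 hne]
    · rw [if_pos rfl, if_neg hne.symm, if_pos rfl]
      show a • cr (v 0 12) (v 1 0) + (-b) • cr (v 0 12) (v 0 2) = 0
      rw [h, neg_smul, add_neg_cancel]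
    · intro j _ hj
      rw [if_neg hj.1, if_neg hj.2, zero_smul]
    · intro h
      exact absurd (Finset.mem_univ _) h
    · intro h
      exact absurd (Finset.mem_univ _) h) j0
  rwa [if_pos rfl] at h2

/-! ## `e` on the weight spaces -/

omit [Infinite k] in
theorem EF.co_e (E : EF τ R v v') {i : Fin 3} {s : ℕ} (hs : s < nn i) (x : I27 → k) :
    E.co i (s + 1) (E.e x) = ((nn i - s : ℕ) : k) * E.co i s x := by
  have h1 : (E.co i (s + 1)).comp E.e = ((nn i - s : ℕ) : k) • E.co i s := by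
    refine E.hom_ext fun i' s' hs' => ?_
    rw [LinearMap.comp_apply, E.e_apply hs', map_smul, smul_eq_mul, LinearMap.smul_apply, smul_eq_mul]
    by_cases h : i = i' ∧ s = s'
    · obtain ⟨rfl, rfl⟩ := h
      rw [E.co_self hs.le, E.co_self (by omega)]
    · have h2 : i ≠ i' ∨ s ≠ s' := by tauto
      rw [E.co_ne h2, E.co_ne (i := i) (s := s + 1) (i' := i') (s' := s' + 1) (h2.imp id fun h => by omega), mul_zero,
        mul_zero]
  exact LinearMap.congr_fun h1 x

theorem EF.e_inj (E : EF τ R v v') {b : I27 → k} {w : ℤ} (hw : w < 4) (hb : Wv v v' w b) (h : E.e b = 0) : b = 0 := by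
  refine E.ext fun i s hs => ?_
  rw [map_zero]
  rcases eq_or_lt_of_le hs with h1 | h1
  · refine E.co_wv hb fun h2 => ?_
    have := nn_pos i
    unfold wt at h2
    omega
  · have h2 := E.co_e h1 b
    rw [h, map_zero] at h2
    have := nn_le i
    exact (mul_eq_zero.1 h2.symm).resolve_left (E.ne _ (by omega) (by omega))

theorem wt_four : ∀ (i : Fin 3) (s : ℕ), wt i s = 4 → s = nn i / 2 + 2 := by
  intro i s h
  have : ∀ i : Fin 3, nn i = 2 * (nn i / 2) := by decide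
  have h2 := this i
  unfold wt at h
  omega

theorem nn_half : ∀ i : Fin 3, nn i = 2 * (nn i / 2) ∧ 2 ≤ nn i / 2 ∧ nn i / 2 ≤ 6 := by decide

theorem EF.e_surj (E : EF τ R v v') {y : I27 → k} (hy : Wv v v' 4 y) : ∃ b, Wv v v' 2 b ∧ E.e b = y := by
  refine ⟨∑ i : Fin 3, ((((nn i / 2 - 1 : ℕ) : k))⁻¹ * E.co i (nn i / 2 + 2) y) • v i (nn i / 2 + 1), ?_, ?_⟩
  · refine Wv.sum _ _ fun i _ => ?_
    obtain ⟨h1, h2, h3⟩ := nn_half i
    have h4 := (E.wv (i := i) (s := nn i / 2 + 1) (by omega)).smul (((nn i / 2 - 1 : ℕ) : k)⁻¹ * E.co i (nn i / 2 + 2) y)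
    have h5 : wt i (nn i / 2 + 1) = 2 := by
      unfold wt
      omega
    rwa [h5] at h4
  · have h0 : E.e (∑ i : Fin 3, ((((nn i / 2 - 1 : ℕ) : k))⁻¹ * E.co i (nn i / 2 + 2) y) • v i (nn i / 2 + 1)) =
        ∑ i : Fin 3, E.co i (nn i / 2 + 2) y • v i (nn i / 2 + 2) := by
      rw [map_sum]
      refine Finset.sum_congr rfl fun i _ => ?_
      obtain ⟨h1, h2, h3⟩ := nn_half i
      rw [map_smul, E.e_apply (by omega), smul_smul]
      congr 1
      rw [show nn i - (nn i / 2 + 1) = nn i / 2 - 1 by omega, mul_comm, ← mul_assoc,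
        mul_inv_cancel₀ (E.ne _ (by omega) (by omega)), one_mul]
    rw [h0]
    refine E.ext fun j s hs => ?_
    rw [map_sum]
    by_cases hw : wt j s = 4
    · have h1 := wt_four j s hw
      rw [Finset.sum_eq_single j]
      · rw [map_smul, smul_eq_mul, h1, E.co_self (by omega), mul_one]
      · intro i _ hij
        rw [map_smul, E.co_ne (Or.inl (Ne.symm hij)), smul_zero]
      · intro h
        exact absurd (Finset.mem_univ _) h
    · rw [E.co_wv hy hw]
      refine Finset.sum_eq_zero fun i _ => ?_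
      rw [map_smul, E.co_ne, smul_zero]
      by_cases hij : j = i
      · right
        subst hij
        intro h2
        apply hw
        obtain ⟨h1, -, -⟩ := nn_half j
        unfold wt
        omega
      · exact Or.inl hij

theorem EF.wv_neg_eight (E : EF τ R v v') {y : I27 → k} (hy : Wv v v' (-8) y) : y = E.co 0 2 y • v 0 2 + E.co 1 0 y • v 1 0 := by
  refine E.ext fun i s hs => ?_
  rw [map_add, map_smul, map_smul, smul_eq_mul, smul_eq_mul]
  by_cases hw : wt i s = -8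
  · have h1 : (i = 0 ∧ s = 2) ∨ (i = 1 ∧ s = 0) := by
      unfold wt at hw
      fin_cases i
      · left
        change 2 * (s : ℤ) - ((12 : ℕ) : ℤ) = -8 at hw
        exact ⟨rfl, by omega⟩
      · right
        change 2 * (s : ℤ) - ((8 : ℕ) : ℤ) = -8 at hw
        exact ⟨rfl, by omega⟩
      · exfalso
        change 2 * (s : ℤ) - ((4 : ℕ) : ℤ) = -8 at hw
        omega
    rcases h1 with ⟨rfl, rfl⟩ | ⟨rfl, rfl⟩
    · rw [E.co_self hs, E.co_ne (by decide), mul_one, mul_zero, add_zero]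
    · rw [E.co_self hs, E.co_ne (by decide), mul_one, mul_zero, zero_add]
  · rw [E.co_wv hy hw]
    have h1 : i ≠ 0 ∨ s ≠ 2 := by
      by_contra hcon
      push Not at hcon
      apply hw
      rw [hcon.1, hcon.2]
      rfl
    have h2 : i ≠ 1 ∨ s ≠ 0 := by
      by_contra hcon
      push Not at hcon
      apply hw
      rw [hcon.1, hcon.2]
      rfl
    rw [E.co_ne h1, E.co_ne h2, mul_zero, mul_zero, add_zero]

theorem EF.wv_neg_ten (E : EF τ R v v') {y : I27 → k} (hy : Wv v v' (-10) y) : y = E.co 0 1 y • v 0 1 := by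
  refine E.ext fun i s hs => ?_
  rw [map_smul, smul_eq_mul]
  by_cases hw : wt i s = -10
  · have h1 : i = 0 ∧ s = 1 := by
      unfold wt at hw
      fin_cases i
      · change 2 * (s : ℤ) - ((12 : ℕ) : ℤ) = -10 at hw
        exact ⟨rfl, by omega⟩
      · exfalso
        change 2 * (s : ℤ) - ((8 : ℕ) : ℤ) = -10 at hw
        omega
      · exfalso
        change 2 * (s : ℤ) - ((4 : ℕ) : ℤ) = -10 at hw
        omega
    obtain ⟨rfl, rfl⟩ := h1
    rw [E.co_self hs, mul_one]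
  · rw [E.co_wv hy hw]
    have h1 : i ≠ 0 ∨ s ≠ 1 := by
      by_contra hcon
      push Not at hcon
      apply hw
      rw [hcon.1, hcon.2]
      rfl
    rw [E.co_ne h1, mul_zero]

/-! ## the element of weight 14 -/

/-- the vector `b` -/
structure EF.X (E : EF τ R v v') (b : I27 → k) : Prop where
  wb : Wv v' v 2 b
  eb : E.swap.e b = cr (v 0 12) (v 1 0)

theorem EF.exists_X (E : EF τ R v v') : ∃ b, E.X b := by
  have h1 : Wv v' v 4 (cr (v 0 12) (v 1 0)) := by
    have := E.p_wv.cr (E.wv (i := 1) (s := 0) (by decide))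
    exact this
  obtain ⟨b, h2, h3⟩ := E.swap.e_surj h1
  exact ⟨b, h2, h3⟩

theorem EF.tf_wv (E : EF τ R v v') {w w' : ℤ} {x y : I27 → k} (hx : Wv v v' w x) (hy : Wv v' v w' y) (h : w + w' ≠ 0) :
    tf x y = 0 := by
  obtain ⟨c, hc, hcw⟩ := exists_zpow_ne (k := k) h
  obtain ⟨z, hz⟩ := E.torus hc
  have h1 := tf_act z x y
  rw [hx c hc z hz, hy.act' hc hz, tf_smul_left, tf_smul_right, ← mul_assoc, ← zpow_add₀ hc] at h1
  by_contra hne
  apply hcw
  apply mul_right_cancel₀ hne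
  rw [h1, one_mul]

/-- operators `D(p, b)` with `b` of weight 2 have weight 14 -/
theorem EF.Dop_wv (E : EF τ R v v') {b : I27 → k} (hb : Wv v' v 2 b) {w : ℤ} {y : I27 → k} (hy : Wv v v' w y) :
    Wv v v' (w + 14) (Dop (v 0 12) b y) := by
  rw [Dop_apply]
  have h1 : Wv v v' (w + 14) (cr b (cr (v 0 12) y)) := by
    have := hb.cr (E.p_wv.cr hy)
    rwa [show (2 : ℤ) + (12 + w) = w + 14 by ring] at this
  refine Wv.sub ?_ h1
  by_cases hw : w = -2
  · rw [hw]
    exact (E.p_wv).smul _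
  · rw [tf_comm, E.tf_wv hy hb (by omega), zero_smul]
    exact Wv.zero _

theorem EF.Dop_sq (E : EF τ R v v') {b : I27 → k} (hb : Wv v' v 2 b) (y : I27 → k) :
    Dop (v 0 12) b (Dop (v 0 12) b y) = 0 := by
  have h1 : (Dop (v 0 12) b).comp (Dop (v 0 12) b) = 0 := by
    refine E.hom_ext fun i s hs => ?_
    refine E.wv_big (E.Dop_wv hb (E.Dop_wv hb (E.wv hs))) ?_
    have := nn_le i
    unfold wt
    omega
  exact LinearMap.congr_fun h1 y

theorem Dop_zero_left (b y : I27 → k) : Dop (0 : I27 → k) b y = 0 := by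
  rw [Dop_apply, cr_zero_left, cr_zero_right, smul_zero, sub_zero]

theorem Dop_zero_right (p y : I27 → k) : Dop p (0 : I27 → k) y = 0 := by
  rw [Dop_apply, cr_zero_left, tf_zero_left, zero_smul, sub_zero]

theorem EF.e_p (E : EF τ R v v') : E.e (v 0 12) = 0 := E.e_top 0

theorem EF.X.comm {E : EF τ R v v'} {b : I27 → k} (h : E.X b) (y : I27 → k) :
    E.e (Dop (v 0 12) b y) = Dop (v 0 12) b (E.e y) := by
  rw [E.Dop_e, E.e_p, Dop_zero_left, h.eb, Dop_cr E.sh_top, zero_add, zero_add]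

theorem EF.X.tf_p {E : EF τ R v v'} {b : I27 → k} (h : E.X b) : tf (v 0 12) b = 0 := E.tf_wv E.p_wv h.wb (by norm_num)

theorem EF.e_cr01 (E : EF τ R v v') : E.swap.e (cr (v 0 12) (v 0 1)) = (11 : k) • cr (v 0 12) (v 0 2) := by
  rw [E.cr_e, E.e_p, cr_zero_left, zero_add, E.e_apply (by decide), cr_smul_right]
  congr 1

theorem EF.eleven (E : EF τ R v v') : (11 : k) ≠ 0 := by
  have := E.ne 11 (by norm_num) (by norm_num)
  exact_mod_cast this

theorem EF.X.ne {E : EF τ R v v'} {b : I27 → k} (h : E.X b) : ∃ y, Dop (v 0 12) b y ≠ 0 := by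
  by_contra hcon
  push Not at hcon
  have h1 := mem_range_of_Dop (E.top_ne (i := 0) (s := 12) le_rfl) hcon
  obtain ⟨y, hy, hyb⟩ := E.proj E.p_wv h.wb h1
  have h2 := E.wv_neg_ten (y := y) (by
    rw [show (2 : ℤ) - 12 = -10 by norm_num] at hy
    exact hy)
  have h3 := h.eb
  rw [← hyb, h2, cr_smul_right, map_smul, E.e_cr01, smul_smul] at h3
  have h4 := E.indep (a := 1) (b := E.co 0 1 y * 11) (by rw [one_smul, h3])
  exact one_ne_zero h4

/-- **uniqueness** -/
theorem EF.X.unique {E : EF τ R v v'} {b : I27 → k} (h : E.X b) {b' : I27 → k} (hb' : Wv v' v 2 b')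
    (hc : ∀ y, E.e (Dop (v 0 12) b' y) = Dop (v 0 12) b' (E.e y)) : ∃ κ : k, ∀ y, Dop (v 0 12) b' y = κ • Dop (v 0 12) b y := by
  have h1 : ∀ y, Dop (v 0 12) (E.swap.e b') y = 0 := by
    intro y
    have h2 := E.Dop_e (v 0 12) b' y
    rw [E.e_p, Dop_zero_left, zero_add, hc y] at h2
    exact right_eq_add.1 h2
  have h2 := mem_range_of_Dop (E.top_ne (i := 0) (s := 12) le_rfl) h1
  obtain ⟨y, hy, hyb⟩ := E.proj E.p_wv (E.swap.e_wv hb') h2
  have h3 := E.wv_neg_eight (y := y) (by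
    rw [show (2 : ℤ) + 2 - 12 = -8 by norm_num] at hy
    exact hy)
  obtain ⟨al, hal⟩ : ∃ al, al = E.co 1 0 y := ⟨_, rfl⟩
  obtain ⟨be, hbe⟩ : ∃ be, be = E.co 0 2 y := ⟨_, rfl⟩
  rw [← hal, ← hbe] at h3
  have h4 : b' - al • b - (be * (11 : k)⁻¹) • cr (v 0 12) (v 0 1) = 0 := by
    refine E.swap.e_inj (w := 2) (by norm_num) ((hb'.sub (h.wb.smul _)).sub (Wv.smul ?_ _)) ?_
    · exact E.p_wv.cr (E.wv (i := 0) (s := 1) (by decide))
    · rw [map_sub, map_sub, map_smul, map_smul, h.eb, E.e_cr01, ← hyb, h3, cr_add_right, cr_smul_right, cr_smul_right,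
        smul_smul, mul_assoc, inv_mul_cancel₀ E.eleven, mul_one]
      abel
  refine ⟨al, fun z => ?_⟩
  have h5 : b' = al • b + (be * (11 : k)⁻¹) • cr (v 0 12) (v 0 1) := by
    rw [sub_sub, sub_eq_zero] at h4
    exact h4
  rw [h5, Dop_add_right, Dop_smul_right, Dop_smul_right, Dop_cr E.sh_top, smul_zero, add_zero]

theorem Dop_cr_left {p : I27 → k} (hp : sh p = 0) (v w : I27 → k) : Dop (cr p v) p w = 0 := by
  refine tf_nondeg fun y => ?_
  rw [tf_Dop, Dop_cr hp, tf_zero_right]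

/-- **the adjoint** -/
theorem EF.X.adj {E : EF τ R v v'} {b : I27 → k} (h : E.X b) {b' : I27 → k} (h' : E.swap.X b') :
    ∃ κ : k, κ ≠ 0 ∧ ∀ y, Dop b (v 0 12) y = κ • Dop (v' 0 12) b' y := by
  obtain ⟨w0, hw0, hw0'⟩ := E.swap.proj E.swap.p_wv (E.p_wv) (E.swap.rank.1 ⟨0, ⟨12, by decide⟩⟩ (by decide))
  rw [sub_self] at hw0
  have h1 : cr b (v' 0 12) = 0 := E.wv_big (h.wb.cr E.swap.p_wv) (by norm_num)
  have h2 : ∀ y, Dop b (v 0 12) y = - Dop (v' 0 12) (cr b w0) y := by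
    intro y
    have h3 := Dop_polar b (v' 0 12) w0 y
    rw [h1, hw0', Dop_zero_right, tf_zero_left, zero_smul, neg_zero, add_zero] at h3
    exact eq_neg_of_add_eq_zero_left h3
  have h3 : Wv v v' 2 (cr b w0) := by
    have := h.wb.cr hw0
    rwa [add_zero] at this
  obtain ⟨κ, hκ⟩ := h'.unique h3 fun y => by
    have h4 := E.swap.Dop_e b (v 0 12) y
    change E.swap.e (Dop b (v 0 12) y) = Dop (E.swap.e b) (v 0 12) y + Dop b (E.e (v 0 12)) y + Dop b (v 0 12) (E.swap.e y) at h4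
    rw [E.e_p, Dop_zero_right, h.eb, Dop_cr_left E.sh_top, zero_add, zero_add, h2, h2, map_neg, neg_inj] at h4
    exact h4
  refine ⟨-κ, ?_, fun y => by rw [h2, hκ, neg_smul]⟩
  rw [neg_ne_zero]
  rintro rfl
  obtain ⟨y, hy⟩ := h.ne
  apply hy
  refine tf_nondeg fun z => ?_
  rw [tf_Dop, h2, hκ, zero_smul, neg_zero, tf_zero_right]

end Cfsg.Agent.R2.H9.E6.Gr
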