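import Mathlib
import Cfsg.Agent.R2.H9.E6.Fr4

/-!
# Semilinear maps between the frames (helper9)

`EF.semi` : a semilinear map `Φ` with `Φ ∘ R₁ s = R₂ (α s) ∘ Φ`, `α` = (field automorphism `σ`) followed by the
conjugation by `diag(c, 1)`, satisfies `θ ∘ τ = τ ∘ σ` and `Φ (v i s) = c_i c ^ s v i s`.
-/

set_option autoImplicit false
set_option linter.unusedSectionVars false

namespace Cfsg.Agent.R2.H9.E6.Gr

open Cfsg.Lie Module Matrix
open Cfsg.Agent.H943.SL2Rel Cfsg.Agent.H943.SL2Mod Cfsg.Agent.H943.RepAdd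
open Cfsg.Agent.ChevalleyStructure Cfsg.Agent.ChevalleyStructure.E6Form.Cubic
  Cfsg.Agent.ChevalleyStructure.E6Form.Table
open Cfsg.Agent.ChevalleyStructure.E6Min.Basic (Zgrp)
open Cfsg.Agent.H952.F4 (sh cr tf)
open Cfsg.Agent.H952.F4.Jord
open Cfsg.Agent.H163.E6 (V V')
open Cfsg.Agent.H163.E6.Act
open Cfsg.Agent.R2.GEO (crB crB_apply tfB tfB_apply gzHom gzHom_apply)
open Cfsg.Agent.R2.H9.E6

universe u v w

variable {k : Type u} [Field k] {K : Type w} [Field K] [Fintype K] [DecidableEq K]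

theorem cast_inj_of {n : ℕ} (hne : ∀ j : ℕ, 0 < j → j ≤ n → (j : k) ≠ 0) {i j : ℕ} (hi : i ≤ n) (hj : j ≤ n)
    (h : (i : k) = j) : i = j := by
  rcases Nat.lt_trichotomy i j with h1 | h1 | h1
  · exfalso
    apply hne (j - i) (by omega) (by omega)
    rw [Nat.cast_sub h1.le, h, sub_self]
  · exact h1
  · exfalso
    apply hne (i - j) (by omega) (by omega)
    rw [Nat.cast_sub h1.le, h, sub_self]

theorem choose_ne {N : ℕ} (hne : ∀ j : ℕ, 0 < j → j ≤ N → (j : k) ≠ 0) {n j : ℕ} (hn : n ≤ N) (hj : j ≤ n) :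
    ((n.choose j : ℕ) : k) ≠ 0 := by
  have h1 : ∀ m, m ≤ N → ((m.factorial : ℕ) : k) ≠ 0 := by
    intro m
    induction m with
    | zero => intro _; rw [Nat.factorial_zero, Nat.cast_one]; exact one_ne_zero
    | succ m ih =>
      intro hm
      rw [Nat.factorial_succ, Nat.cast_mul]
      exact mul_ne_zero (hne _ (by omega) hm) (ih (by omega))
  intro h2
  apply h1 n hn
  rw [← Nat.choose_mul_factorial_mul_factorial hj, Nat.cast_mul, Nat.cast_mul, h2, zero_mul, zero_mul]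

/-- two field embeddings with the same 12-th powers -/
theorem eq_of_pow {χ τ : K →+* k} (hne : ∀ j : ℕ, 0 < j → j ≤ 12 → (j : k) ≠ 0) {n : ℕ} (hn : n ≤ 12)
    (h : ∀ x, χ x ^ 12 = τ x ^ n) : χ = τ := by
  classical
  refine RingHom.ext fun x => ?_
  obtain ⟨P, hP⟩ : ∃ P : Polynomial k, P = (Polynomial.X + Polynomial.C (χ x)) ^ 12 - (Polynomial.X + Polynomial.C (τ x)) ^ n :=
    ⟨_, rfl⟩
  have hroot : ∀ j : ℕ, Polynomial.eval (j : k) P = 0 := by
    intro j
    rw [hP, Polynomial.eval_sub, Polynomial.eval_pow, Polynomial.eval_pow, Polynomial.eval_add, Polynomial.eval_add,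
      Polynomial.eval_X, Polynomial.eval_C, Polynomial.eval_C]
    have h1 := h ((j : K) + x)
    rw [map_add, map_add, map_natCast, map_natCast] at h1
    rw [h1, sub_self]
  have hdeg : P.natDegree ≤ 12 := by
    rw [hP]
    refine (Polynomial.natDegree_sub_le _ _).trans (max_le ?_ ?_)
    · rw [Polynomial.natDegree_pow, Polynomial.natDegree_X_add_C]
    · rw [Polynomial.natDegree_pow, Polynomial.natDegree_X_add_C, mul_one]
      exact hn
  have hP0 : P = 0 := by
    by_contra hne0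
    let s : Finset k := (Finset.range 13).image (fun j : ℕ => (j : k))
    have hs : s.card = 13 := by
      rw [Finset.card_image_of_injOn, Finset.card_range]
      intro i hi j hj hij
      rw [Finset.mem_coe, Finset.mem_range] at hi hj
      exact cast_inj_of (n := 12) hne (by omega) (by omega) hij
    have h1 : s ⊆ P.roots.toFinset := by
      intro y hy
      obtain ⟨j, _, rfl⟩ := Finset.mem_image.1 hy
      rw [Multiset.mem_toFinset, Polynomial.mem_roots hne0]
      exact hroot j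
    have h2 := (Finset.card_le_card h1).trans (Multiset.toFinset_card_le _)
    have h3 := h2.trans (Polynomial.card_roots' P)
    omega
  rw [hP, sub_eq_zero] at hP0
  have hn12 : n = 12 := by
    have h1 := congrArg Polynomial.natDegree hP0
    rw [Polynomial.natDegree_pow, Polynomial.natDegree_pow, Polynomial.natDegree_X_add_C, Polynomial.natDegree_X_add_C] at h1
    omega
  rw [hn12] at hP0
  have h1 := congrArg (fun Q : Polynomial k => Q.coeff 11) hP0
  simp only [Polynomial.coeff_X_add_C_pow] at h1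
  have h2 : ((Nat.choose 12 11 : ℕ) : k) ≠ 0 := choose_ne hne le_rfl (by norm_num)
  rw [show 12 - 11 = 1 from rfl, pow_one, pow_one] at h1
  exact mul_right_cancel₀ h2 h1

variable {τ : K →+* k} {R : SpecialLinearGroup (Fin 2) K →* ↥(Zgrp k)} {v v' : Fin 3 → ℕ → (I27 → k)}

theorem EF.tau_inj (E : EF τ R v v') {g : Kˣ} (hg : ∀ x, x ∈ Subgroup.zpowers g) {i j : Fin 3}
    (h : τ g ^ nn i = τ g ^ nn j) : i = j := by
  have h1 := E.top_ne (i := i) (s := nn i) le_rfl
  have hK := E.card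
  have h3 : ∀ i j : Fin 3, nn i < nn j → τ (g : K) ^ nn i ≠ τ (g : K) ^ nn j := by
    intro i j hij h4
    have h5 := nn_sub i j hij
    have h6 : g ^ nn i = g ^ nn j := by
      apply Units.ext
      apply τ.injective
      rw [Units.val_pow_eq_pow_val, Units.val_pow_eq_pow_val, map_pow, map_pow, h4]
    have h7 := (pow_eq_pow_iff_modEq.1 h6).symm
    have h8 := (Nat.modEq_iff_dvd' hij.le).1 h7.symm
    rw [orderOf_eq_card_of_forall_mem_zpowers hg, Nat.card_eq_fintype_card, Fintype.card_units] at h8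
    have := Nat.le_of_dvd (by omega) h8
    omega
  rcases Nat.lt_trichotomy (nn i) (nn j) with h5 | h5 | h5
  · exact absurd h (h3 i j h5)
  · exact nn_inj _ _ h5
  · exact absurd h.symm (h3 j i h5)

theorem nn_even : ∀ i : Fin 3, Even (nn i) := by decide

/-- **semilinear maps** -/
theorem EF.semi {R₁ R₂ : SpecialLinearGroup (Fin 2) K →* ↥(Zgrp k)} {v₁ v₁' v₂ v₂' : Fin 3 → ℕ → (I27 → k)}
    (E₁ : EF τ R₁ v₁ v₁') (E₂ : EF τ R₂ v₂ v₂') (θ : k →+* k) (Φ : (I27 → k) →ₛₗ[θ] (I27 → k))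
    (hinj : ∀ x, Φ x = 0 → x = 0) (σ : K ≃+* K) (c : Kˣ)
    (hu : ∀ t x, Φ (V k (R₁ (u t)) x) = V k (R₂ (u (c * σ t))) (Φ x))
    (hh : ∀ (a : Kˣ) x, Φ (V k (R₁ (h a)) x) = V k (R₂ (h (Units.map (σ : K →* K) a))) (Φ x))
    (hw : ∀ x, Φ (V k (R₁ w) x) = V k (R₂ (h c * w)) (Φ x)) :
    (∀ t, θ (τ t) = τ (σ t)) ∧ ∃ d : Fin 3 → k, (∀ i, d i ≠ 0) ∧
      ∀ i s, s ≤ nn i → Φ (v₁ i s) = (d i * τ c ^ s) • v₂ i s := by
  obtain ⟨g, hg⟩ := IsCyclic.exists_generator (α := Kˣ)
  obtain ⟨g', hg'⟩ : ∃ g' : Kˣ, Units.map (σ : K →* K) g' = g := by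
    refine ⟨Units.map (σ.symm : K →* K) g, ?_⟩
    apply Units.ext
    exact σ.apply_symm_apply g
  have hU : ∀ i, V k (R₂ (u 1)) (Φ (v₁ i (nn i))) = Φ (v₁ i (nn i)) := by
    intro i
    have h1 := hu (σ.symm ((c⁻¹ : Kˣ) : K)) (v₁ i (nn i))
    rw [E₁.u_top, σ.apply_symm_apply, Units.mul_inv] at h1
    exact h1.symm
  have hH : ∀ i, V k (R₂ (h g)) (Φ (v₁ i (nn i))) = θ (τ g') ^ nn i • Φ (v₁ i (nn i)) := by
    intro i
    have h1 := hh g' (v₁ i (nn i))
    rw [E₁.h_top, hg', map_smulₛₗ, map_pow] at h1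
    exact h1.symm
  have h0 : ∀ i s, s ≤ nn i → Φ (v₁ i s) ≠ 0 := fun i s hs h1 => E₁.top_ne hs (hinj _ h1)
  -- the field embeddings agree
  have hχ : θ.comp (τ.comp (σ.symm : K →+* K)) = τ := by
    obtain ⟨i, a, -, -, hi⟩ := E₂.hw (h0 0 (nn 0) le_rfl) (hU 0) hg (hH 0)
    refine eq_of_pow E₁.ne (nn_le i) fun x => ?_
    by_cases hx : x = 0
    · rw [hx, map_zero, map_zero, zero_pow (by norm_num), zero_pow (by have := nn_pos i; omega)]
    · obtain ⟨m, hm⟩ : ∃ m : ℕ, g ^ m = Units.mk0 x hx := by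
        have h1 := hg (Units.mk0 x hx)
        rwa [← mem_powers_iff_mem_zpowers] at h1
      have hx' : x = (g : K) ^ m := by
        have := congrArg Units.val hm
        rw [Units.val_pow_eq_pow_val, Units.val_mk0] at this
        exact this.symm
      have hg'' : σ.symm (g : K) = (g' : K) := by
        have := congrArg Units.val hg'
        rw [σ.symm_apply_eq]
        exact this.symm
      have h1 : (θ.comp (τ.comp (σ.symm : K →+* K))) x = θ (τ (g' : K)) ^ m := by
        rw [hx', map_pow]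
        congr 1
        show θ (τ (σ.symm (g : K))) = _
        rw [hg'']
      rw [h1, hx', map_pow, ← pow_mul, mul_comm m, pow_mul, ← pow_mul (τ (g : K)), mul_comm m, pow_mul (τ (g : K))]
      change θ (τ (g' : K)) ^ 12 = _ at hi
      rw [hi]
  have hθ : ∀ t, θ (τ t) = τ (σ t) := by
    intro t
    have h1 := RingHom.congr_fun hχ (σ t)
    change θ (τ (σ.symm (σ t))) = τ (σ t) at h1
    rwa [σ.symm_apply_apply] at h1
  refine ⟨hθ, ?_⟩
  have hθg : θ (τ (g' : K)) = τ (g : K) := by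
    rw [hθ]
    congr 1
    exact congrArg Units.val hg'
  -- highest weight vectors
  have h1 : ∀ i, ∃ a : k, a ≠ 0 ∧ Φ (v₁ i (nn i)) = a • v₂ i (nn i) := by
    intro i
    obtain ⟨j, a, ha, h2, h3⟩ := E₂.hw (h0 i (nn i) le_rfl) (hU i) hg (hH i)
    rw [hθg] at h3
    obtain rfl := E₂.tau_inj hg h3
    exact ⟨a, ha, h2⟩
  choose a ha hΦ using h1
  have hc : τ (c : K) ≠ 0 := (map_ne_zero τ).2 c.ne_zero
  have hlow : ∀ i, Φ (v₁ i 0) = (a i * (τ (c : K))⁻¹ ^ nn i) • v₂ i 0 := by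
    intro i
    have h2 := hw (v₁ i (nn i))
    have h3 := (E₁.bs i).w (nn i) le_rfl
    have h4 := (E₂.bs i).w (nn i) le_rfl
    have h5 := (E₂.bs i).h 0 (Nat.zero_le _) c
    rw [MonoidHom.comp_apply, (nn_even i).neg_one_pow, one_smul, Nat.sub_self] at h3 h4
    rw [MonoidHom.comp_apply, pow_zero, one_mul, Nat.sub_zero] at h5
    rw [h3, hΦ, map_mul, map_mul, Module.End.mul_apply, map_smul, map_smul, h4, h5, smul_smul] at h2
    exact h2
  refine ⟨fun i => a i * (τ (c : K))⁻¹ ^ nn i, fun i => mul_ne_zero (ha i) (pow_ne_zero _ (inv_ne_zero hc)), ?_⟩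
  intro i s hs
  have hK := E₁.card
  have hni := nn_le i
  have h2 : ∀ t : K, ∑ j ∈ Finset.range (nn i + 1), τ t ^ j •
      ((((nn i).choose j : ℕ) : k) • (Φ (v₁ i j) - (a i * (τ (c : K))⁻¹ ^ nn i * τ c ^ j) • v₂ i j)) = 0 := by
    intro t
    have h3 := hu (σ.symm t) (v₁ i 0)
    have h4 := (E₁.bs i).u 0 (Nat.zero_le _) (σ.symm t)
    have h5 := (E₂.bs i).u 0 (Nat.zero_le _) (c * t)
    rw [MonoidHom.comp_apply, Nat.sub_zero] at h4 h5
    rw [σ.apply_symm_apply, h4, map_sum, hlow, map_smul, h5, Finset.smul_sum] at h3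
    simp only [smul_sub, Finset.sum_sub_distrib]
    rw [sub_eq_zero]
    calc ∑ j ∈ Finset.range (nn i + 1), τ t ^ j • (((nn i).choose j : ℕ) : k) • Φ (v₁ i j) =
        ∑ j ∈ Finset.range (nn i + 1), Φ ((((nn i).choose j : k) * τ (σ.symm t) ^ j) • v₁ i (0 + j)) := by
          refine Finset.sum_congr rfl fun j _ => ?_
          rw [map_smulₛₗ, map_mul, map_natCast, map_pow, hθ, σ.apply_symm_apply, zero_add, smul_smul, mul_comm]
      _ = _ := h3
      _ = _ := by
          refine Finset.sum_congr rfl fun j _ => ?_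
          rw [map_mul, zero_add, smul_smul, smul_smul, smul_smul]
          congr 1
          ring
  have h3 : (((nn i).choose s : ℕ) : k) • (Φ (v₁ i s) - (a i * (τ (c : K))⁻¹ ^ nn i * τ c ^ s) • v₂ i s) = 0 := by
    funext y
    exact Tri.polyK (ι := τ) (n := nn i + 1) (by omega)
      (fun j => ((((nn i).choose j : ℕ) : k) • (Φ (v₁ i j) - (a i * (τ (c : K))⁻¹ ^ nn i * τ c ^ j) • v₂ i j)) y)
      (fun t => by
        have h4 := congrFun (h2 t) y
        rw [Finset.sum_apply] at h4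
        exact h4) s (by omega)
  exact sub_eq_zero.1 ((smul_eq_zero.1 h3).resolve_left (choose_ne E₁.ne (nn_le i) hs))

end Cfsg.Agent.R2.H9.E6.Gr
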