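import Mathlib
import Cfsg.Agent.R2.H9.E6.Fr5

/-!
# The form preserved by `1 + t x`; semilinear conjugates of `x` (helper9)
-/

set_option autoImplicit false
set_option linter.unusedSectionVars false

namespace Cfsg.Agent.R2.H9.E6.Gr

open Cfsg.Lie Module Matrix
open Cfsg.Agent.H943.SL2Rel Cfsg.Agent.H943.SL2Mod Cfsg.Agent.H943.RepAdd
open Cfsg.Agent.ChevalleyStructure Cfsg.Agent.ChevalleyStructure.E6Form.Cubic
  Cfsg.Agent.ChevalleyStructure.E6Form.Table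
open Cfsg.Agent.ChevalleyStructure.E6Min.Basic (Zgrp)
open Cfsg.Agent.H952.F4 (sh cr tf)
open Cfsg.Agent.H952.F4.Jord
open Cfsg.Agent.H163.E6 (V V')
open Cfsg.Agent.H163.E6.Act
open Cfsg.Agent.R2.GEO (crB crB_apply tfB tfB_apply gzHom gzHom_apply)
open Cfsg.Agent.R2.H9.E6

universe u v w

variable {k : Type u} [Field k] [Infinite k] {K : Type w} [Field K] [Fintype K] [DecidableEq K]
variable {τ : K →+* k} {R : SpecialLinearGroup (Fin 2) K →* ↥(Zgrp k)} {v v' : Fin 3 → ℕ → (I27 → k)}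

/-! ## semilinear conjugates -/

/-- compatible semilinear maps of the two modules -/
structure Cmp (θ : k →+* k) (Φ Φ' : (I27 → k) →ₛₗ[θ] (I27 → k)) : Prop where
  cr : ∀ x y, cr (Φ x) (Φ y) = Φ' (Cfsg.Agent.H952.F4.cr x y)
  cr' : ∀ x y, Cfsg.Agent.H952.F4.cr (Φ' x) (Φ' y) = Φ (Cfsg.Agent.H952.F4.cr x y)
  tf : ∀ x y, tf (Φ x) (Φ' y) = θ (Cfsg.Agent.H952.F4.tf x y)

omit [Infinite k] in
theorem Cmp.Dop {θ : k →+* k} {Φ Φ' : (I27 → k) →ₛₗ[θ] (I27 → k)} (h : Cmp θ Φ Φ') (p b y : I27 → k) :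
    Φ (Dop p b y) = Cfsg.Agent.R2.H9.E6.Dop (Φ p) (Φ' b) (Φ y) := by
  rw [Dop_apply, Dop_apply, map_sub, map_smulₛₗ, tf_comm (Φ' b), h.tf, tf_comm y, ← h.cr', ← h.cr]

omit [Infinite k] in
theorem Cmp.swap {θ : k →+* k} {Φ Φ' : (I27 → k) →ₛₗ[θ] (I27 → k)} (h : Cmp θ Φ Φ') : Cmp θ Φ' Φ :=
  ⟨h.cr', h.cr, fun x y => by rw [tf_comm, h.tf, tf_comm]⟩

/-- a semilinear diagonal map maps weight vectors to weight vectors -/
theorem EF.map_wv {θ : k →+* k} {v₁ v₁' v₂ v₂' : Fin 3 → ℕ → (I27 → k)}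
    {R₁ R₂ : SpecialLinearGroup (Fin 2) K →* ↥(Zgrp k)} (E₁ : EF τ R₁ v₁ v₁') (E₂ : EF τ R₂ v₂ v₂')
    {Φ : (I27 → k) →ₛₗ[θ] (I27 → k)} {a : Fin 3 → ℕ → k}
    (hΦ : ∀ i s, s ≤ nn i → Φ (v₁ i s) = a i s • v₂ i s) {w : ℤ} {x : I27 → k} (hx : Wv v₁ v₁' w x) :
    Wv v₂ v₂' w (Φ x) := by
  rw [← E₁.sum_co x, map_sum]
  refine Wv.sum _ _ fun j _ => ?_
  rw [map_smulₛₗ]
  by_cases hj : wt j.1 j.2 = w
  · rw [hΦ j.1 j.2 (by omega), ← hj]
    exact ((E₂.wv (by omega)).smul _).smul _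
  · rw [E₁.co_wv hx hj, map_zero, zero_smul]
    exact Wv.zero _

/-- **conjugates of `x`** -/
theorem EF.X.semi {θ : k →+* k} {v₁ v₁' v₂ v₂' : Fin 3 → ℕ → (I27 → k)}
    {R₁ R₂ : SpecialLinearGroup (Fin 2) K →* ↥(Zgrp k)} {E₁ : EF τ R₁ v₁ v₁'} {E₂ : EF τ R₂ v₂ v₂'}
    {Φ Φ' : (I27 → k) →ₛₗ[θ] (I27 → k)} (hC : Cmp θ Φ Φ') (hinj : ∀ x, Φ x = 0 → x = 0)
    {d d' : Fin 3 → k} {γ : k} (hγ : γ ≠ 0) (hd : ∀ i, d i ≠ 0) (hΦ : ∀ i s, s ≤ nn i → Φ (v₁ i s) = (d i * γ ^ s) • v₂ i s)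
    (hΦ' : ∀ i s, s ≤ nn i → Φ' (v₁' i s) = (d' i * γ ^ s) • v₂' i s) {b₁ b₂ : I27 → k} (h₁ : E₁.X b₁) (h₂ : E₂.X b₂) :
    ∃ κ : k, κ ≠ 0 ∧ ∀ y, Φ (Dop (v₁ 0 12) b₁ y) = κ • Dop (v₂ 0 12) b₂ (Φ y) := by
  have hp : Φ (v₁ 0 12) = (d 0 * γ ^ 12) • v₂ 0 12 := hΦ 0 12 le_rfl
  have hp0 : d 0 * γ ^ 12 ≠ 0 := mul_ne_zero (hd 0) (pow_ne_zero _ hγ)
  have hb : Wv v₂' v₂ 2 (Φ' b₁) := EF.map_wv E₁.swap E₂.swap hΦ' h₁.wb
  have he : ∀ x, Φ (E₁.e x) = γ • E₂.e (Φ x) := by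
    intro x
    rw [← E₁.sum_co x]
    simp only [map_sum, Finset.smul_sum]
    refine Finset.sum_congr rfl fun j _ => ?_
    have e1 : Φ (E₁.e (E₁.co j.1 j.2 x • v₁ j.1 j.2)) = θ (E₁.co j.1 j.2 x) • ((nn j.1 - j.2 : ℕ) : k) • Φ (v₁ j.1 (j.2 + 1)) := by
      rw [map_smul, map_smulₛₗ, E₁.e_apply (by omega), map_smulₛₗ, map_natCast]
    have e2 : E₂.e (Φ (E₁.co j.1 j.2 x • v₁ j.1 j.2)) =
        θ (E₁.co j.1 j.2 x) • (d j.1 * γ ^ (j.2 : ℕ)) • ((nn j.1 - j.2 : ℕ) : k) • v₂ j.1 (j.2 + 1) := by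
      rw [map_smulₛₗ, hΦ j.1 j.2 (by omega), map_smul, map_smul, E₂.e_apply (by omega)]
    rw [e1, e2]
    rcases Nat.lt_or_ge (j.2 : ℕ) (nn j.1) with h1 | h1
    · rw [hΦ j.1 (j.2 + 1) (by omega), smul_smul, smul_smul, smul_smul, smul_smul, smul_smul]
      congr 1
      ring
    · rw [show nn j.1 - (j.2 : ℕ) = 0 by omega, Nat.cast_zero, zero_smul, zero_smul, smul_zero, smul_zero, smul_zero,
        smul_zero]
  have hcomm : ∀ y, E₂.e (Dop (v₂ 0 12) (Φ' b₁) y) = Dop (v₂ 0 12) (Φ' b₁) (E₂.e y) := by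
    intro y
    have h1 : E₂.e.comp (Dop (v₂ 0 12) (Φ' b₁)) = (Dop (v₂ 0 12) (Φ' b₁)).comp E₂.e := by
      refine E₂.hom_ext fun i s hs => ?_
      rw [LinearMap.comp_apply, LinearMap.comp_apply]
      have h2 := congrArg Φ (h₁.comm (v₁ i s))
      rw [he, hC.Dop, hC.Dop, he, hp, hΦ i s hs, Dop_smul_left, Dop_smul_left] at h2
      simp only [map_smul] at h2
      rw [smul_smul, smul_smul, smul_smul, smul_smul] at h2
      have h3 : γ * (d 0 * γ ^ 12 * (d i * γ ^ s)) ≠ 0 :=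
        mul_ne_zero hγ (mul_ne_zero hp0 (mul_ne_zero (hd i) (pow_ne_zero _ hγ)))
      have h4 : (γ * (d 0 * γ ^ 12 * (d i * γ ^ s))) • E₂.e (Dop (v₂ 0 12) (Φ' b₁) (v₂ i s)) =
          (γ * (d 0 * γ ^ 12 * (d i * γ ^ s))) • Dop (v₂ 0 12) (Φ' b₁) (E₂.e (v₂ i s)) := by
        refine Eq.trans ?_ (h2.trans ?_)
        · congr 1
          ring
        · congr 1
          ring
      exact smul_right_injective _ h3 h4
    exact LinearMap.congr_fun h1 y
  obtain ⟨κ, hκ⟩ := h₂.unique hb hcomm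
  have hfin : ∀ y, Φ (Dop (v₁ 0 12) b₁ y) = (d 0 * γ ^ 12 * κ) • Dop (v₂ 0 12) b₂ (Φ y) := by
    intro y
    rw [hC.Dop, hp, Dop_smul_left, hκ, smul_smul]
  refine ⟨_, ?_, hfin⟩
  intro h0
  obtain ⟨y, hy⟩ := h₁.ne
  apply hy
  apply hinj
  rw [hfin, h0, zero_smul]

/-! ## the isomorphism `φ : V → V'` -/

/-- the isomorphism -/
noncomputable def EF.phi (E : EF τ R v v') (α : Fin 3 → k) : (I27 → k) →ₗ[k] (I27 → k) :=
  E.B.constr k fun j => α j.1 • v' j.1 j.2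

omit [Infinite k] in
theorem EF.phi_apply (E : EF τ R v v') (α : Fin 3 → k) (i : Fin 3) (s : ℕ) : E.phi α (v i s) = α i • v' i s := by
  rcases Nat.lt_or_ge (nn i) s with h | h
  · rw [(E.bs i).zero s h, (E.bs' i).zero s h, map_zero, smul_zero]
  · have h1 := E.B.constr_basis k (fun j => α j.1 • v' j.1 j.2) ⟨i, ⟨s, by omega⟩⟩
    rw [E.B_apply] at h1
    exact h1

omit [Infinite k] in
theorem EF.phi_e (E : EF τ R v v') (α : Fin 3 → k) (x : I27 → k) : E.phi α (E.e x) = E.swap.e (E.phi α x) := by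
  have h1 : (E.phi α).comp E.e = E.swap.e.comp (E.phi α) := by
    refine E.hom_ext fun i s hs => ?_
    rw [LinearMap.comp_apply, LinearMap.comp_apply, E.e_apply hs, map_smul, E.phi_apply, E.phi_apply, map_smul,
      E.swap.e_apply hs, smul_comm]
  exact LinearMap.congr_fun h1 x

theorem EF.phi_wv (E : EF τ R v v') (α : Fin 3 → k) {w : ℤ} {x : I27 → k} (hx : Wv v v' w x) : Wv v' v w (E.phi α x) := by
  rw [← E.sum_co x, map_sum]
  refine Wv.sum _ _ fun j _ => ?_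
  rw [map_smul, E.phi_apply]
  by_cases hj : wt j.1 j.2 = w
  · rw [← hj]
    exact ((E.swap.wv (by omega)).smul _).smul _
  · rw [E.co_wv hx hj, zero_smul]
    exact Wv.zero _

/-- `W_i` and `W'_j` are orthogonal -/
theorem EF.tf_ne (E : EF τ R v v') {i j : Fin 3} (hij : nn j < nn i) (s : ℕ) : ∀ s', tf (v i s) (v' j s') = 0 := by
  induction s with
  | zero =>
    intro s'
    rcases Nat.lt_or_ge (nn j) s' with h | h
    · rw [(E.bs' j).zero s' h, tf_zero_right]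
    · exact E.pair _ _ _ _ (by omega)
  | succ s ih =>
    intro s'
    rcases Nat.lt_or_ge s (nn i) with h | h
    swap
    · rw [(E.bs i).zero (s + 1) (by omega), tf_zero_left]
    rcases Nat.lt_or_ge (nn j) s' with h' | h'
    · rw [(E.bs' j).zero s' h', tf_zero_right]
    have h1 := E.tf_e (v i s) (v' j s')
    rw [E.e_apply h.le, E.swap.e_apply h', tf_smul_left, tf_smul_right, ih, mul_zero, add_zero, mul_eq_zero] at h1
    have := nn_le i
    exact h1.resolve_left (E.ne _ (by omega) (by omega))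

theorem EF.tf_ne' (E : EF τ R v v') {i j : Fin 3} (hij : i ≠ j) (s s' : ℕ) : tf (v i s) (v' j s') = 0 := by
  rcases Nat.lt_trichotomy (nn i) (nn j) with h | h | h
  · rw [tf_comm]
    exact E.swap.tf_ne h s' s
  · exact absurd (nn_inj _ _ h) hij
  · exact E.tf_ne h s s'

theorem EF.tf_symm (E : EF τ R v v') (i : Fin 3) (s s' : ℕ) : tf (v i s) (v' i s') = tf (v i s') (v' i s) := by
  rcases Nat.lt_or_ge (nn i) s with h | h
  · rw [(E.bs i).zero s h, (E.bs' i).zero s h, tf_zero_left, tf_zero_right]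
  rcases Nat.lt_or_ge (nn i) s' with h' | h'
  · rw [(E.bs i).zero s' h', (E.bs' i).zero s' h', tf_zero_left, tf_zero_right]
  by_cases hN : 2 * (s + s') = nn i + nn i
  · have h1 := tf_act (R w) (v i s) (v' i s')
    have h2 := (E.bs i).w s h
    have h3 := (E.bs' i).w s' h'
    rw [MonoidHom.comp_apply] at h2 h3
    rw [h2, h3, tf_smul_left, tf_smul_right, ← mul_assoc, ← pow_add, show s + s' = nn i by omega,
      (nn_even i).neg_one_pow, one_mul, show nn i - s = s' by omega, show nn i - s' = s by omega] at h1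
    exact h1.symm
  · rw [E.pair _ _ _ _ hN, E.pair _ _ _ _ (by omega)]

theorem EF.phi_symm (E : EF τ R v v') (α : Fin 3 → k) (x y : I27 → k) : tf x (E.phi α y) = tf y (E.phi α x) := by
  have h1 : ∀ i s, s ≤ nn i → ∀ j s', s' ≤ nn j → tf (v i s) (E.phi α (v j s')) = tf (v j s') (E.phi α (v i s)) := by
    intro i s hs j s' hs'
    rw [E.phi_apply, E.phi_apply, tf_smul_right, tf_smul_right]
    by_cases hij : i = j
    · rw [hij, E.tf_symm]
    · rw [E.tf_ne' hij, E.tf_ne' (Ne.symm hij), mul_zero, mul_zero]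
  have h2 : ∀ i s, s ≤ nn i → tf (v i s) (E.phi α y) = tf y (E.phi α (v i s)) := by
    intro i s hs
    have h3 : (tfB k (v i s)).comp (E.phi α) = (tfB k).flip (E.phi α (v i s)) := E.hom_ext fun j s' hs' => h1 i s hs j s' hs'
    exact LinearMap.congr_fun h3 y
  have h3 : (tfB k).flip (E.phi α y) = (tfB k y).comp (E.phi α) := E.hom_ext fun i s hs => h2 i s hs
  exact LinearMap.congr_fun h3 x

/-- the defect of skewness -/
noncomputable def EF.S (E : EF τ R v v') (α : Fin 3 → k) (b : I27 → k) (x y : I27 → k) : k :=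
  tf (Dop (v 0 12) b x) (E.phi α y) + tf x (E.phi α (Dop (v 0 12) b y))

theorem EF.S_symm (E : EF τ R v v') (α : Fin 3 → k) (b x y : I27 → k) : E.S α b x y = E.S α b y x := by
  unfold EF.S
  rw [E.phi_symm, E.phi_symm α x, add_comm]

theorem EF.S_e {E : EF τ R v v'} {b : I27 → k} (h : E.X b) (α : Fin 3 → k) (x y : I27 → k) :
    E.S α b (E.e x) y + E.S α b x (E.e y) = 0 := by
  unfold EF.S
  rw [← h.comm, ← h.comm, E.phi_e, E.phi_e]
  linear_combination E.tf_e (Dop (v 0 12) b x) (E.phi α y) + E.tf_e x (E.phi α (Dop (v 0 12) b y))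

theorem EF.S_smul_left (E : EF τ R v v') (α : Fin 3 → k) (b : I27 → k) (c : k) (x y : I27 → k) :
    E.S α b (c • x) y = c * E.S α b x y := by
  unfold EF.S
  rw [map_smul, tf_smul_left, tf_smul_left]
  ring

theorem EF.S_smul_right (E : EF τ R v v') (α : Fin 3 → k) (b : I27 → k) (c : k) (x y : I27 → k) :
    E.S α b x (c • y) = c * E.S α b x y := by
  rw [E.S_symm, E.S_smul_left, E.S_symm]

theorem EF.S_zero_right (E : EF τ R v v') (α : Fin 3 → k) (b : I27 → k) (x : I27 → k) :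
    E.S α b x 0 = 0 := by
  have := E.S_smul_right α b 0 x 0
  rwa [zero_smul, zero_mul] at this

theorem EF.S_wv {E : EF τ R v v'} {b : I27 → k} (h : E.X b) (α : Fin 3 → k) {w w' : ℤ} {x y : I27 → k} (hx : Wv v v' w x)
    (hy : Wv v v' w' y) (hw : w + w' ≠ -14) : E.S α b x y = 0 := by
  unfold EF.S
  rw [E.tf_wv (E.Dop_wv h.wb hx) (E.phi_wv α hy) (by omega), E.tf_wv hx (E.phi_wv α (E.Dop_wv h.wb hy)) (by omega), add_zero]

theorem EF.S_zero {E : EF τ R v v'} {b : I27 → k} (h : E.X b) (α : Fin 3 → k) {i j : Fin 3}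
    (h0 : ∀ s0, 2 * s0 + 14 = nn i + nn j → s0 ≤ nn j → E.S α b (v i 0) (v j s0) = 0) (s : ℕ) :
    s ≤ nn i → ∀ s', s' ≤ nn j → E.S α b (v i s) (v j s') = 0 := by
  induction s with
  | zero =>
    intro _ s' hs'
    by_cases hw : wt i 0 + wt j s' = -14
    · refine h0 s' ?_ hs'
      unfold wt at hw
      omega
    · exact EF.S_wv h α (E.wv (Nat.zero_le _)) (E.wv hs') hw
  | succ s ih =>
    intro hs s' hs'
    have h1 := EF.S_e h α (v i s) (v j s')
    rw [E.e_apply (by omega), E.e_apply hs', E.S_smul_left, E.S_smul_right] at h1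
    have h2 : ((nn j - s' : ℕ) : k) * E.S α b (v i s) (v j (s' + 1)) = 0 := by
      rcases Nat.lt_or_ge s' (nn j) with h3 | h3
      · rw [ih (by omega) (s' + 1) (by omega), mul_zero]
      · rw [show nn j - s' = 0 by omega, Nat.cast_zero, zero_mul]
    rw [h2, add_zero, mul_eq_zero] at h1
    have := nn_le i
    exact h1.resolve_left (E.ne _ (by omega) (by omega))

theorem EF.S_zero_diag0 {E : EF τ R v v'} {b : I27 → k} (h : E.X b) (α : Fin 3 → k) : E.S α b (v 0 0) (v 0 5) = 0 := by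
  have key : ∀ s s', s ≤ 12 → s' ≤ 12 → ((12 - s : ℕ) : k) * E.S α b (v 0 (s + 1)) (v 0 s') +
      ((12 - s' : ℕ) : k) * E.S α b (v 0 s) (v 0 (s' + 1)) = 0 := by
    intro s s' hs hs'
    have h1 := EF.S_e h α (v 0 s) (v 0 s')
    rwa [E.e_apply (i := 0) hs, E.e_apply (i := 0) hs', E.S_smul_left, E.S_smul_right] at h1
  have h22 := key 2 2 (by norm_num) (by norm_num)
  rw [E.S_symm α b (v 0 (2 + 1)) (v 0 2)] at h22
  have e1 : E.S α b (v 0 2) (v 0 3) = 0 := by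
    have h1 : (2 : k) * (((12 - 2 : ℕ) : k) * E.S α b (v 0 2) (v 0 (2 + 1))) = 0 := by linear_combination h22
    exact (mul_eq_zero.1 ((mul_eq_zero.1 h1).resolve_left E.two)).resolve_left (E.ne _ (by norm_num) (by norm_num))
  have h13 := key 1 3 (by norm_num) (by norm_num)
  rw [show (1 + 1 : ℕ) = 2 from rfl, e1, mul_zero, zero_add, mul_eq_zero] at h13
  have e2 : E.S α b (v 0 1) (v 0 4) = 0 := h13.resolve_left (E.ne _ (by norm_num) (by norm_num))
  have h04 := key 0 4 (by norm_num) (by norm_num)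
  rw [zero_add, e2, mul_zero, zero_add, mul_eq_zero] at h04
  exact h04.resolve_left (E.ne _ (by norm_num) (by norm_num))

theorem EF.S_zero_diag1 {E : EF τ R v v'} {b : I27 → k} (h : E.X b) (α : Fin 3 → k) : E.S α b (v 1 0) (v 1 1) = 0 := by
  have h1 := EF.S_e h α (v 1 0) (v 1 0)
  rw [E.e_apply (i := 1) (Nat.zero_le _), E.S_smul_left, E.S_smul_right, E.S_symm α b (v 1 (0 + 1)) (v 1 0)] at h1
  have h2 : (2 : k) * (((nn 1 - 0 : ℕ) : k) * E.S α b (v 1 0) (v 1 (0 + 1))) = 0 := by linear_combination h1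
  exact (mul_eq_zero.1 ((mul_eq_zero.1 h2).resolve_left E.two)).resolve_left (E.ne _ (by decide) (by decide))

/-- **skewness** -/
theorem EF.skew {E : EF τ R v v'} {b : I27 → k} (h : E.X b) (α : Fin 3 → k) (h01 : E.S α b (v 0 0) (v 1 3) = 0)
    (h02 : E.S α b (v 0 0) (v 2 1) = 0) (y : I27 → k) :
    E.phi α (Dop (v 0 12) b y) = - Dop b (v 0 12) (E.phi α y) := by
  have z01 := EF.S_zero h α (i := 0) (j := 1) fun s0 h0 _ => by
    have h1 : s0 = 3 := by
      change 2 * s0 + 14 = 12 + 8 at h0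
      omega
    rw [h1]
    exact h01
  have z02 := EF.S_zero h α (i := 0) (j := 2) fun s0 h0 _ => by
    have h1 : s0 = 1 := by
      change 2 * s0 + 14 = 12 + 4 at h0
      omega
    rw [h1]
    exact h02
  have z00 := EF.S_zero h α (i := 0) (j := 0) fun s0 h0 _ => by
    have h1 : s0 = 5 := by
      change 2 * s0 + 14 = 12 + 12 at h0
      omega
    rw [h1]
    exact EF.S_zero_diag0 h α
  have z11 := EF.S_zero h α (i := 1) (j := 1) fun s0 h0 _ => by
    have h1 : s0 = 1 := by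
      change 2 * s0 + 14 = 8 + 8 at h0
      omega
    rw [h1]
    exact EF.S_zero_diag1 h α
  have z12 := EF.S_zero h α (i := 1) (j := 2) fun s0 h0 _ => by
    exfalso
    change 2 * s0 + 14 = 8 + 4 at h0
    omega
  have z22 := EF.S_zero h α (i := 2) (j := 2) fun s0 h0 _ => by
    exfalso
    change 2 * s0 + 14 = 4 + 4 at h0
    omega
  have hS : ∀ i s, s ≤ nn i → ∀ j s', s' ≤ nn j → E.S α b (v i s) (v j s') = 0 := by
    intro i s hs j s' hs'
    fin_cases i <;> fin_cases j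
    · exact z00 s hs s' hs'
    · exact z01 s hs s' hs'
    · exact z02 s hs s' hs'
    · rw [E.S_symm]; exact z01 s' hs' s hs
    · exact z11 s hs s' hs'
    · exact z12 s hs s' hs'
    · rw [E.S_symm]; exact z02 s' hs' s hs
    · rw [E.S_symm]; exact z12 s' hs' s hs
    · exact z22 s hs s' hs'
  have h1 : (E.phi α).comp (Dop (v 0 12) b) = -((Dop b (v 0 12)).comp (E.phi α)) := by
    refine E.hom_ext fun j s' hs' => ?_
    rw [LinearMap.comp_apply, LinearMap.neg_apply, LinearMap.comp_apply, ← sub_eq_zero, sub_neg_eq_add]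
    refine tf_nondeg fun x => ?_
    rw [tf_comm]
    have h2 : (tfB k).flip (E.phi α (Dop (v 0 12) b (v j s')) + Dop b (v 0 12) (E.phi α (v j s'))) = 0 := by
      refine E.hom_ext fun i s hs => ?_
      rw [LinearMap.zero_apply, LinearMap.flip_apply, tfB_apply, tf_add_right, ← tf_Dop, add_comm]
      exact hS i s hs j s' hs'
    exact LinearMap.congr_fun h2 x
  exact LinearMap.congr_fun h1 y

end Cfsg.Agent.R2.H9.E6.Gr
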