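import Mathlib
import Cfsg.Agent.H199.PslAut
import Cfsg.Agent.R2.H9.E6.Kb3
import Cfsg.Agent.H943.SL2Rel

/-!
# The action of `M` on `PSL(2, K)` in explicit form (helper9)

`exists_conj` : for `m ∈ M` there is `s₁ ∈ SL(2, K)` such that `m ψ(s₁)⁻¹` acts on `ψ(PSL(2, K))` as
`diag(c, 1) σ(·) diag(c, 1)⁻¹`.
-/

set_option autoImplicit false
set_option linter.unusedSectionVars false

namespace Cfsg.Agent.R2.H9.E6.Gr

open Cfsg Cfsg.Lie Module Matrix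
open Cfsg.Agent.H943.SL2Rel
open Cfsg.Agent.ChevalleyStructure.E6Min.Basic (Zgrp)
open Cfsg.Agent.ClassicalGeometry.AutPSL.Root (pr pr_surjective)
open Cfsg.Agent.ClassicalGeometry.AutPSL.Auto (cj coe_cj fld coe_fld_apply)
open Cfsg.Agent.H199.PslAut (Psi phi Psi_pr phi_pr Psi_coe exists_form)
open Cfsg.Agent.R2.H9.E6

universe u v w

variable {K : Type w} [Field K]

/-- `diag(c, 1)` -/
def dg (c : Kˣ) : GL (Fin 2) K := ⟨!![(c : K), 0; 0, 1], !![((c⁻¹ : Kˣ) : K), 0; 0, 1], by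
    ext i j; fin_cases i <;> fin_cases j <;> simp [Matrix.mul_apply, Fin.sum_univ_two], by
    ext i j; fin_cases i <;> fin_cases j <;> simp [Matrix.mul_apply, Fin.sum_univ_two]⟩

/-- the automorphism -/
def al (c : Kˣ) (σ : K ≃+* K) (s : SpecialLinearGroup (Fin 2) K) : SpecialLinearGroup (Fin 2) K := cj (dg c) (fld σ s)

theorem coe_al (c : Kˣ) (σ : K ≃+* K) (s : SpecialLinearGroup (Fin 2) K) :
    (al c σ s : Matrix (Fin 2) (Fin 2) K) = !![(c : K), 0; 0, 1] * (s.1.map σ) * !![((c⁻¹ : Kˣ) : K), 0; 0, 1] := rfl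

theorem al_aux (c : Kˣ) (σ : K ≃+* K) (x y z t : K) :
    !![(c : K), 0; 0, 1] * (!![x, y; z, t].map σ) * !![((c⁻¹ : Kˣ) : K), 0; 0, 1] =
      !![σ x, c * σ y; σ z * ((c⁻¹ : Kˣ) : K), σ t] := by
  have h1 : !![x, y; z, t].map σ = !![σ x, σ y; σ z, σ t] := by
    ext i j
    fin_cases i <;> fin_cases j <;> rfl
  rw [h1, Matrix.mul_fin_two, Matrix.mul_fin_two]
  have h2 : (c : K) * σ x * ((c⁻¹ : Kˣ) : K) = σ x := by
    rw [mul_comm, ← mul_assoc, Units.inv_mul, one_mul]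
  simp only [zero_mul, mul_zero, add_zero, zero_add, one_mul, mul_one, h2]

theorem al_eq (c : Kˣ) (σ : K ≃+* K) (x y z t : K) (s : SpecialLinearGroup (Fin 2) K) (hs : s.1 = !![x, y; z, t]) :
    (al c σ s).1 = !![σ x, c * σ y; σ z * ((c⁻¹ : Kˣ) : K), σ t] := by
  rw [← al_aux, ← hs]
  rfl

theorem al_u (c : Kˣ) (σ : K ≃+* K) (t : K) : al c σ (u t) = u (c * σ t) := by
  apply Subtype.ext
  rw [al_eq c σ 1 t 0 1 (u t) rfl, map_one, map_zero, zero_mul]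
  rfl

theorem al_h (c : Kˣ) (σ : K ≃+* K) (a : Kˣ) : al c σ (h a) = h (Units.map (σ : K →* K) a) := by
  apply Subtype.ext
  rw [al_eq c σ a 0 0 (a : K)⁻¹ (h a) rfl, map_zero, zero_mul, mul_zero, map_inv₀]
  rfl

theorem al_w (c : Kˣ) (σ : K ≃+* K) : al c σ w = h c * w := by
  apply Subtype.ext
  rw [al_eq c σ 0 1 (-1) 0 w rfl, map_zero, map_one, map_neg, map_one]
  show _ = !![(c : K), 0; 0, (c : K)⁻¹] * !![0, 1; -1, 0]
  rw [Matrix.mul_fin_two, Units.val_inv_eq_inv_val]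
  simp

theorem exists_dg (g : GL (Fin 2) K) : ∃ (c : Kˣ) (s : SpecialLinearGroup (Fin 2) K), g = dg c * (s : GL (Fin 2) K) := by
  have hdet : ∀ c : Kˣ, Matrix.det ((dg c : GL (Fin 2) K) : Matrix (Fin 2) (Fin 2) K) = c := by
    intro c
    show Matrix.det !![(c : K), 0; 0, 1] = c
    rw [Matrix.det_fin_two_of]
    ring
  refine ⟨Matrix.GeneralLinearGroup.det g, ⟨(((dg (Matrix.GeneralLinearGroup.det g))⁻¹ * g : GL (Fin 2) K) :
    Matrix (Fin 2) (Fin 2) K), ?_⟩, ?_⟩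
  · have h1 : Matrix.GeneralLinearGroup.det (dg (Matrix.GeneralLinearGroup.det g)) = Matrix.GeneralLinearGroup.det g := by
      apply Units.ext
      exact hdet _
    have h2 : Matrix.GeneralLinearGroup.det ((dg (Matrix.GeneralLinearGroup.det g))⁻¹ * g) = 1 := by
      rw [map_mul, map_inv, h1, inv_mul_cancel]
    exact congrArg Units.val h2
  · apply Units.ext
    show (g : Matrix (Fin 2) (Fin 2) K) = (dg (Matrix.GeneralLinearGroup.det g) : Matrix (Fin 2) (Fin 2) K) *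
      (((dg (Matrix.GeneralLinearGroup.det g))⁻¹ * g : GL (Fin 2) K) : Matrix (Fin 2) (Fin 2) K)
    rw [← Units.val_mul, mul_inv_cancel_left]

variable [Fintype K] {F : Type u} [Field F] {Γ M : Subgroup ↥(Zgrp F)}
  {ψ : ProjectiveSpecialLinearGroup (Fin 2) K →* ↥(Zgrp F)}

/-- **the action of `M`** -/
theorem exists_conj (hS : Setup Γ M ψ) {m : ↥(Zgrp F)} (hm : m ∈ M) :
    ∃ (s₁ : SpecialLinearGroup (Fin 2) K) (c : Kˣ) (σ : K ≃+* K), ∀ s,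
      ψ (pq (al c σ s)) = m * (ψ (pq s₁))⁻¹ * ψ (pq s) * (m * (ψ (pq s₁))⁻¹)⁻¹ := by
  obtain ⟨ac, h1, -, -⟩ := hS.act
  rcases exists_form (n := 2) le_rfl (ac ⟨m, hm⟩) with ⟨g, σ, hg⟩ | ⟨h3, -⟩
  swap
  · omega
  obtain ⟨c, s0, rfl⟩ := exists_dg g
  obtain ⟨s₁, hs₁⟩ : ∃ s₁, fld σ s₁ = s0 := (fld σ).surjective s0
  refine ⟨s₁, c, σ, fun s => ?_⟩
  have h2 : ac ⟨m, hm⟩ ((pq s₁)⁻¹ * pq s * pq s₁) = pq (al c σ s) := by
    rw [hg, ← map_inv, ← map_mul, ← map_mul, map_mul, Psi_coe, MulAut.mul_apply, MulAut.mul_apply]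
    have h3 : phi 2 K σ (pq (s₁⁻¹ * s * s₁)) = pr (s0⁻¹ * fld σ s * s0) := by
      show pr (fld σ (s₁⁻¹ * s * s₁)) = _
      rw [map_mul (fld σ), map_mul (fld σ), map_inv (fld σ), hs₁]
    rw [h3, MulAut.conj_apply, ← map_inv, ← map_mul, ← map_mul]
    have h4 : s0 * (s0⁻¹ * fld σ s * s0) * s0⁻¹ = fld σ s := by group
    rw [h4]
    rfl
  have h3 := h1 ⟨m, hm⟩ ((pq s₁)⁻¹ * pq s * pq s₁)
  rw [h2] at h3
  rw [h3, map_mul, map_mul, map_inv]
  group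

end Cfsg.Agent.R2.H9.E6.Gr
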