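import Mathlib
import Cfsg.Agent.R2.H9.E6.Fr6
import Cfsg.Agent.R2.H9.E6.MAct
import Cfsg.Agent.R2.H14.T.RatC

/-!
# The rational element `1 + t x` (helper9)
-/

set_option autoImplicit false
set_option linter.unusedSectionVars false

namespace Cfsg.Agent.R2.H9.E6.Gr

open Cfsg Cfsg.Lie Module Matrix
open Cfsg.Agent.H943.SL2Rel Cfsg.Agent.H943.SL2Mod Cfsg.Agent.H943.RepAdd
open Cfsg.Agent.ChevalleyStructure Cfsg.Agent.ChevalleyStructure.E6Form.Cubic
  Cfsg.Agent.ChevalleyStructure.E6Form.Table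
open Cfsg.Agent.ChevalleyStructure.E6Min.Basic (Zgrp)
open Cfsg.Agent.H952.F4 (sh cr tf)
open Cfsg.Agent.H952.F4.Jord
open Cfsg.Agent.H163.E6 (V V')
open Cfsg.Agent.H163.E6.Act
open Cfsg.Agent.H65.E6Emb
open Cfsg.Agent.H944.E6Tw (J J_apply J_add J_smul J_eq V_J V'_J Gs cr_J tf_J)
open Cfsg.Agent.R2.GEO (crB crB_apply tfB tfB_apply gzHom gzHom_apply)
open Cfsg.Agent.R2.H9.E6
open Cfsg.Agent.R2.H14.T (semi semJ semi_apply semJ_apply semi_inj semJ_inj emb_mem_Gs)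

universe u v w

theorem cmp_semi {k : Type u} [Field k] (θ : k →+* k) : Cmp θ (semi θ) (semi θ) where
  cr x y := Cfsg.Agent.H65.E6Emb.cr_map θ x y
  cr' x y := Cfsg.Agent.H65.E6Emb.cr_map θ x y
  tf x y := Cfsg.Agent.H65.E6Emb.tf_map θ x y

theorem cmp_semJ {k : Type u} [Field k] (θ : k →+* k) : Cmp θ (semJ θ) (semJ θ) where
  cr x y := cr_J θ x y
  cr' x y := cr_J θ x y
  tf x y := tf_J θ x y

variable {k : Type u} [Field k] [IsAlgClosed k] {K : Type w} [Field K] [Fintype K] [DecidableEq K]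
variable {F : Type v} [Field F] [Fintype F] {f0 : F →+* k}
variable {p a b : ℕ} {Γ M : Subgroup ↥(Zgrp F)} {ψ : ProjectiveSpecialLinearGroup (Fin 2) K →* ↥(Zgrp F)}
variable {τ : K →+* k} {v v' : Fin 3 → ℕ → (I27 → k)}

/-- the elements `1 + t x` -/
theorem EF.exp {R : SpecialLinearGroup (Fin 2) K →* ↥(Zgrp k)} {E : EF τ R v v'} {b₀ : I27 → k} (hb : E.X b₀) (lam : k) :
    ∃ z : ↥(Zgrp k), (∀ y, V k z y = y + lam • Dop (v 0 12) b₀ y) ∧ ∀ y, V' k z y = y - lam • Dop b₀ (v 0 12) y := by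
  have i2 : NeZero (2 : k) := ⟨E.two⟩
  have i3 : NeZero (3 : k) := ⟨E.three⟩
  haveI : Infinite k := inferInstance
  obtain ⟨z, h1, h2⟩ := exists_exp (p := v 0 12) (b := lam • b₀) (by rw [tf_smul_right, hb.tf_p, mul_zero])
    (fun y => by rw [Dop_smul_right, Dop_smul_right, map_smul, E.Dop_sq hb.wb, smul_zero, smul_zero])
  refine ⟨z, fun y => by rw [h1, Dop_smul_right], fun y => by rw [h2, Dop_smul_left]⟩

/-- **the rational element** -/
theorem exists_z (hC : Cfg p a b Γ M ψ) {E : EF τ ((emb f0).comp (ψ.comp pq)) v v'} {b₀ : I27 → k} (hb : E.X b₀) :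
    ∃ z0 ∈ Γ, ∃ lam : k, lam ≠ 0 ∧ (∀ y, V k (emb f0 z0) y = y + lam • Dop (v 0 12) b₀ y) ∧
      ∀ y, V' k (emb f0 z0) y = y - lam • Dop b₀ (v 0 12) y := by
  have hp : p.Prime := hC.prime
  have hfp : Fact p.Prime := ⟨hp⟩
  have hcF : CharP F p := hC.charF
  have hck : CharP k p := charP_of_injective_ringHom f0.injective p
  have : ExpChar k p := ExpChar.prime hp
  obtain ⟨θ, hθ⟩ : ∃ θ : k →+* k, ∀ t, θ t = t ^ (p ^ b) := ⟨iterateFrobenius k p b, fun t => rfl⟩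
  have hb1 := hC.hb
  have hpb : 2 ≤ p ^ b := by
    calc 2 ≤ p := hp.two_le
      _ = p ^ 1 := (pow_one p).symm
      _ ≤ p ^ b := Nat.pow_le_pow_right hp.pos hb1
  have hsolve : ∀ κ : k, κ ≠ 0 → ∃ lam : k, lam ≠ 0 ∧ θ lam * κ = lam := by
    intro κ hκ
    obtain ⟨lam, hlam⟩ := IsAlgClosed.exists_pow_nat_eq κ⁻¹ (n := p ^ b - 1) (by omega)
    have h0 : lam ≠ 0 := by
      rintro rfl
      rw [zero_pow (by omega)] at hlam
      exact inv_ne_zero hκ hlam.symm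
    refine ⟨lam, h0, ?_⟩
    rw [hθ, show p ^ b = (p ^ b - 1) + 1 by omega, pow_succ, hlam, mul_comm κ⁻¹, mul_assoc, inv_mul_cancel₀ hκ, mul_one]
  have hu1 : ∀ t : K, ((1 : Kˣ) : K) * (RingEquiv.refl K) t = t := fun t => by
    rw [Units.val_one, one_mul]
    rfl
  have hh1 : ∀ a : Kˣ, Units.map ((RingEquiv.refl K : K ≃+* K) : K →* K) a = a := fun a => Units.ext rfl
  have hw1 : h (1 : Kˣ) * (w : SpecialLinearGroup (Fin 2) K) = w := by rw [h_one, one_mul]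
  rcases hC.fam with ⟨hΓ, hF, -⟩ | ⟨hF, f, hf, -, hΓ⟩
  · -- untwisted
    have hcom : ∀ g x, semi θ (V k (emb f0 g) x) = V k (emb f0 g) (semi θ x) := by
      intro g x
      have h1 := V_emb θ (emb f0 g) x
      rw [emb_frob f0 θ (fun x => by rw [hθ, hF])] at h1
      exact h1.symm
    have hcom' : ∀ g x, semi θ (V' k (emb f0 g) x) = V' k (emb f0 g) (semi θ x) := by
      intro g x
      have h1 := V'_emb θ (emb f0 g) x
      rw [emb_frob f0 θ (fun x => by rw [hθ, hF])] at h1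
      exact h1.symm
    obtain ⟨-, d, hd, h1⟩ := EF.semi E E θ (semi θ) (semi_inj θ) (RingEquiv.refl K) 1
      (fun t x => by rw [hu1]; exact hcom _ _) (fun a x => by rw [hh1]; exact hcom _ _)
      (fun x => by rw [hw1]; exact hcom _ _)
    obtain ⟨-, d', hd', h1'⟩ := EF.semi E.swap E.swap θ (semi θ) (semi_inj θ) (RingEquiv.refl K) 1
      (fun t x => by
        rw [hu1, MonoidHom.comp_apply, gzHom_apply, V_gz]
        exact hcom' _ _)
      (fun a x => by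
        rw [hh1, MonoidHom.comp_apply, gzHom_apply, V_gz]
        exact hcom' _ _)
      (fun x => by
        rw [hw1, MonoidHom.comp_apply, gzHom_apply, V_gz]
        exact hcom' _ _)
    obtain ⟨κ, hκ, h2⟩ := EF.X.semi (cmp_semi θ) (semi_inj θ) ((map_ne_zero τ).2 (Units.ne_zero (1 : Kˣ))) hd h1 h1' hb hb
    obtain ⟨lam, hlam, h3⟩ := hsolve κ hκ
    obtain ⟨z, hz, hz'⟩ := EF.exp hb lam
    obtain ⟨z0, rfl⟩ := desc_top f0 θ (fun x => by rw [hθ, hF]) z (fun x => by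
      change V k z (semi θ x) = semi θ (V k z x)
      rw [hz, hz, map_add, map_smulₛₗ, h2, smul_smul, h3])
    exact ⟨z0, by rw [hΓ]; trivial, lam, hlam, hz, hz'⟩
  · -- twisted
    have hθf : ∀ t, θ (f0 t) = f0 (f t) := fun t => by rw [hθ, hf, map_pow]
    have hmem : ∀ s, (ψ.comp pq) s ∈ Gs f := by
      intro s
      rw [← hΓ]
      exact hC.set.hle (hC.set.le ⟨pq s, rfl⟩)
    have hcom : ∀ s x, semJ θ (V k (emb f0 ((ψ.comp pq) s)) x) = V' k (emb f0 ((ψ.comp pq) s)) (semJ θ x) := fun s x =>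
      (V'_J θ ((emb_mem_Gs f0 hθf _).2 (hmem s)) x).symm
    have hcom' : ∀ s x, semJ θ (V' k (emb f0 ((ψ.comp pq) s)) x) = V k (emb f0 ((ψ.comp pq) s)) (semJ θ x) := fun s x =>
      (V_J θ ((emb_mem_Gs f0 hθf _).2 (hmem s)) x).symm
    obtain ⟨b', hb'⟩ := E.swap.exists_X
    obtain ⟨-, d, hd, h1⟩ := EF.semi E E.swap θ (semJ θ) (semJ_inj θ) (RingEquiv.refl K) 1
      (fun t x => by
        rw [hu1, MonoidHom.comp_apply (gzHom k), gzHom_apply, V_gz]
        exact hcom _ _)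
      (fun a x => by
        rw [hh1, MonoidHom.comp_apply (gzHom k), gzHom_apply, V_gz]
        exact hcom _ _)
      (fun x => by
        rw [hw1, MonoidHom.comp_apply (gzHom k), gzHom_apply, V_gz]
        exact hcom _ _)
    obtain ⟨-, d', hd', h1'⟩ := EF.semi E.swap E θ (semJ θ) (semJ_inj θ) (RingEquiv.refl K) 1
      (fun t x => by
        rw [hu1, MonoidHom.comp_apply (gzHom k), gzHom_apply, V_gz]
        exact hcom' _ _)
      (fun a x => by
        rw [hh1, MonoidHom.comp_apply (gzHom k), gzHom_apply, V_gz]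
        exact hcom' _ _)
      (fun x => by
        rw [hw1, MonoidHom.comp_apply (gzHom k), gzHom_apply, V_gz]
        exact hcom' _ _)
    obtain ⟨κ, hκ, h2⟩ := EF.X.semi (E₁ := E.swap) (E₂ := E) (cmp_semJ θ) (semJ_inj θ)
      ((map_ne_zero τ).2 (Units.ne_zero (1 : Kˣ))) hd' h1' h1 hb' hb
    obtain ⟨κ₂, hκ₂, h3⟩ := EF.X.adj hb hb'
    obtain ⟨lam, hlam, h4⟩ := hsolve (-(θ κ₂ * κ)) (neg_ne_zero.2 (mul_ne_zero ((map_ne_zero θ).2 hκ₂) hκ))
    obtain ⟨z, hz, hz'⟩ := EF.exp hb lam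
    obtain ⟨z0, hz0, rfl⟩ := desc_tw f0 (q := p ^ b) hF hf θ hθ z (fun x => by
      change V k z (semJ θ x) = semJ θ (V' k z x)
      rw [hz, hz', map_sub, map_smulₛₗ, h3, map_smulₛₗ, h2, smul_smul, smul_smul, sub_eq_add_neg, ← neg_smul]
      congr 2
      refine h4.symm.trans ?_
      ring)
    exact ⟨z0, by rw [hΓ]; exact hz0, lam, hlam, hz, hz'⟩

end Cfsg.Agent.R2.H9.E6.Gr
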