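import Mathlib
import Cfsg.Agent.R2.H9.E6.Fr7

/-!
# The final contradiction for `L(12) + L(8) + L(4)`, equal twists (helper9)
-/

set_option autoImplicit false
set_option linter.unusedSectionVars false

namespace Cfsg.Agent.R2.H9.E6.Gr

open Cfsg Cfsg.Lie Module Matrix
open Cfsg.Agent.H943.SL2Rel Cfsg.Agent.H943.SL2Mod Cfsg.Agent.H943.RepAdd
open Cfsg.Agent.ChevalleyStructure Cfsg.Agent.ChevalleyStructure.E6Form.Cubic
  Cfsg.Agent.ChevalleyStructure.E6Form.Table
open Cfsg.Agent.ChevalleyStructure.E6Min.Basic (Zgrp)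
open Cfsg.Agent.H952.F4 (sh cr tf)
open Cfsg.Agent.H952.F4.Jord
open Cfsg.Agent.H163.E6 (V V')
open Cfsg.Agent.H163.E6.Act
open Cfsg.Agent.H65.E6Emb
open Cfsg.Agent.R2.GEO (crB crB_apply tfB tfB_apply gzHom gzHom_apply)
open Cfsg.Agent.R2.H9.E6 Cfsg.Agent.R2.H9.E6.Kb

universe u v w

section frame

variable {k : Type u} [Field k] {K : Type w} [Field K] [Fintype K] [DecidableEq K]
variable {τ : K →+* k} {R : SpecialLinearGroup (Fin 2) K →* ↥(Zgrp k)} {v v' : Fin 3 → ℕ → (I27 → k)}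

/-- the sum of the `W_i`, `i ∈ J` -/
def EF.W (_ : EF τ R v v') (J : Fin 3 → Prop) : Submodule k (I27 → k) :=
  Submodule.span k {x | ∃ i s, J i ∧ x = v i s}

theorem EF.mem_W (E : EF τ R v v') {J : Fin 3 → Prop} {i : Fin 3} (h : J i) (s : ℕ) : v i s ∈ E.W J :=
  Submodule.subset_span ⟨i, s, h, rfl⟩

theorem EF.W_ind (E : EF τ R v v') {J : Fin 3 → Prop} {f : (I27 → k) →ₗ[k] (I27 → k)}
    (h : ∀ i s, J i → s ≤ nn i → f (v i s) ∈ E.W J) : ∀ y ∈ E.W J, f y ∈ E.W J := by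
  intro y hy
  have h1 : E.W J ≤ (E.W J).comap f := by
    conv_lhs => rw [EF.W]
    rw [Submodule.span_le]
    rintro _ ⟨i, s, hi, rfl⟩
    rcases Nat.lt_or_ge (nn i) s with h2 | h2
    · rw [(E.bs i).zero s h2]
      exact Submodule.zero_mem _
    · exact h i s hi h2
  exact h1 hy

theorem EF.co_W (E : EF τ R v v') {J : Fin 3 → Prop} {i : Fin 3} (h : ¬ J i) (s : ℕ) {y : I27 → k} (hy : y ∈ E.W J) :
    E.co i s y = 0 := by
  have h1 : E.W J ≤ LinearMap.ker (E.co i s) := by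
    rw [EF.W, Submodule.span_le]
    rintro _ ⟨j, s', hj, rfl⟩
    exact E.co_ne (Or.inl fun hij => h (by rw [hij]; exact hj))
  exact h1 hy

theorem EF.W_stab (E : EF τ R v v') (J : Fin 3 → Prop) (s : SpecialLinearGroup (Fin 2) K) :
    ∀ y ∈ E.W J, V k (R s) y ∈ E.W J := by
  refine induct (P := fun s => ∀ y ∈ E.W J, V k (R s) y ∈ E.W J) (fun t => ?_) (fun c => ?_) ?_ (fun g h hg hh => ?_) s
  · refine E.W_ind fun i s hi hs => ?_
    have h1 := (E.bs i).u s hs t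
    rw [MonoidHom.comp_apply] at h1
    rw [h1]
    exact Submodule.sum_mem _ fun j _ => Submodule.smul_mem _ _ (E.mem_W hi _)
  · refine E.W_ind fun i s hi hs => ?_
    have h1 := (E.bs i).h s hs c
    rw [MonoidHom.comp_apply] at h1
    rw [h1]
    exact Submodule.smul_mem _ _ (E.mem_W hi _)
  · refine E.W_ind fun i s hi hs => ?_
    have h1 := (E.bs i).w s hs
    rw [MonoidHom.comp_apply] at h1
    rw [h1]
    exact Submodule.smul_mem _ _ (E.mem_W hi _)
  · intro y hy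
    rw [map_mul, map_mul, Module.End.mul_apply]
    exact hg _ (hh _ hy)

theorem EF.W_ne_bot (E : EF τ R v v') {J : Fin 3 → Prop} {i : Fin 3} (h : J i) : E.W J ≠ ⊥ := by
  intro h0
  have h1 := E.mem_W h 0
  rw [h0, Submodule.mem_bot] at h1
  exact E.top_ne (Nat.zero_le _) h1

theorem EF.W_ne_top (E : EF τ R v v') {J : Fin 3 → Prop} {i : Fin 3} (h : ¬ J i) : E.W J ≠ ⊤ := by
  intro h0
  have h1 : v i 0 ∈ E.W J := by rw [h0]; trivial
  have h2 := E.co_W h 0 h1
  rw [E.co_self (Nat.zero_le _)] at h2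
  exact one_ne_zero h2

/-- `φ` is equivariant -/
theorem EF.phi_R (E : EF τ R v v') (α : Fin 3 → k) (s : SpecialLinearGroup (Fin 2) K) :
    ∀ y, E.phi α (V k (R s) y) = V' k (R s) (E.phi α y) := by
  have key : ∀ g, (∀ i s, s ≤ nn i → E.phi α (V k (R g) (v i s)) = V' k (R g) (E.phi α (v i s))) →
      ∀ y, E.phi α (V k (R g) y) = V' k (R g) (E.phi α y) := by
    intro g h y
    have h1 : (E.phi α).comp (V k (R g)) = (V' k (R g)).comp (E.phi α) := E.hom_ext h
    exact LinearMap.congr_fun h1 y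
  refine induct (P := fun s => ∀ y, E.phi α (V k (R s) y) = V' k (R s) (E.phi α y)) (fun t => ?_) (fun c => ?_) ?_
    (fun g h hg hh => ?_) s
  · refine key _ fun i s hs => ?_
    have h1 := (E.bs i).u s hs t
    have h2 := (E.bs' i).u s hs t
    rw [MonoidHom.comp_apply] at h1 h2
    rw [h1, E.phi_apply, map_smul, h2, map_sum, Finset.smul_sum]
    refine Finset.sum_congr rfl fun j _ => ?_
    rw [map_smul, E.phi_apply, smul_comm]
  · refine key _ fun i s hs => ?_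
    have h1 := (E.bs i).h s hs c
    have h2 := (E.bs' i).h s hs c
    rw [MonoidHom.comp_apply] at h1 h2
    rw [h1, map_smul]
    simp only [E.phi_apply]
    rw [map_smul, h2, smul_comm]
  · refine key _ fun i s hs => ?_
    have h1 := (E.bs i).w s hs
    have h2 := (E.bs' i).w s hs
    rw [MonoidHom.comp_apply] at h1 h2
    rw [h1, map_smul]
    simp only [E.phi_apply]
    rw [map_smul, h2, smul_comm]
  · intro y
    rw [map_mul, map_mul, map_mul, Module.End.mul_apply, Module.End.mul_apply, hg, hh]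

theorem EF.tf_ne0 [Infinite k] (E : EF τ R v v') (i : Fin 3) : tf (v i 0) (v' i (nn i)) ≠ 0 := by
  intro h0
  apply E.top_ne (i := i) (Nat.zero_le _)
  refine tf_nondeg fun y => ?_
  have h1 : tfB k (v i 0) = 0 := by
    refine E.swap.hom_ext fun j s hs => ?_
    rw [LinearMap.zero_apply, tfB_apply]
    by_cases hij : i = j
    · rw [← hij]
      rcases eq_or_lt_of_le hs with h1 | h1
      · rw [h1, ← hij, h0]
      · rw [← hij] at h1
        exact E.pair _ _ _ _ (by omega)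
    · exact E.tf_ne' hij _ _
  exact LinearMap.congr_fun h1 y

end frame

theorem inv_stab {k : Type u} [Field k] {W : Submodule k (I27 → k)} {g : ↥(Zgrp k)} (h : ∀ y ∈ W, V k g y ∈ W) :
    ∀ y ∈ W, V k g⁻¹ y ∈ W := by
  intro y hy
  let f : W →ₗ[k] W := (V k g).restrict h
  have hf : Function.Injective f := by
    intro x z hxz
    apply Subtype.ext
    have h1 : V k g x = V k g z := congrArg Subtype.val hxz
    rw [← V_inv_apply g (x : I27 → k), h1, V_inv_apply]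
  obtain ⟨x, hx⟩ := LinearMap.surjective_of_injective hf ⟨y, hy⟩
  have h1 : V k g x = y := congrArg Subtype.val hx
  rw [← h1, V_inv_apply]
  exact x.2

variable {k : Type u} [Field k] [IsAlgClosed k] {K : Type w} [Field K] [Fintype K] [DecidableEq K]
variable {F : Type v} [Field F] [Fintype F] {f0 : F →+* k}
variable {p a b : ℕ} {Γ M : Subgroup ↥(Zgrp F)} {ψ : ProjectiveSpecialLinearGroup (Fin 2) K →* ↥(Zgrp F)}
variable {τ : K →+* k} {v v' : Fin 3 → ℕ → (I27 → k)}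

/-- the action of `M` on the frame -/
theorem m_act (hC : Cfg p a b Γ M ψ) (E : EF τ ((emb f0).comp (ψ.comp pq)) v v') {m : ↥(Zgrp F)} (hm : m ∈ M) :
    ∃ (s₁ : SpecialLinearGroup (Fin 2) K) (γ : k) (d d' : Fin 3 → k), γ ≠ 0 ∧ (∀ i, d i ≠ 0) ∧ (∀ i, d' i ≠ 0) ∧
      (∀ i s, s ≤ nn i → V k (emb f0 (m * (ψ (pq s₁))⁻¹)) (v i s) = (d i * γ ^ s) • v i s) ∧
      ∀ i s, s ≤ nn i → V' k (emb f0 (m * (ψ (pq s₁))⁻¹)) (v' i s) = (d' i * γ ^ s) • v' i s := by
  obtain ⟨s₁, c, σ, h1⟩ := exists_conj hC.set hm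
  obtain ⟨m₁, hm₁⟩ : ∃ m₁, m₁ = m * (ψ (pq s₁))⁻¹ := ⟨_, rfl⟩
  rw [← hm₁] at h1
  have h2 : ∀ s, emb f0 m₁ * ((emb f0).comp (ψ.comp pq)) s = ((emb f0).comp (ψ.comp pq)) (al c σ s) * emb f0 m₁ := by
    intro s
    rw [MonoidHom.comp_apply, MonoidHom.comp_apply, MonoidHom.comp_apply, MonoidHom.comp_apply, h1, ← map_mul, ← map_mul,
      inv_mul_cancel_right]
  have h3 : ∀ s x, V k (emb f0 m₁) (V k (((emb f0).comp (ψ.comp pq)) s) x) =
      V k (((emb f0).comp (ψ.comp pq)) (al c σ s)) (V k (emb f0 m₁) x) := by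
    intro s x
    rw [← Module.End.mul_apply, ← map_mul, h2, map_mul, Module.End.mul_apply]
  have h3' : ∀ s x, V' k (emb f0 m₁) (V' k (((emb f0).comp (ψ.comp pq)) s) x) =
      V' k (((emb f0).comp (ψ.comp pq)) (al c σ s)) (V' k (emb f0 m₁) x) := by
    intro s x
    rw [← Module.End.mul_apply, ← map_mul, h2, map_mul, Module.End.mul_apply]
  have hinj : ∀ x, V k (emb f0 m₁) x = 0 → x = 0 := fun x hx => by
    rw [← V_inv_apply (emb f0 m₁) x, hx, map_zero]
  have hinj' : ∀ x, V' k (emb f0 m₁) x = 0 → x = 0 := fun x hx => by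
    have h4 : V' k (emb f0 m₁)⁻¹ (V' k (emb f0 m₁) x) = x := by
      rw [← Module.End.mul_apply, ← map_mul, inv_mul_cancel, map_one, Module.End.one_apply]
    rw [← h4, hx, map_zero]
  obtain ⟨-, d, hd, h4⟩ := EF.semi E E (RingHom.id k) (V k (emb f0 m₁)) hinj σ c
    (fun t x => by rw [h3, al_u]) (fun a x => by rw [h3, al_h]) (fun x => by rw [h3, al_w])
  obtain ⟨-, d', hd', h4'⟩ := EF.semi E.swap E.swap (RingHom.id k) (V' k (emb f0 m₁)) hinj' σ c
    (fun t x => by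
      rw [MonoidHom.comp_apply (gzHom k), MonoidHom.comp_apply (gzHom k), gzHom_apply, gzHom_apply, V_gz, V_gz, h3', al_u])
    (fun a x => by
      rw [MonoidHom.comp_apply (gzHom k), MonoidHom.comp_apply (gzHom k), gzHom_apply, gzHom_apply, V_gz, V_gz, h3', al_h])
    (fun x => by
      rw [MonoidHom.comp_apply (gzHom k), MonoidHom.comp_apply (gzHom k), gzHom_apply, gzHom_apply, V_gz, V_gz, h3', al_w])
  exact ⟨s₁, τ c, d, d', (map_ne_zero τ).2 c.ne_zero, hd, hd', by rw [← hm₁]; exact h4, by rw [← hm₁]; exact h4'⟩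

/-- `M` preserves the `W_J` -/
theorem m_W (hC : Cfg p a b Γ M ψ) (E : EF τ ((emb f0).comp (ψ.comp pq)) v v') (J : Fin 3 → Prop) {m : ↥(Zgrp F)}
    (hm : m ∈ M) : ∀ y ∈ E.W J, V k (emb f0 m) y ∈ E.W J := by
  obtain ⟨s₁, γ, d, d', hγ, hd, hd', h1, h2⟩ := m_act hC E hm
  intro y hy
  have h3 : emb f0 m = emb f0 (m * (ψ (pq s₁))⁻¹) * ((emb f0).comp (ψ.comp pq)) s₁ := by
    rw [MonoidHom.comp_apply, MonoidHom.comp_apply, ← map_mul, inv_mul_cancel_right]
  rw [h3, map_mul, Module.End.mul_apply]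
  refine E.W_ind (f := V k (emb f0 (m * (ψ (pq s₁))⁻¹))) (fun i s hi hs => ?_) _ (E.W_stab J s₁ y hy)
  rw [h1 i s hs]
  exact Submodule.smul_mem _ _ (E.mem_W hi _)

end Cfsg.Agent.R2.H9.E6.Gr
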