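import Mathlib
import Cfsg.Agent.R2.H9.E6.Fr8

/-!
# The final contradiction for `L(12) + L(8) + L(4)`, equal twists (helper9)

`false_of_EF` : the configuration is impossible if `V_k`, `V'_k` have frames of type `L(12) + L(8) + L(4)`.
-/

set_option autoImplicit false
set_option linter.unusedSectionVars false

namespace Cfsg.Agent.R2.H9.E6.Gr

open Cfsg Cfsg.Lie Module Matrix
open Cfsg.Agent.H943.SL2Rel Cfsg.Agent.H943.SL2Mod Cfsg.Agent.H943.RepAdd
open Cfsg.Agent.ChevalleyStructure Cfsg.Agent.ChevalleyStructure.E6Form.Cubic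
  Cfsg.Agent.ChevalleyStructure.E6Form.Table
open Cfsg.Agent.ChevalleyStructure.E6Min.Basic (Zgrp)
open Cfsg.Agent.H952.F4 (sh cr tf)
open Cfsg.Agent.H952.F4.Jord
open Cfsg.Agent.H163.E6 (V V')
open Cfsg.Agent.H163.E6.Act
open Cfsg.Agent.H65.E6Emb
open Cfsg.Agent.R2.GEO (crB crB_apply tfB tfB_apply gzHom gzHom_apply)
open Cfsg.Agent.R2.H9.E6 Cfsg.Agent.R2.H9.E6.Kb

universe u v w

variable {k : Type u} [Field k] [IsAlgClosed k] {K : Type w} [Field K] [Fintype K] [DecidableEq K]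
variable {F : Type v} [Field F] [Fintype F] {f0 : F →+* k}
variable {p a b : ℕ} {Γ M : Subgroup ↥(Zgrp F)} {ψ : ProjectiveSpecialLinearGroup (Fin 2) K →* ↥(Zgrp F)}
variable {τ : K →+* k} {v v' : Fin 3 → ℕ → (I27 → k)}

theorem V_mul_inv (g : ↥(Zgrp k)) (y : I27 → k) : V k g (V k g⁻¹ y) = y := by
  rw [← Module.End.mul_apply, ← map_mul, mul_inv_cancel, map_one, Module.End.one_apply]

theorem V'_inv_mul (g : ↥(Zgrp k)) (y : I27 → k) : V' k g⁻¹ (V' k g y) = y := by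
  rw [← Module.End.mul_apply, ← map_mul, inv_mul_cancel, map_one, Module.End.one_apply]

theorem EF.mem_W_of_co {R : SpecialLinearGroup (Fin 2) K →* ↥(Zgrp k)} (E : EF τ R v v') {J : Fin 3 → Prop} {y : I27 → k}
    (h : ∀ i, ¬ J i → ∀ s, s ≤ nn i → E.co i s y = 0) : y ∈ E.W J := by
  rw [← E.sum_co y]
  refine Submodule.sum_mem _ fun j _ => ?_
  by_cases hj : J j.1
  · exact Submodule.smul_mem _ _ (E.mem_W hj _)
  · rw [h j.1 hj j.2 (by omega), zero_smul]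
    exact Submodule.zero_mem _

/-- the rational element and its properties -/
structure Zdat (hC : Cfg p a b Γ M ψ) (E : EF τ ((emb f0).comp (ψ.comp pq)) v v') (b₀ : I27 → k) (z0 : ↥(Zgrp F))
    (lam : k) : Prop where
  hb : E.X b₀
  mem : z0 ∈ Γ
  ne : lam ≠ 0
  hz : ∀ y, V k (emb f0 z0) y = y + lam • Dop (v 0 12) b₀ y
  hz' : ∀ y, V' k (emb f0 z0) y = y - lam • Dop b₀ (v 0 12) y

section zd

variable {hC : Cfg p a b Γ M ψ} {E : EF τ ((emb f0).comp (ψ.comp pq)) v v'} {b₀ : I27 → k} {z0 : ↥(Zgrp F)} {lam : k}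

theorem Zdat.notMem (Z : Zdat hC E b₀ z0 lam) : z0 ∉ M := by
  intro hzM
  obtain ⟨W, hWdef⟩ : ∃ W, W = E.W (fun i => i = 2) := ⟨_, rfl⟩
  have hx2 : ∀ s, s ≤ nn 2 → Dop (v 0 12) b₀ (v 2 s) = 0 := by
    intro s hs
    have h0 : v 2 s ∈ E.W (fun i => i = 2) := E.mem_W (J := fun i => i = 2) (i := 2) rfl s
    have h1 := m_W hC E (fun i => i = 2) hzM (v 2 s) h0
    rw [Z.hz] at h1
    have h2 : lam • Dop (v 0 12) b₀ (v 2 s) ∈ E.W (fun i => i = 2) := by
      have := Submodule.sub_mem _ h1 h0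
      rwa [add_sub_cancel_left] at this
    have h3 : Dop (v 0 12) b₀ (v 2 s) ∈ E.W (fun i => i = 2) := by
      have := Submodule.smul_mem _ lam⁻¹ h2
      rwa [smul_smul, inv_mul_cancel₀ Z.ne, one_smul] at this
    refine E.ext fun i s' hs' => ?_
    rw [map_zero]
    by_cases hi : i = 2
    · refine E.co_wv (E.Dop_wv Z.hb.wb (E.wv hs)) ?_
      rw [hi] at hs' ⊢
      change s' ≤ 4 at hs'
      unfold wt
      rw [nn_two]
      omega
    · exact E.co_W (J := fun i => i = 2) hi s' h3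
  have hker : ∀ y ∈ W, Dop (v 0 12) b₀ y = 0 := by
    have h1 : W ≤ LinearMap.ker (Dop (v 0 12) b₀) := by
      rw [hWdef, EF.W, Submodule.span_le]
      rintro _ ⟨i, s, hi, rfl⟩
      rw [hi]
      rcases Nat.lt_or_ge (nn 2) s with h2 | h2
      · rw [(E.bs 2).zero s h2]
        exact Submodule.zero_mem _
      · exact hx2 s h2
    exact h1
  have hfix : ∀ y ∈ W, V k (emb f0 z0) y = y := by
    intro y hy
    rw [Z.hz, hker y hy, smul_zero, add_zero]
  have hfix' : ∀ y ∈ W, V k (emb f0 z0⁻¹) y = y := by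
    intro y hy
    have h1 := V_inv_apply (emb f0 z0) y
    rw [hfix y hy, ← map_inv] at h1
    exact h1
  have hWs : ∀ r : ProjectiveSpecialLinearGroup (Fin 2) K, ∀ y ∈ W, V k (emb f0 (ψ r)) y ∈ W := by
    intro r y hy
    obtain ⟨s, rfl⟩ := pq_surjective r
    rw [hWdef] at hy ⊢
    exact E.W_stab _ s y hy
  let N : Subgroup (ProjectiveSpecialLinearGroup (Fin 2) K) :=
    { carrier := {r | ∀ y ∈ W, V k (emb f0 (ψ r)) y = y}
      mul_mem' := by
        intro r r' hr hr' y hy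
        rw [map_mul, map_mul, map_mul, Module.End.mul_apply, hr' y hy, hr y hy]
      one_mem' := by
        intro y _
        rw [map_one, map_one, map_one, Module.End.one_apply]
      inv_mem' := by
        intro r hr y hy
        have h1 := V_inv_apply (emb f0 (ψ r)) y
        rw [hr y hy, ← map_inv, ← map_inv] at h1
        exact h1 }
  have hN : N.Normal := ⟨fun n hn g y hy => by
    rw [map_mul, map_mul, map_mul, map_mul, map_mul, map_mul, Module.End.mul_apply, Module.End.mul_apply,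
      hn _ (hWs g⁻¹ y hy), ← Module.End.mul_apply, ← map_mul, ← map_mul, ← map_mul, mul_inv_cancel, map_one, map_one,
      map_one, Module.End.one_apply]⟩
  have h7 := hC.seven
  have hsim := psl_simple (K := K) (by omega)
  have hNbot : N = ⊥ := by
    rcases hN.eq_bot_or_eq_top with h1 | h1
    · exact h1
    exfalso
    have h2 : pq (u 1) ∈ N := by rw [h1]; trivial
    have h3 := h2 (v 2 0) (by rw [hWdef]; exact E.mem_W (J := fun i => i = 2) (i := 2) rfl 0)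
    have h4 := E.ufix (y := v 2 0) h3 2 0 (by decide)
    rw [E.co_self (Nat.zero_le _)] at h4
    exact one_ne_zero h4
  obtain ⟨ac, hac, hac1, -⟩ := hC.set.act
  have h1 : ac ⟨z0, hzM⟩ = 1 := by
    refine MulEquiv.ext fun t => ?_
    have h2 : t⁻¹ * ac ⟨z0, hzM⟩ t ∈ N := by
      intro y hy
      have h3 : emb f0 (ψ (t⁻¹ * ac ⟨z0, hzM⟩ t)) = emb f0 (ψ t⁻¹) * (emb f0 z0 * (emb f0 (ψ t) * emb f0 z0⁻¹)) := by
        rw [map_mul, hac, ← map_mul, ← map_mul, ← map_mul, mul_assoc z0]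
      rw [h3, map_mul, map_mul, map_mul, Module.End.mul_apply, Module.End.mul_apply, Module.End.mul_apply, hfix' y hy,
        hfix _ (hWs t y hy), ← Module.End.mul_apply, ← map_mul, ← map_mul, ← map_mul, inv_mul_cancel, map_one, map_one,
        map_one, Module.End.one_apply]
    rw [hNbot, Subgroup.mem_bot, inv_mul_eq_one] at h2
    exact h2.symm
  have h2 := (hac1 ⟨z0, hzM⟩).1 h1
  have h3 : ∀ g : ↥(Zgrp F), g * z0 = z0 * g := fun g => Cfsg.Agent.H163.E6.Cov.ker_comm h2 g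
  have h4 : LinearMap.ker (Dop (v 0 12) b₀) = ⊥ ∨ LinearMap.ker (Dop (v 0 12) b₀) = ⊤ := by
    refine (hC.lie f0).irr fun g _ y hy => ?_
    rw [LinearMap.mem_ker] at hy ⊢
    have h5 : V k (emb f0 z0) (V k (emb f0 g) y) = V k (emb f0 g) y := by
      rw [← Module.End.mul_apply, ← map_mul, ← map_mul, ← h3, map_mul, map_mul, Module.End.mul_apply, Z.hz, hy, smul_zero,
        add_zero]
    rw [Z.hz, add_eq_left, smul_eq_zero] at h5
    exact h5.resolve_left Z.ne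
  obtain ⟨y, hy⟩ := Z.hb.ne
  rcases h4 with h4 | h4
  · apply hy
    have h5 : Dop (v 0 12) b₀ y ∈ LinearMap.ker (Dop (v 0 12) b₀) := E.Dop_sq Z.hb.wb y
    rwa [h4, Submodule.mem_bot] at h5
  · apply hy
    have h5 : y ∈ LinearMap.ker (Dop (v 0 12) b₀) := by rw [h4]; trivial
    exact h5

theorem Zdat.notStab (Z : Zdat hC E b₀ z0 lam) {J : Fin 3 → Prop} {i i' : Fin 3} (hi : J i) (hi' : ¬ J i') :
    ¬ ∀ j s, J j → s ≤ nn j → Dop (v 0 12) b₀ (v j s) ∈ E.W J := by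
  intro h
  have h1 := E.W_ind h
  let X : Subgroup ↥(Zgrp F) :=
    { carrier := {g | ∀ y ∈ E.W J, V k (emb f0 g) y ∈ E.W J}
      mul_mem' := by
        intro g g' hg hg' y hy
        rw [map_mul, map_mul, Module.End.mul_apply]
        exact hg _ (hg' _ hy)
      one_mem' := by
        intro y hy
        rw [map_one, map_one, Module.End.one_apply]
        exact hy
      inv_mem' := by
        intro g hg y hy
        rw [map_inv]
        exact inv_stab hg y hy }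
  have h2 : Γ ≤ X := hC.set.gen (X := X) (fun m hm => m_W hC E J hm) Z.mem Z.notMem (by
    intro y hy
    rw [Z.hz]
    exact Submodule.add_mem _ hy (Submodule.smul_mem _ _ (h1 y hy)))
  rcases (hC.lie f0).irr (W := E.W J) (fun g hg y hy => h2 hg y hy) with h3 | h3
  · exact E.W_ne_bot hi h3
  · exact E.W_ne_top hi' h3

theorem Zdat.c10 (Z : Zdat hC E b₀ z0 lam) : ∃ s s', s ≤ nn 0 ∧ s' ≤ nn 1 ∧ E.co 1 s' (Dop (v 0 12) b₀ (v 0 s)) ≠ 0 := by
  by_contra hcon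
  push Not at hcon
  refine Z.notStab (J := fun i => i ≠ 1) (i := 0) (i' := 1) (by decide) (by simp) fun j s hj hs => ?_
  refine E.mem_W_of_co fun i hi s' hs' => ?_
  obtain rfl : i = 1 := not_not.1 hi
  fin_cases j
  · exact hcon s s' hs hs'
  · exact absurd rfl hj
  · refine E.co_wv (E.Dop_wv Z.hb.wb (E.wv hs)) ?_
    change s' ≤ 8 at hs'
    change 2 * (s' : ℤ) - ((8 : ℕ) : ℤ) ≠ 2 * (s : ℤ) - ((4 : ℕ) : ℤ) + 14
    omega

theorem Zdat.c01 (Z : Zdat hC E b₀ z0 lam) : ∃ s s', s ≤ nn 1 ∧ s' ≤ nn 0 ∧ E.co 0 s' (Dop (v 0 12) b₀ (v 1 s)) ≠ 0 := by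
  by_contra hcon
  push Not at hcon
  refine Z.notStab (J := fun i => i = 1) (i := 1) (i' := 0) rfl (by decide) fun j s hj hs => ?_
  obtain rfl : j = 1 := hj
  refine E.mem_W_of_co fun i hi s' hs' => ?_
  fin_cases i
  · exact hcon s s' hs hs'
  · exact absurd rfl hi
  · refine E.co_wv (E.Dop_wv Z.hb.wb (E.wv hs)) ?_
    change s' ≤ 4 at hs'
    change 2 * (s' : ℤ) - ((4 : ℕ) : ℤ) ≠ 2 * (s : ℤ) - ((8 : ℕ) : ℤ) + 14
    omega

theorem Zdat.c20 (Z : Zdat hC E b₀ z0 lam) : ∃ s s', s ≤ nn 0 ∧ s' ≤ nn 2 ∧ E.co 2 s' (Dop (v 0 12) b₀ (v 0 s)) ≠ 0 := by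
  by_contra hcon
  push Not at hcon
  refine Z.notStab (J := fun i => i ≠ 2) (i := 0) (i' := 2) (by decide) (by simp) fun j s hj hs => ?_
  refine E.mem_W_of_co fun i hi s' hs' => ?_
  obtain rfl : i = 2 := not_not.1 hi
  fin_cases j
  · exact hcon s s' hs hs'
  · refine E.co_wv (E.Dop_wv Z.hb.wb (E.wv hs)) ?_
    change s' ≤ 4 at hs'
    change 2 * (s' : ℤ) - ((4 : ℕ) : ℤ) ≠ 2 * (s : ℤ) - ((8 : ℕ) : ℤ) + 14
    omega
  · exact absurd rfl hj

theorem Zdat.c02 (Z : Zdat hC E b₀ z0 lam) : ∃ s s', s ≤ nn 2 ∧ s' ≤ nn 0 ∧ E.co 0 s' (Dop (v 0 12) b₀ (v 2 s)) ≠ 0 := by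
  by_contra hcon
  push Not at hcon
  refine Z.notStab (J := fun i => i = 2) (i := 2) (i' := 0) rfl (by decide) fun j s hj hs => ?_
  obtain rfl : j = 2 := hj
  refine E.mem_W_of_co fun i hi s' hs' => ?_
  fin_cases i
  · exact hcon s s' hs hs'
  · refine E.co_wv (E.Dop_wv Z.hb.wb (E.wv hs)) ?_
    change s' ≤ 8 at hs'
    change 2 * (s' : ℤ) - ((8 : ℕ) : ℤ) ≠ 2 * (s : ℤ) - ((4 : ℕ) : ℤ) + 14
    omega
  · exact absurd rfl hi

/-- **`M` preserves the forms up to scalars** -/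
theorem Zdat.m_phi (Z : Zdat hC E b₀ z0 lam) (α : Fin 3 → k) {m : ↥(Zgrp F)} (hm : m ∈ M) :
    ∃ μ : k, ∀ y, E.phi α (V k (emb f0 m) y) = μ • V' k (emb f0 m) (E.phi α y) := by
  obtain ⟨s₁, γ, d, d', hγ, hd, hd', h1, h1'⟩ := m_act hC E hm
  obtain ⟨m₁, hm₁⟩ : ∃ m₁, m₁ = emb f0 (m * (ψ (pq s₁))⁻¹) := ⟨_, rfl⟩
  rw [← hm₁] at h1 h1'
  have hcmp : Cmp (RingHom.id k) (V k m₁) (V' k m₁) := ⟨fun x y => cr_act m₁ x y, fun x y => cr_act' m₁ x y, fun x y => tf_act m₁ x y⟩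
  have hinj : ∀ x, V k m₁ x = 0 → x = 0 := fun x hx => by
    rw [← V_inv_apply m₁ x, hx, map_zero]
  obtain ⟨κ, hκ, h2⟩ := EF.X.semi hcmp hinj hγ hd h1 h1' Z.hb Z.hb
  have hco : ∀ j s' y, s' ≤ nn j → E.co j s' (V k m₁ y) = (d j * γ ^ s') * E.co j s' y := by
    intro j s' y hs'
    have h3 : (E.co j s').comp (V k m₁) = (d j * γ ^ s') • E.co j s' := by
      refine E.hom_ext fun i s hs => ?_
      rw [LinearMap.comp_apply, h1 i s hs, map_smul, LinearMap.smul_apply, smul_eq_mul, smul_eq_mul]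
      by_cases hij : j = i ∧ s' = s
      · rw [hij.1, hij.2]
      · rw [E.co_ne (by tauto), mul_zero, mul_zero]
    exact LinearMap.congr_fun h3 y
  have key : ∀ i j s s', s ≤ nn i → s' ≤ nn j → E.co j s' (Dop (v 0 12) b₀ (v i s)) ≠ 0 →
      wt j s' = wt i s + 14 ∧ d j * γ ^ s' = κ * (d i * γ ^ s) := by
    intro i j s s' hs hs' hne
    constructor
    · by_contra hw
      exact hne (E.co_wv (E.Dop_wv Z.hb.wb (E.wv hs)) hw)
    · have h3 := congrArg (E.co j s') (h2 (v i s))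
      rw [hco j s' _ hs', h1 i s hs, map_smul, map_smul, map_smul, smul_eq_mul, smul_eq_mul, ← mul_assoc] at h3
      exact mul_right_cancel₀ hne h3
  have hsq1 : d 1 ^ 2 * γ ^ 8 = d 0 ^ 2 * γ ^ 12 := by
    obtain ⟨s, s', hs, hs', hne⟩ := Z.c10
    obtain ⟨hw, e1⟩ := key 0 1 s s' hs hs' hne
    obtain ⟨t, t', ht, ht', hne'⟩ := Z.c01
    obtain ⟨hw', e2⟩ := key 1 0 t t' ht ht' hne'
    change 2 * (s' : ℤ) - ((8 : ℕ) : ℤ) = 2 * (s : ℤ) - ((12 : ℕ) : ℤ) + 14 at hw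
    change 2 * (t' : ℤ) - ((12 : ℕ) : ℤ) = 2 * (t : ℤ) - ((8 : ℕ) : ℤ) + 14 at hw'
    obtain rfl : s' = s + 5 := by omega
    obtain rfl : t' = t + 9 := by omega
    have e1' : d 1 * γ ^ 5 = κ * d 0 := by
      apply mul_right_cancel₀ (pow_ne_zero s hγ)
      rw [mul_assoc, ← pow_add, add_comm 5 s, e1]
      ring
    have e2' : d 0 * γ ^ 9 = κ * d 1 := by
      apply mul_right_cancel₀ (pow_ne_zero t hγ)
      rw [mul_assoc, ← pow_add, add_comm 9 t, e2]
      ring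
    apply mul_left_cancel₀ hκ
    linear_combination (d 1 * γ ^ 3 * κ) * e1' - (d 0 * γ ^ 3 * κ) * e2'
  have hsq2 : d 2 ^ 2 * γ ^ 4 = d 0 ^ 2 * γ ^ 12 := by
    obtain ⟨s, s', hs, hs', hne⟩ := Z.c20
    obtain ⟨hw, e1⟩ := key 0 2 s s' hs hs' hne
    obtain ⟨t, t', ht, ht', hne'⟩ := Z.c02
    obtain ⟨hw', e2⟩ := key 2 0 t t' ht ht' hne'
    change 2 * (s' : ℤ) - ((4 : ℕ) : ℤ) = 2 * (s : ℤ) - ((12 : ℕ) : ℤ) + 14 at hw
    change 2 * (t' : ℤ) - ((12 : ℕ) : ℤ) = 2 * (t : ℤ) - ((4 : ℕ) : ℤ) + 14 at hw'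
    obtain rfl : s' = s + 3 := by omega
    obtain rfl : t' = t + 11 := by omega
    have e1' : d 2 * γ ^ 3 = κ * d 0 := by
      apply mul_right_cancel₀ (pow_ne_zero s hγ)
      rw [mul_assoc, ← pow_add, add_comm 3 s, e1]
      ring
    have e2' : d 0 * γ ^ 11 = κ * d 2 := by
      apply mul_right_cancel₀ (pow_ne_zero t hγ)
      rw [mul_assoc, ← pow_add, add_comm 11 t, e2]
      ring
    apply mul_left_cancel₀ hκ
    linear_combination (d 2 * γ * κ) * e1' - (d 0 * γ * κ) * e2'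
  have hsq : ∀ i, d i ^ 2 * γ ^ nn i = d 0 ^ 2 * γ ^ 12 := by
    intro i
    fin_cases i
    · rfl
    · exact hsq1
    · exact hsq2
  have hdd : ∀ i, d i * (d' i * γ ^ nn i) = 1 := by
    intro i
    have h3 := tf_act m₁ (v i 0) (v' i (nn i))
    rw [h1 i 0 (Nat.zero_le _), h1' i (nn i) le_rfl, tf_smul_left, tf_smul_right, pow_zero, mul_one, ← mul_assoc] at h3
    apply mul_right_cancel₀ (E.tf_ne0 i)
    rw [h3, one_mul]
  have h3 : ∀ y, E.phi α (V k m₁ y) = (d 0 ^ 2 * γ ^ 12) • V' k m₁ (E.phi α y) := by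
    intro y
    have h4 : (E.phi α).comp (V k m₁) = (d 0 ^ 2 * γ ^ 12) • (V' k m₁).comp (E.phi α) := by
      refine E.hom_ext fun i s hs => ?_
      rw [LinearMap.comp_apply, LinearMap.smul_apply, LinearMap.comp_apply, h1 i s hs, map_smul, E.phi_apply, map_smul,
        h1' i s hs, smul_smul, smul_smul, smul_smul]
      congr 1
      have h5 := hdd i
      rw [← hsq i]
      linear_combination (-(d i * γ ^ s * α i)) * h5
    exact LinearMap.congr_fun h4 y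
  refine ⟨d 0 ^ 2 * γ ^ 12, fun y => ?_⟩
  have h4 : emb f0 m = m₁ * ((emb f0).comp (ψ.comp pq)) s₁ := by
    rw [hm₁, MonoidHom.comp_apply, MonoidHom.comp_apply, ← map_mul, inv_mul_cancel_right]
  rw [h4, map_mul, map_mul, Module.End.mul_apply, Module.End.mul_apply, h3, E.phi_R]

end zd

/-- **equal twists** -/
theorem false_of_EF (hC : Cfg p a b Γ M ψ) (E : EF τ ((emb f0).comp (ψ.comp pq)) v v') : False := by
  have hp : p.Prime := hC.prime
  have hfp : Fact p.Prime := ⟨hp⟩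
  have hcF : CharP F p := hC.charF
  have hck : CharP k p := charP_of_injective_ringHom f0.injective p
  obtain ⟨b₀, hb⟩ := E.exists_X
  obtain ⟨z0, hz0, lam, hlam, hz, hz'⟩ := exists_z hC hb
  have Z : Zdat hC E b₀ z0 lam := ⟨hb, hz0, hlam, hz, hz'⟩
  -- choice of `α`
  obtain ⟨α, hα, h01, h02⟩ : ∃ α : Fin 3 → k, (∃ i, α i ≠ 0) ∧ E.S α b₀ (v 0 0) (v 1 3) = 0 ∧
      E.S α b₀ (v 0 0) (v 2 1) = 0 := by
    obtain ⟨A1, hA1⟩ : ∃ A1, A1 = tf (Dop (v 0 12) b₀ (v 0 0)) (v' 1 3) := ⟨_, rfl⟩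
    obtain ⟨B1, hB1⟩ : ∃ B1, B1 = tf (Dop (v 0 12) b₀ (v 1 3)) (v' 0 0) := ⟨_, rfl⟩
    obtain ⟨A2, hA2⟩ : ∃ A2, A2 = tf (Dop (v 0 12) b₀ (v 0 0)) (v' 2 1) := ⟨_, rfl⟩
    obtain ⟨B2, hB2⟩ : ∃ B2, B2 = tf (Dop (v 0 12) b₀ (v 2 1)) (v' 0 0) := ⟨_, rfl⟩
    have e1 : ∀ α : Fin 3 → k, E.S α b₀ (v 0 0) (v 1 3) = α 1 * A1 + α 0 * B1 := by
      intro α
      unfold EF.S
      rw [E.phi_symm α (v 0 0), E.phi_apply, E.phi_apply, tf_smul_right, tf_smul_right, hA1, hB1]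
    have e2 : ∀ α : Fin 3 → k, E.S α b₀ (v 0 0) (v 2 1) = α 2 * A2 + α 0 * B2 := by
      intro α
      unfold EF.S
      rw [E.phi_symm α (v 0 0), E.phi_apply, E.phi_apply, tf_smul_right, tf_smul_right, hA2, hB2]
    by_cases c1 : A1 = 0 ∧ B1 ≠ 0
    · refine ⟨![0, 1, 0], ⟨1, one_ne_zero⟩, ?_, ?_⟩
      · rw [e1, c1.1]
        show (1 : k) * 0 + 0 * B1 = 0
        ring
      · rw [e2]
        show (0 : k) * A2 + 0 * B2 = 0
        ring
    by_cases c2 : A2 = 0 ∧ B2 ≠ 0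
    · refine ⟨![0, 0, 1], ⟨2, one_ne_zero⟩, ?_, ?_⟩
      · rw [e1]
        show (0 : k) * A1 + 0 * B1 = 0
        ring
      · rw [e2, c2.1]
        show (1 : k) * 0 + 0 * B2 = 0
        ring
    refine ⟨![1, -(B1 * A1⁻¹), -(B2 * A2⁻¹)], ⟨0, one_ne_zero⟩, ?_, ?_⟩
    · rw [e1]
      show -(B1 * A1⁻¹) * A1 + 1 * B1 = 0
      by_cases hA : A1 = 0
      · have hB : B1 = 0 := by
          by_contra hB
          exact c1 ⟨hA, hB⟩
        rw [hB]
        ring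
      · rw [neg_mul, mul_assoc, inv_mul_cancel₀ hA]
        ring
    · rw [e2]
      show -(B2 * A2⁻¹) * A2 + 1 * B2 = 0
      by_cases hA : A2 = 0
      · have hB : B2 = 0 := by
          by_contra hB
          exact c2 ⟨hA, hB⟩
        rw [hB]
        ring
      · rw [neg_mul, mul_assoc, inv_mul_cancel₀ hA]
        ring
  have hphi0 : E.phi α ≠ 0 := by
    obtain ⟨i, hi⟩ := hα
    intro h0
    have h1 := E.phi_apply α i 0
    rw [h0, LinearMap.zero_apply] at h1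
    exact (smul_ne_zero hi (E.swap.top_ne (Nat.zero_le _))) h1.symm
  let X : Subgroup ↥(Zgrp F) :=
    { carrier := {g | ∃ c : k, ∀ y, E.phi α (V k (emb f0 g) y) = c • V' k (emb f0 g) (E.phi α y)}
      mul_mem' := by
        rintro g g' ⟨c, hc⟩ ⟨c', hc'⟩
        refine ⟨c * c', fun y => ?_⟩
        rw [map_mul, map_mul, map_mul, Module.End.mul_apply, Module.End.mul_apply, hc, hc', map_smul, smul_smul]
      one_mem' := ⟨1, fun y => by rw [map_one, map_one, map_one, Module.End.one_apply, Module.End.one_apply, one_smul]⟩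
      inv_mem' := by
        rintro g ⟨c, hc⟩
        have hc0 : c ≠ 0 := by
          rintro rfl
          apply hphi0
          refine LinearMap.ext fun y => ?_
          have h1 := hc (V k (emb f0 g)⁻¹ y)
          rw [V_mul_inv, zero_smul] at h1
          rw [h1, LinearMap.zero_apply]
        refine ⟨c⁻¹, fun y => ?_⟩
        have h1 := hc (V k (emb f0 g)⁻¹ y)
        rw [V_mul_inv] at h1
        rw [map_inv, h1, map_smul, V'_inv_mul, smul_smul, inv_mul_cancel₀ hc0, one_smul] }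
  have h1 : Γ ≤ X := hC.set.gen (X := X) (fun m hm => Z.m_phi α hm) hz0 Z.notMem ⟨1, fun y => by
    rw [hz, hz', map_add, map_smul, EF.skew hb α h01 h02, one_smul, smul_neg, ← sub_eq_add_neg]⟩
  exact hphi0 ((hC.lie f0).no_hom (p := p) fun g hg => h1 hg)

end Cfsg.Agent.R2.H9.E6.Gr
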