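import Mathlib
import Cfsg.Agent.R2.H9.E6.Fr9

/-!
# `V_k = L(12)^[i] + L(8)^[j] + L(4)^[l]`: the split case (helper9)

`boxE_split` : the configuration is impossible if `V_k`, `V'_k` are direct sums of submodules of type
`12 p^{t 0}`, `8 p^{t 1}`, `4 p^{t 2}`.
-/

set_option autoImplicit false
set_option linter.unusedSectionVars false

namespace Cfsg.Agent.R2.H9.E6.Gr

open Cfsg Cfsg.Lie Module Matrix
open Cfsg.Agent.H943.SL2Rel Cfsg.Agent.H943.SL2Mod Cfsg.Agent.H943.RepAdd Cfsg.Agent.R2.H28.SL2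
open Cfsg.Agent.ChevalleyStructure Cfsg.Agent.ChevalleyStructure.E6Form.Cubic
  Cfsg.Agent.ChevalleyStructure.E6Form.Table
open Cfsg.Agent.ChevalleyStructure.E6Min.Basic (Zgrp)
open Cfsg.Agent.H952.F4 (sh cr tf)
open Cfsg.Agent.H952.F4.Jord
open Cfsg.Agent.H163.E6 (V V')
open Cfsg.Agent.H163.E6.Act
open Cfsg.Agent.H65.E6Emb
open Cfsg.Agent.R2.GEO (crB crB_apply tfB tfB_apply gzHom gzHom_apply kr mem_kr finrank_kr_le)
open Cfsg.Agent.R2.H9.E6 Cfsg.Agent.R2.H9.E6.Kb

universe u v w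

section gen

variable {k : Type u} [Field k] {E : Type*} [AddCommGroup E] [Module k E]

theorem tri_span (T : E →ₗ[k] E →ₗ[k] E →ₗ[k] k) {S₁ S₂ S₃ : Set E} (h : ∀ x ∈ S₁, ∀ y ∈ S₂, ∀ z ∈ S₃, T x y z = 0) {x y z : E}
    (hx : x ∈ Submodule.span k S₁) (hy : y ∈ Submodule.span k S₂) (hz : z ∈ Submodule.span k S₃) : T x y z = 0 := by
  have h1 : ∀ x ∈ S₁, ∀ y ∈ S₂, T x y z = 0 := by
    intro x hx y hy
    have h2 : Submodule.span k S₃ ≤ LinearMap.ker (T x y) := by
      rw [Submodule.span_le]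
      exact fun z hz => h x hx y hy z hz
    exact h2 hz
  have h2 : ∀ x ∈ S₁, T x y z = 0 := by
    intro x hx
    have h2 : Submodule.span k S₂ ≤ LinearMap.ker ((T x).flip z) := by
      rw [Submodule.span_le]
      exact fun y hy => h1 x hx y hy
    exact h2 hy
  have h3 : Submodule.span k S₁ ≤ LinearMap.ker ((T.flip y).flip z) := by
    rw [Submodule.span_le]
    exact fun x hx => h2 x hx
  exact h3 hx

end gen

variable {k : Type u} [Field k] {K : Type w} [Field K] [Fintype K] [DecidableEq K] (ι : K →+* k)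
variable {p a : ℕ} [Fact p.Prime] [CharP k p] [CharP K p]

/-- `BasS` gives `Bs` for the twisted embedding -/
theorem bs_of_basS [ExpChar k p] {E : Type*} [AddCommGroup E] [Module k E] {ρ : Representation k (SpecialLinearGroup (Fin 2) K) E}
    {n i : ℕ} {v : ℕ → E} (h : BasS ι p ρ n i v) : Bs ((iterateFrobenius k p i).comp ι) ρ n v where
  zero := h.zero
  u s hs t := by
    rw [h.u s hs t]
    rfl
  h s hs a := by
    rw [h.h s hs a]
    rfl
  w := h.w

/-- bases of submodules -/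
theorem exists_bs [DecidableEq k] [ExpChar k p] {E : Type*} [AddCommGroup E] [Module k E]
    {ρ : Representation k (SpecialLinearGroup (Fin 2) K) E} {W : Submodule k E} {hW : ∀ g, ∀ x ∈ W, ρ g x ∈ W}
    {n i : ℕ} (hn : n < p) (h : IsV ι p (subRep ρ W hW) (n * p ^ i)) :
    ∃ v : ℕ → E, Bs ((iterateFrobenius k p i).comp ι) ρ n v ∧ W = Submodule.span k (Set.range fun s : Fin (n + 1) => v s) ∧
      Module.finrank k W = n + 1 ∧ LinearIndependent k fun s : Fin (n + 1) => v s := by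
  obtain ⟨v, hv⟩ := h.basS ι p hn
  have h1 := bs_of_basS ι hv
  refine ⟨fun s => (v s : E), ⟨fun s hs => ?_, fun s hs t => ?_, fun s hs a => ?_, fun s hs => ?_⟩, ?_, ?_,
    hv.li.map' W.subtype (LinearMap.ker_eq_bot.2 W.injective_subtype)⟩
  · rw [h1.zero s hs]
    rfl
  · have h2 := congrArg Subtype.val (h1.u s hs t)
    rw [Submodule.coe_sum] at h2
    exact h2
  · exact congrArg Subtype.val (h1.h s hs a)
  · exact congrArg Subtype.val (h1.w s hs)
  · have h2 : Submodule.span k (Set.range fun s : Fin (n + 1) => (v s : E)) =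
        (Submodule.span k (Set.range fun s : Fin (n + 1) => v s)).map W.subtype := by
      rw [Submodule.map_span, ← Set.range_comp]
      rfl
    rw [h2, top_le_iff.1 hv.sp, Submodule.map_top, Submodule.range_subtype]
  · rw [Module.finrank_eq_card_basis (Module.Basis.mk hv.li hv.sp), Fintype.card_fin]

theorem choose_pow_eq {n i m : ℕ} (hn : n < p) (h : ((n * p ^ i).choose m : k) ≠ 0) (hm : m ≤ n * p ^ i) :
    ∃ s ≤ n, m = s * p ^ i := by
  classical
  exact (mem_Bf_single (k := k) p hn i).1 (mem_Bf.2 ⟨hm, h⟩)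

theorem pow_ne_pow {s s' i j : ℕ} (hs : s < p) (hs' : s' < p) (hij : i ≠ j) (h : s * p ^ i = s' * p ^ j) : s = 0 := by
  have hp : p.Prime := Fact.out
  have key : ∀ {s s' i j : ℕ}, s < p → s' < p → i < j → s * p ^ i = s' * p ^ j → s = 0 := by
    intro s s' i j hs hs' hij h
    obtain ⟨d, rfl⟩ : ∃ d, j = i + (d + 1) := ⟨j - i - 1, by omega⟩
    have h1 : s = s' * p ^ (d + 1) := by
      apply Nat.eq_of_mul_eq_mul_right (Nat.pow_pos hp.pos : 0 < p ^ i)
      rw [h, pow_add]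
      ring
    rcases Nat.eq_zero_or_pos s' with h2 | h2
    · rw [h1, h2, zero_mul]
    · exfalso
      have h3 : p ≤ s' * p ^ (d + 1) := by
        calc p = 1 * p ^ 1 := by rw [pow_one, one_mul]
          _ ≤ s' * p ^ (d + 1) := Nat.mul_le_mul h2 (Nat.pow_le_pow_right hp.pos (by omega))
      omega
  rcases Nat.lt_or_gt_of_ne hij with h1 | h1
  · exact key hs hs' h1 h
  · have h2 := key hs' hs h1 h.symm
    rw [h2, zero_mul, Nat.mul_eq_zero] at h
    exact h.resolve_right (Nat.pow_pos hp.pos).ne'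

/-- the trilinear form vanishes if the third twist is different from the first two -/
theorem tri_twist [DecidableEq k] (hK : Fintype.card K = p ^ a) {E : Type*} [AddCommGroup E] [Module k E]
    {ρ : Representation k (SpecialLinearGroup (Fin 2) K) E}
    (T : E →ₗ[k] E →ₗ[k] E →ₗ[k] k) (hT : ∀ g x y z, T (ρ g x) (ρ g y) (ρ g z) = T x y z)
    {W₁ W₂ W₃ : Submodule k E} {h₁ : ∀ g, ∀ x ∈ W₁, ρ g x ∈ W₁} {h₂ : ∀ g, ∀ x ∈ W₂, ρ g x ∈ W₂}
    {h₃ : ∀ g, ∀ x ∈ W₃, ρ g x ∈ W₃} {n₁ n₂ n₃ i₁ i₂ i₃ : ℕ} (hn₁ : n₁ < p) (hn₂ : n₂ < p) (hn₃ : n₃ < p) (h0 : n₃ ≠ 0)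
    (v₁ : IsV ι p (subRep ρ W₁ h₁) (n₁ * p ^ i₁)) (v₂ : IsV ι p (subRep ρ W₂ h₂) (n₂ * p ^ i₂))
    (v₃ : IsV ι p (subRep ρ W₃ h₃) (n₃ * p ^ i₃)) (h13 : i₃ ≠ i₁) (h23 : i₃ ≠ i₂) {x y z : E} (hx : x ∈ W₁) (hy : y ∈ W₂)
    (hz : z ∈ W₃) : T x y z = 0 := by
  have hp : p.Prime := Fact.out
  have hlt : ∀ {W : Submodule k E} {hW : ∀ g, ∀ x ∈ W, ρ g x ∈ W} {b : ℕ}, IsV ι p (subRep ρ W hW) b → b < Fintype.card K := by
    intro W hW b h
    have h1 := h.choose
    have h2 := Fintype.one_lt_card (α := K)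
    omega
  obtain ⟨c₁, P₁, s₁, -⟩ := Tri.exists_pp_sub ι p v₁
  obtain ⟨c₂, P₂, s₂, -⟩ := Tri.exists_pp_sub ι p v₂
  obtain ⟨c₃, P₃, s₃, -⟩ := Tri.exists_pp_sub ι p v₃
  have h1 := Tri.tri_zero T hT P₁ P₂ P₃ (hlt v₁) (hlt v₂) (hlt v₃) (fun n hn c1 c2 hle c3 _ => by
    obtain ⟨s, hs, e⟩ := choose_pow_eq hn₃ c1 hn
    have hn2 : n ≤ n₂ * p ^ i₂ := by
      by_contra hcon
      exact c2 (by rw [Nat.choose_eq_zero_of_lt (by omega), Nat.cast_zero])
    obtain ⟨s', hs', e'⟩ := choose_pow_eq hn₂ c2 hn2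
    have hs0 := pow_ne_pow (p := p) (s := s) (s' := s') (by omega) (by omega) h23 (by rw [← e, ← e'])
    rw [hs0, zero_mul] at e
    rw [e, Nat.sub_zero] at c3 hle
    obtain ⟨s'', hs'', e''⟩ := choose_pow_eq hn₁ c3 hle
    exact h0 (pow_ne_pow (p := p) hn₃ (by omega) h13 e''))
  rw [← s₁] at hx
  rw [← s₂] at hy
  rw [← s₃] at hz
  refine tri_span T ?_ hx hy hz
  rintro _ ⟨m, rfl⟩ _ ⟨m', rfl⟩ _ ⟨m'', rfl⟩
  exact h1 m m' m''

section ne

variable [DecidableEq k] [ExpChar k p] {R : SpecialLinearGroup (Fin 2) K →* ↥(Zgrp k)} {t : Fin 3 → ℕ}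
  {X : Fin 3 → Submodule k (I27 → k)} {hX : ∀ i g, ∀ x ∈ X i, (V k).comp R g x ∈ X i}

theorem nn_lt (hp13 : 13 ≤ p) (i : Fin 3) : nn i < p := by
  have := nn_le i
  omega

/-- unequal twists -/
theorem false_of_ne (hK : Fintype.card K = p ^ a) (hp13 : 13 ≤ p) (ht : ∀ i, t i < a)
    (hv : ∀ i, IsV ι p (subRep ((V k).comp R) (X i) (hX i)) (nn i * p ^ t i)) (htop : ⨆ i, X i = ⊤) {l : Fin 3}
    (hl : ∀ i, i ≠ l → t i ≠ t l) : False := by
  have hp : p.Prime := Fact.out
  have hnn : ∀ i : Fin 3, nn i ≠ 0 := by decide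
  have htri : ∀ {i : Fin 3}, i ≠ l → ∀ {y x z : I27 → k}, y ∈ X l → x ∈ X i → T3 k y x z = 0 := by
    intro i hi y x z hy hx
    have h1 : (⊤ : Submodule k (I27 → k)) ≤ LinearMap.ker (T3 k y x) := by
      rw [← htop, iSup_le_iff]
      intro j z hz
      rw [LinearMap.mem_ker]
      by_cases hj : j = l
      · subst hj
        rw [T3_23]
        exact tri_twist ι hK (T3 k) (T3_inv R) (nn_lt hp13 j) (nn_lt hp13 j) (nn_lt hp13 i) (hnn i) (hv j) (hv j) (hv i) (hl i hi) (hl i hi)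
          hy hz hx
      · rw [T3_12, T3_23]
        exact tri_twist ι hK (T3 k) (T3_inv R) (nn_lt hp13 i) (nn_lt hp13 j) (nn_lt hp13 l) (hnn l) (hv i) (hv j) (hv l)
          (hl i hi).symm (hl j hj).symm hx hz hy
    exact h1 Submodule.mem_top
  have hkr : ∀ {i : Fin 3}, i ≠ l → ∀ {y : I27 → k}, y ∈ X l → X i ≤ kr y := by
    intro i hi y hy x hx
    rw [mem_kr]
    refine tf_nondeg fun z => ?_
    rw [← T3_apply]
    exact htri hi hy hx
  obtain ⟨v, B, hsp, hfr, hli⟩ := exists_bs ι (nn_lt hp13 l) (hv l)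
  have hy0 : v (nn l) ≠ 0 := hli.ne_zero (Fin.last (nn l))
  have hmem : ∀ s, v s ∈ X l := by
    intro s
    by_cases hs : s ≤ nn l
    · rw [hsp]
      exact Submodule.subset_span ⟨⟨s, by omega⟩, rfl⟩
    · rw [B.zero s (by omega)]
      exact Submodule.zero_mem _
  have h17 := finrank_kr_le hy0
  have htop2 : finrank k (⊤ : Submodule k (I27 → k)) = 27 := by
    rw [finrank_top, finrank_fintype_fun_eq_card]
    rfl
  by_cases hl0 : l = 0
  · subst hl0
    have ha2 : 2 ≤ a := by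
      have h0 := hl 1 (by decide)
      have h1 := ht 0
      have h2 := ht 1
      omega
    have hq : 169 ≤ Fintype.card K := by
      rw [hK]
      calc 169 = 13 ^ 2 := by norm_num
        _ ≤ p ^ 2 := Nat.pow_le_pow_left hp13 2
        _ ≤ p ^ a := Nat.pow_le_pow_right hp.pos ha2
    have h7 : ∀ s, 7 ≤ s → v s ∈ kr (v (nn 0)) := by
      intro s hs
      rw [mem_kr]
      refine tf_nondeg fun z => ?_
      rw [← T3_apply]
      have h1 : (⊤ : Submodule k (I27 → k)) ≤ LinearMap.ker (T3 k (v (nn 0)) (v s)) := by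
        rw [← htop, iSup_le_iff]
        intro j z hz
        rw [LinearMap.mem_ker]
        by_cases hj : j = 0
        · subst hj
          rw [hsp] at hz
          have h2 : Submodule.span k (Set.range fun s : Fin (nn 0 + 1) => v s) ≤ LinearMap.ker (T3 k (v (nn 0)) (v s)) := by
            rw [Submodule.span_le]
            rintro _ ⟨s', rfl⟩
            by_contra hcon
            have h3 := tri_torus (T3 k) (T3_inv R) B B B (s := nn 0) (s' := s) (s'' := s') hcon
            have h4 : nn 0 = 12 := rfl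
            have h5 := s'.2
            by_cases hs12 : s ≤ 12
            · have h6 : (2 * ((nn 0 : ℕ) + (s : ℤ) + ((s' : ℕ) : ℤ)) - ((nn 0 : ℕ) + (nn 0 : ℕ) + (nn 0 : ℕ)) : ℤ) = 0 := by
                apply Int.eq_zero_of_abs_lt_dvd h3
                rw [abs_lt]
                constructor <;> omega
              omega
            · apply hcon
              show T3 k (v (nn 0)) (v s) (v s') = 0
              rw [B.zero s (by omega), map_zero, LinearMap.zero_apply]
          exact h2 hz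
        · rw [T3_23]
          exact htri hj (hmem _) hz
      exact h1 Submodule.mem_top
    have hS : kr (v (nn 0)) ⊔ Submodule.span k (Set.range fun s : Fin 7 => v s) = ⊤ := by
      rw [eq_top_iff, ← htop, iSup_le_iff]
      intro i
      by_cases hi : i = 0
      · subst hi
        rw [hsp, Submodule.span_le]
        rintro _ ⟨s, rfl⟩
        rcases Nat.lt_or_ge (s : ℕ) 7 with h | h
        · exact Submodule.mem_sup_right (Submodule.subset_span ⟨⟨s, h⟩, rfl⟩)
        · exact Submodule.mem_sup_left (h7 s h)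
      · exact (hkr hi (hmem _)).trans le_sup_left
    have h1 := Submodule.finrank_add_le_finrank_add_finrank (kr (v (nn 0))) (Submodule.span k (Set.range fun s : Fin 7 => v s))
    have h2 := finrank_range_le_card (R := k) (fun s : Fin 7 => v s)
    rw [hS, htop2] at h1
    rw [Fintype.card_fin] at h2
    have h3 : finrank k (Submodule.span k (Set.range fun s : Fin 7 => v s)) ≤ 7 := h2
    omega
  · have hS : kr (v (nn l)) ⊔ X l = ⊤ := by
      rw [eq_top_iff, ← htop, iSup_le_iff]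
      intro i
      by_cases hi : i = l
      · rw [hi]
        exact le_sup_right
      · exact (hkr hi (hmem _)).trans le_sup_left
    have h1 := Submodule.finrank_add_le_finrank_add_finrank (kr (v (nn l))) (X l)
    rw [hS, htop2, hfr] at h1
    have h3 : ∀ l : Fin 3, l ≠ 0 → nn l ≤ 8 := by decide
    have h4 := h3 l hl0
    omega

end ne

section split

variable [IsAlgClosed k] {F : Type v} [Field F] [Fintype F] {f0 : F →+* k}
variable {b : ℕ} {Γ M : Subgroup ↥(Zgrp F)} {ψ : ProjectiveSpecialLinearGroup (Fin 2) K →* ↥(Zgrp F)}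

/-- **the split case** -/
theorem boxE_split [DecidableEq k] (hC : Cfg p a b Γ M ψ) (hp13 : 13 ≤ p) {t : Fin 3 → ℕ} (ht : ∀ i, t i < a)
    {X X' : Fin 3 → Submodule k (I27 → k)} {hX : ∀ i g, ∀ x ∈ X i, (V k).comp ((emb f0).comp (ψ.comp pq)) g x ∈ X i}
    {hX' : ∀ i g, ∀ x ∈ X' i, (V' k).comp ((emb f0).comp (ψ.comp pq)) g x ∈ X' i}
    (hv : ∀ i, IsV ι p (subRep ((V k).comp ((emb f0).comp (ψ.comp pq))) (X i) (hX i)) (nn i * p ^ t i))
    (hv' : ∀ i, IsV ι p (subRep ((V' k).comp ((emb f0).comp (ψ.comp pq))) (X' i) (hX' i)) (nn i * p ^ t i))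
    (htop : ⨆ i, X i = ⊤) (htop' : ⨆ i, X' i = ⊤) : False := by
  have hp : p.Prime := hC.prime
  have hexp : ExpChar k p := ExpChar.prime hp
  by_cases hne : ∃ l, ∀ i, i ≠ l → t i ≠ t l
  · obtain ⟨l, hl⟩ := hne
    exact false_of_ne ι hC.cardK hp13 ht hv htop hl
  · push Not at hne
    obtain ⟨i0, h0, e0⟩ := hne 0
    obtain ⟨i1, h1, e1⟩ := hne 1
    obtain ⟨i2, h2, e2⟩ := hne 2
    have ht1 : ∀ i, t i = t 0 := by
      intro i
      fin_cases i0 <;> fin_cases i1 <;> fin_cases i2 <;> fin_cases i <;> simp_all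
    have hsp : ∀ {v : Fin 3 → ℕ → (I27 → k)} {Y : Fin 3 → Submodule k (I27 → k)},
        (∀ i, Y i = Submodule.span k (Set.range fun s : Fin (nn i + 1) => v i s)) → ⨆ i, Y i = ⊤ →
        ⊤ ≤ Submodule.span k (Set.range fun j : Ix => v j.1 j.2) := by
      intro v Y hY htop
      rw [← htop, iSup_le_iff]
      intro i
      rw [hY, Submodule.span_le]
      rintro _ ⟨s, rfl⟩
      exact Submodule.subset_span ⟨⟨i, s⟩, rfl⟩
    choose v B hspan hfr hli using fun i => exists_bs ι (nn_lt hp13 i) (hv i)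
    choose v' B' hspan' hfr' hli' using fun i => exists_bs ι (nn_lt hp13 i) (hv' i)
    have E : EF ((iterateFrobenius k p (t 0)).comp ι) ((emb f0).comp (ψ.comp pq)) v v' := by
      refine ⟨fun j hj hj' h0 => ?_, ?_, fun i => ?_, fun i => ?_, hsp hspan htop, hsp hspan' htop'⟩
      · have h1 := (CharP.cast_eq_zero_iff k p j).1 h0
        have := Nat.le_of_dvd hj h1
        omega
      · rw [hC.cardK]
        calc 13 ≤ p := hp13
          _ = p ^ 1 := (pow_one p).symm
          _ ≤ p ^ a := Nat.pow_le_pow_right hp.pos hC.ha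
      · have := B i
        rw [ht1 i] at this
        exact this
      · have := B' i
        rw [ht1 i] at this
        exact this
    exact false_of_EF hC E

end split

end Cfsg.Agent.R2.H9.E6.Gr
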