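import Mathlib
import Cfsg.Agent.R2.H28.SL2.SplitE
import Cfsg.Agent.R2.H9.E6.EN
import Cfsg.Agent.R2.H9.E6.EU

/-!
# The box E : composition factors `12 p^i`, `8 p^j`, `4 p^l`, `p ≥ 13` (helper9)

* `split_both` : three factors, one of them in both socles, no extensions between the others;
* `Spl`, `spl` : the module is a direct sum;
* `boxE`.
-/

set_option autoImplicit false
set_option linter.unusedSectionVars false
set_option linter.unusedSimpArgs false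

namespace Cfsg.Agent.R2.H9.E6.Nsp

open Matrix Cfsg.Agent.H943.SL2Rel Cfsg.Agent.H943.SL2Mod Cfsg.Agent.H943.RepAdd
open Cfsg.Lie Cfsg.Agent.R2.H28.SL2 Cfsg.Agent.R2.H22.Loc
open Cfsg.Agent.ChevalleyStructure Cfsg.Agent.ChevalleyStructure.E6Form.Cubic
  Cfsg.Agent.ChevalleyStructure.E6Form.Table
open Cfsg.Agent.ChevalleyStructure.E6Min.Basic (Zgrp)
open Cfsg.Agent.H952.F4 (sh cr tf)
open Cfsg.Agent.H952.F4.Jord
open Cfsg.Agent.H163.E6 (V V')
open Cfsg.Agent.H65.E6Emb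
open Cfsg.Agent.R2.GEO (Pair crB crB_apply tfB tfB_apply)
open Cfsg.Agent.R2.SL2 (typ tyl coe_tyl typ_step typ_zero listE6 tyl_eq_nil mem_typ tyl_one tyl_two)

universe u v w

attribute [local irreducible] Cfsg.Agent.H952.F4.cr Cfsg.Agent.H952.F4.sh Cfsg.Agent.H952.F4.tf

section gen

variable {k : Type u} [Field k] [DecidableEq k] {F : Type w} [Field F] [Fintype F] [DecidableEq F] (ι : F →+* k)
variable (p : ℕ) [Fact p.Prime] [CharP k p] [CharP F p] [IsAlgClosed k]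

/-- three irreducible submodules spanning the module -/
def Spl {V : Type v} [AddCommGroup V] [Module k V] (ρ : Representation k (SpecialLinearGroup (Fin 2) F) V) (b c d : ℕ) :
    Prop :=
  ∃ (X : Submodule k V) (hX : ∀ g, ∀ x ∈ X, ρ g x ∈ X) (Y : Submodule k V) (hY : ∀ g, ∀ x ∈ Y, ρ g x ∈ Y)
    (Z : Submodule k V) (hZ : ∀ g, ∀ x ∈ Z, ρ g x ∈ Z), IsV ι p (subRep ρ X hX) b ∧ IsV ι p (subRep ρ Y hY) c ∧
      IsV ι p (subRep ρ Z hZ) d ∧ X ⊔ Y ⊔ Z = ⊤

variable {ι p} in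
theorem Spl.rot {V : Type v} [AddCommGroup V] [Module k V] {ρ : Representation k (SpecialLinearGroup (Fin 2) F) V}
    {b c d : ℕ} (h : Spl ι p ρ b c d) : Spl ι p ρ c d b := by
  obtain ⟨X, hX, Y, hY, Z, hZ, h1, h2, h3, h4⟩ := h
  exact ⟨Y, hY, Z, hZ, X, hX, h2, h3, h1, by rw [← h4, sup_assoc X Y Z, sup_comm X]⟩

variable {ι p} in
theorem Spl.flip {V : Type v} [AddCommGroup V] [Module k V] {ρ : Representation k (SpecialLinearGroup (Fin 2) F) V}
    {b c d : ℕ} (h : Spl ι p ρ b c d) : Spl ι p ρ c b d := by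
  obtain ⟨X, hX, Y, hY, Z, hZ, h1, h2, h3, h4⟩ := h
  exact ⟨Y, hY, X, hX, Z, hZ, h2, h1, h3, by rw [← h4, sup_comm Y X]⟩

/-- one factor in both socles -/
theorem split_both {V : Type v} [AddCommGroup V] [Module k V] [FiniteDimensional k V]
    {ρ : Representation k (SpecialLinearGroup (Fin 2) F) V} {V' : Type v} [AddCommGroup V'] [Module k V']
    [FiniteDimensional k V'] {ρ' : Representation k (SpecialLinearGroup (Fin 2) F) V'} {P : V →ₗ[k] V' →ₗ[k] k}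
    (D : Dul ρ ρ' P) {b c d : ℕ} (hbc : b ≠ c) (hbd : b ≠ d) (hcd : c ≠ d)
    (hcf : cf (Sy.{u, v, w} ι p) ρ = b ::ₘ c ::ₘ {d}) (hs : InSoc ι p ρ b) (hs' : InSoc ι p ρ' b)
    (hE : Ext0 (Sy.{u, v, w} ι p) c d ∧ Ext0 (Sy.{u, v, w} ι p) d c) : Spl ι p ρ b c d := by
  obtain ⟨X, hX, hb⟩ := hs
  have h1 : (cf (Sy.{u, v, w} ι p) ρ).count b = 1 := by
    rw [hcf, Multiset.count_cons_self, Multiset.count_eq_zero_of_notMem]
    simp only [Multiset.mem_cons, Multiset.mem_singleton]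
    tauto
  obtain ⟨Y, hY, hc, -⟩ := exists_compl_of_both ι p D hX hb hs' h1
  have hYcf : cf (Sy.{u, v, w} ι p) (subRep ρ Y hY) = c ::ₘ {d} := by
    have h2 := cf_sup (S := Sy.{u, v, w} ι p) hX hY hc
    rw [hcf, cf_irr (Sy.{u, v, w} ι p) hb, Multiset.singleton_add] at h2
    exact ((Multiset.cons_inj_right b).1 h2).symm
  obtain ⟨X1, X2, hX1, hX2, hc', hV1, hX2cf⟩ := split_one ι p (subRep ρ Y hY) (b := c) (by
      rw [hYcf, Multiset.count_cons_self, Multiset.count_eq_zero_of_notMem]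
      simp only [Multiset.mem_singleton]
      exact hcd)
    (fun e he hne => by
      rw [hYcf, Multiset.mem_cons, Multiset.mem_singleton] at he
      rcases he with h | h
      · exact absurd h hne
      · rw [h]
        exact ⟨hE.2, hE.1⟩)
  rw [hYcf, Multiset.erase_cons_head] at hX2cf
  have hV2 := isV_of_cf ι p hX2cf
  have key : ∀ (Z : Submodule k Y) (hZ : ∀ g, ∀ x ∈ Z, subRep ρ Y hY g x ∈ Z) (c : ℕ), IsV ι p (subRep (subRep ρ Y hY) Z hZ) c →
      ∃ hZ' : ∀ g, ∀ x ∈ Z.map Y.subtype, ρ g x ∈ Z.map Y.subtype, IsV ι p (subRep ρ (Z.map Y.subtype) hZ') c := by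
    intro Z hZ c hc
    obtain ⟨h1, e, he⟩ := eqv_map (subRep ρ Y hY) ρ Y.subtype (fun g x => rfl) Y.injective_subtype Z hZ
    exact ⟨h1, IsV.iso ι p e he hc⟩
  obtain ⟨hZ1, hW1⟩ := key X1 hX1 _ hV1
  obtain ⟨hZ2, hW2⟩ := key X2 hX2 _ hV2
  refine ⟨X, hX, _, hZ1, _, hZ2, hb, hW1, hW2, ?_⟩
  rw [sup_assoc, ← Submodule.map_sup, hc'.sup_eq_top, Submodule.map_top, Submodule.range_subtype, hc.sup_eq_top]

/-- if a factor splits off, the socle contains one of the others -/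
theorem soc_of_split {V : Type v} [AddCommGroup V] [Module k V] [FiniteDimensional k V]
    {ρ : Representation k (SpecialLinearGroup (Fin 2) F) V} {b c d : ℕ} (hbc : b ≠ c) (hbd : b ≠ d)
    (hcf : cf (Sy.{u, v, w} ι p) ρ = b ::ₘ c ::ₘ {d})
    (hE : ∀ e, e = c ∨ e = d → Ext0 (Sy.{u, v, w} ι p) e b ∧ Ext0 (Sy.{u, v, w} ι p) b e) :
    InSoc ι p ρ b ∧ (InSoc ι p ρ c ∨ InSoc ι p ρ d) := by
  obtain ⟨X, Y, hX, hY, hc, h1, h2⟩ := split_one ι p ρ (b := b) (by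
      rw [hcf, Multiset.count_cons_self, Multiset.count_eq_zero_of_notMem]
      simp only [Multiset.mem_cons, Multiset.mem_singleton]
      tauto) (fun e he hne => by
        rw [hcf, Multiset.mem_cons, Multiset.mem_cons, Multiset.mem_singleton] at he
        exact hE e (he.resolve_left hne))
  refine ⟨⟨X, hX, h1⟩, ?_⟩
  rw [hcf, Multiset.erase_cons_head] at h2
  have hY0 : Y ≠ ⊥ := by
    rintro rfl
    have h3 : cf (Sy.{u, v, w} ι p) (subRep ρ ⊥ hY) = 0 := cf_zero _ _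
    rw [h3] at h2
    exact absurd h2.symm (Multiset.cons_ne_zero)
  obtain ⟨e, he1, he2⟩ := exists_inSoc_sub ι p hY hY0
  have h4 := he1.mem_cf
  rw [h2, Multiset.mem_cons, Multiset.mem_singleton] at h4
  rcases h4 with rfl | rfl
  · exact Or.inl he2
  · exact Or.inr he2

end gen

section frame

variable {k : Type u} [Field k] [DecidableEq k] [IsAlgClosed k] {K : Type w} [Field K] [Fintype K] [DecidableEq K]
  {ι : K →+* k} {p a : ℕ} [Fact p.Prime] [CharP k p] [CharP K p]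
  {ψ : SpecialLinearGroup (Fin 2) K →* ↥(Zgrp k)} {ρ ρ' : Representation k ↥(Zgrp k) (I27 → k)}

theorem card_pairs : Fintype.card {q : Fin 5 × Fin 5 // q.1 ≤ q.2} = 15 := by decide

theorem finrank_sq_le {v : ℕ → I27 → k} (h0 : ∀ s, 4 < s → v s = 0) :
    Module.finrank k (Submodule.span k {z | ∃ x ∈ Set.range v, ∃ y ∈ Set.range v, z = cr x y}) ≤ 15 := by
  have h1 : Submodule.span k {z | ∃ x ∈ Set.range v, ∃ y ∈ Set.range v, z = cr x y} ≤
      Submodule.span k (Set.range fun q : {q : Fin 5 × Fin 5 // q.1 ≤ q.2} => cr (v q.1.1) (v q.1.2)) := by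
    rw [Submodule.span_le]
    rintro _ ⟨_, ⟨x, rfl⟩, _, ⟨y, rfl⟩, rfl⟩
    rcases lt_or_ge 4 x with hx | hx
    · rw [h0 x hx, Cfsg.Agent.R2.H22.Loc.cr_zero_left]
      exact Submodule.zero_mem _
    rcases lt_or_ge 4 y with hy | hy
    · rw [h0 y hy, Cfsg.Agent.R2.H22.Loc.cr_zero_right]
      exact Submodule.zero_mem _
    rcases le_total x y with h | h
    · exact Submodule.subset_span ⟨⟨(⟨x, by omega⟩, ⟨y, by omega⟩), h⟩, rfl⟩
    · rw [cr_comm]
      exact Submodule.subset_span ⟨⟨(⟨y, by omega⟩, ⟨x, by omega⟩), h⟩, rfl⟩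
  refine (Submodule.finrank_mono h1).trans ?_
  rw [← card_pairs]
  exact finrank_range_le_card (R := k) (fun q : {q : Fin 5 × Fin 5 // q.1 ≤ q.2} => cr (v q.1.1) (v q.1.2))

/-- `a = 1`, no extensions between 8 and 4 : `V_4` in the socle of `V` gives `V_8` in the socle of `V'` -/
theorem inSoc_eight (f : Fra p a ψ ρ ρ') (ha : a = 1) (h19 : 19 ≤ p) (nts : Nts ψ ρ) (nts' : Nts ψ ρ')
    (hcf : cf (Sy.{u, u, w} ι p) (Rr ρ ψ) = 12 ::ₘ 8 ::ₘ {4})
    (hE : Ext0 (Sy.{u, u, w} ι p) 8 4 ∧ Ext0 (Sy.{u, u, w} ι p) 4 8) (h4 : InSoc ι p (Rr ρ ψ) 4) : InSoc ι p (Rr ρ' ψ) 8 := by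
  have hp : p.Prime := Fact.out
  have hq : Fintype.card K = p := by rw [f.card, ha, pow_one]
  have h' : InSoc ι p (Rr ρ ψ) (4 * p ^ 0) := by rw [pow_zero, mul_one]; exact h4
  obtain ⟨v, c, hv⟩ := exists_ch (by omega : 4 < p) h'
  have hne := four_sh_ne f (by omega) (by omega) nts nts' c (hv 0 (by norm_num))
  have hW := cr_stab f c.stab
  obtain ⟨W, hWe⟩ : ∃ W, W = Submodule.span k {z | ∃ x ∈ Set.range v, ∃ y ∈ Set.range v, z = cr x y} := ⟨_, rfl⟩
  rw [← hWe] at hW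
  have hfr : Module.finrank k W ≤ 15 := by
    rw [hWe]
    exact finrank_sq_le c.zero
  have h44 : cr (v 4) (v 4) ∈ W := by
    rw [hWe]
    exact Submodule.subset_span ⟨v 4, ⟨4, rfl⟩, v 4, ⟨4, rfl⟩, rfl⟩
  have hcf' : cf (Sy.{u, u, w} ι p) (Rr ρ' ψ) = 12 ::ₘ 8 ::ₘ {4} := by rw [f.cf_eq ι, hcf]
  have hle := cf_sub_le (Sy.{u, u, w} ι p) (Rr ρ' ψ) W hW
  rw [hcf'] at hle
  have hmem : ∀ e ∈ cf (Sy.{u, u, w} ι p) (subRep (Rr ρ' ψ) W hW), e = 12 ∨ e = 8 ∨ e = 4 := by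
    intro e he
    have := Multiset.mem_of_le hle he
    simpa using this
  have h8 : 8 ∈ cf (Sy.{u, u, w} ι p) (subRep (Rr ρ' ψ) W hW) := by
    obtain ⟨b, hb, hb'⟩ := mem_cf_of_hw ι p (ρ := subRep (Rr ρ' ψ) W hW) (e := 8) (x := ⟨cr (v 4) (v 4), h44⟩)
      (fun h0 => hne (congrArg Subtype.val h0)) (fun t => Subtype.ext (by
        show ρ' (ψ (u t)) (cr (v 4) (v 4)) = cr (v 4) (v 4)
        rw [← pair_cr f.pair, (four_u c t).2.2.2.2])) (fun b => Subtype.ext (by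
        show ρ' (ψ (h b)) (cr (v 4) (v 4)) = ι b ^ 8 • cr (v 4) (v 4)
        have h1 := c.h 4 le_rfl b
        rw [Rr_apply] at h1
        rw [← pair_cr f.pair, h1, cr_smul_left, cr_smul_right, smul_smul]
        congr 1
        simp only [Nat.sub_self, pow_zero, mul_one, pow_one, ← pow_add]))
    have h1 : 8 % (Fintype.card K - 1) = 8 := Nat.mod_eq_of_lt (by omega)
    rw [h1] at hb'
    rcases hmem b hb with rfl | rfl | rfl
    · rw [Nat.mod_eq_of_lt (by omega)] at hb'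
      omega
    · exact hb
    · rw [Nat.mod_eq_of_lt (by omega)] at hb'
      omega
  have h12 : 12 ∉ cf (Sy.{u, u, w} ι p) (subRep (Rr ρ' ψ) W hW) := by
    intro h12
    have h1 := finrank_cf ι p _ W (subRep (Rr ρ' ψ) W hW) le_rfl
    obtain ⟨s, hs⟩ := Multiset.exists_cons_of_mem h12
    have h2 : 8 ∈ s := by
      rw [hs, Multiset.mem_cons] at h8
      exact h8.resolve_left (by norm_num)
    obtain ⟨s', hs'⟩ := Multiset.exists_cons_of_mem h2
    rw [hs, hs', Multiset.map_cons, Multiset.map_cons, Multiset.sum_cons, Multiset.sum_cons] at h1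
    have c12 : (Bf k 12).card = 13 := by
      have := card_Bf_low k p 12
      rw [Nat.mod_eq_of_lt (by omega), Nat.div_eq_of_lt (by omega), card_Bf_zero] at this
      exact this
    have c8 : (Bf k 8).card = 9 := by
      have := card_Bf_low k p 8
      rw [Nat.mod_eq_of_lt (by omega), Nat.div_eq_of_lt (by omega), card_Bf_zero] at this
      exact this
    rw [c12, c8] at h1
    omega
  obtain ⟨X, Y, hX, hY, -, h1, -⟩ := split_one ι p (subRep (Rr ρ' ψ) W hW) (b := 8) (by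
      have h1 := Multiset.count_le_of_le 8 hle
      have h2 := Multiset.one_le_count_iff_mem.2 h8
      simp at h1
      omega) (fun e he hne => by
        rcases hmem e he with rfl | rfl | rfl
        · exact absurd he h12
        · exact absurd rfl hne
        · exact ⟨hE.2, hE.1⟩)
  have h2 : InSoc ι p (subRep (Rr ρ' ψ) W hW) 8 := ⟨X, hX, h1⟩
  exact h2.iso ι p W.subtype (fun _ _ => rfl) W.injective_subtype

/-- `a = 1`, `p < 29` -/
theorem spl_one (f : Fra p a ψ ρ ρ') (ha : a = 1) (h13 : 13 ≤ p) (h29 : p < 29) (nts : Nts ψ ρ) (nts' : Nts ψ ρ')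
    (hcf : cf (Sy.{u, u, w} ι p) (Rr ρ ψ) = 12 ::ₘ 8 ::ₘ {4}) : Spl ι p (Rr ρ ψ) 12 8 4 := by
  have hp : p.Prime := Fact.out
  have hq : Fintype.card K = p := by rw [f.card, ha, pow_one]
  have hcf' : cf (Sy.{u, u, w} ι p) (Rr ρ' ψ) = 12 ::ₘ 8 ::ₘ {4} := by rw [f.cf_eq ι, hcf]
  have e1 : (12 ::ₘ 8 ::ₘ {4} : Multiset ℕ) = 4 ::ₘ 12 ::ₘ {8} := by decide
  have e2 : (12 ::ₘ 8 ::ₘ {4} : Multiset ℕ) = 8 ::ₘ 12 ::ₘ {4} := by decide
  have four : ∀ {ρ ρ' : Representation k ↥(Zgrp k) (I27 → k)}, Fra p a ψ ρ ρ' → Nts ψ ρ → Nts ψ ρ' →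
      InSoc ι p (Rr ρ ψ) 4 → InSoc ι p (Rr ρ' ψ) 4 := by
    intro ρ ρ' f nts nts' h
    have h1 := inSoc_four (i := 0) f (by omega) (by omega) (by omega) nts nts' (by omega) (by
      rw [pow_zero, mul_one]
      exact h)
    rwa [pow_zero, mul_one] at h1
  have hpc : p = 13 ∨ (p = 17 ∨ p = 19) ∨ p = 23 := by
    interval_cases p <;> first | omega | (norm_num at hp)
  rcases hpc with hp | hp | hp
  · -- `p = 13`
    obtain ⟨h12, h1⟩ := soc_of_split ι p (by norm_num) (by norm_num) hcf (fun e he => by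
      have h := ext0_13 ι p f.card ha hp he.symm
      exact ⟨h.2, h.1⟩)
    obtain ⟨-, h2⟩ := soc_of_split ι p (by norm_num) (by norm_num) hcf' (fun e he => by
      have h := ext0_13 ι p f.card ha hp he.symm
      exact ⟨h.2, h.1⟩)
    by_cases h4 : InSoc ι p (Rr ρ ψ) 4 ∨ InSoc ι p (Rr ρ' ψ) 4
    · have h5 : InSoc ι p (Rr ρ ψ) 4 ∧ InSoc ι p (Rr ρ' ψ) 4 := by
        rcases h4 with h4 | h4
        · exact ⟨h4, four f nts nts' h4⟩
        · exact ⟨four f.swap nts' nts h4, h4⟩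
      exact (split_both ι p f.dul (by norm_num) (by norm_num) (by norm_num) (hcf.trans e1) h5.1 h5.2
        (ext0_13 ι p f.card ha hp (Or.inr rfl))).rot
    · push Not at h4
      exact (split_both ι p f.dul (by norm_num) (by norm_num) (by norm_num) (hcf.trans e2) (h1.resolve_right h4.1)
        (h2.resolve_right h4.2) (ext0_13 ι p f.card ha hp (Or.inl rfl))).flip
  · -- `p = 17, 19`
    have E12 := ext0_17 ι p f.card ha hp
    have E84 := ext0_84 ι p f.card ha (by omega)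
    have hE : ∀ e, e = 12 ∨ e = 4 → Ext0 (Sy.{u, u, w} ι p) e 8 ∧ Ext0 (Sy.{u, u, w} ι p) 8 e := by
      rintro e (rfl | rfl)
      · exact E12
      · exact ⟨E84.2, E84.1⟩
    obtain ⟨-, h1⟩ := soc_of_split ι p (by norm_num) (by norm_num) (hcf.trans e2) hE
    obtain ⟨-, h2⟩ := soc_of_split ι p (by norm_num) (by norm_num) (hcf'.trans e2) hE
    by_cases h4 : InSoc ι p (Rr ρ ψ) 4 ∨ InSoc ι p (Rr ρ' ψ) 4
    · have h5 : InSoc ι p (Rr ρ ψ) 4 ∧ InSoc ι p (Rr ρ' ψ) 4 := by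
        rcases h4 with h4 | h4
        · exact ⟨h4, four f nts nts' h4⟩
        · exact ⟨four f.swap nts' nts h4, h4⟩
      exact (split_both ι p f.dul (by norm_num) (by norm_num) (by norm_num) (hcf.trans e1) h5.1 h5.2 E12).rot
    · push Not at h4
      exact split_both ι p f.dul (by norm_num) (by norm_num) (by norm_num) hcf (h1.resolve_right h4.1)
        (h2.resolve_right h4.2) E84
  · -- `p = 23`
    have E12 := ext0_23 ι p f.card ha hp
    have E84 := ext0_84 ι p f.card ha (by omega)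
    have hE : ∀ e, e = 12 ∨ e = 8 → Ext0 (Sy.{u, u, w} ι p) e 4 ∧ Ext0 (Sy.{u, u, w} ι p) 4 e := by
      rintro e (rfl | rfl)
      · exact E12
      · exact E84
    obtain ⟨h1, -⟩ := soc_of_split ι p (by norm_num) (by norm_num) (hcf.trans e1) hE
    obtain ⟨h2, -⟩ := soc_of_split ι p (by norm_num) (by norm_num) (hcf'.trans e1) hE
    have h3 := inSoc_eight f ha (by omega) nts nts' hcf E84 h1
    have h4 := inSoc_eight f.swap ha (by omega) nts' nts hcf' E84 h2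
    exact (split_both ι p f.dul (by norm_num) (by norm_num) (by norm_num) (hcf.trans e2) h4 h3 E12).flip

/-- **the module splits** -/
theorem spl (f : Fra p a ψ ρ ρ') (h13 : 13 ≤ p) (nts : Nts ψ ρ) (nts' : Nts ψ ρ') {t : Fin 3 → ℕ} (ht : ∀ i, t i < a)
    (hcf : cf (Sy.{u, u, w} ι p) (Rr ρ ψ) = 12 * p ^ t 0 ::ₘ 8 * p ^ t 1 ::ₘ {4 * p ^ t 2}) :
    Spl ι p (Rr ρ ψ) (12 * p ^ t 0) (8 * p ^ t 1) (4 * p ^ t 2) := by
  by_cases h : 2 ≤ a ∨ 29 ≤ p
  · obtain ⟨X, hX, hV, hc, -⟩ := splitE ι p f.card h13 h (Rr ρ ψ) ht hcf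
    exact ⟨X 0, hX 0, X 1, hX 1, X 2, hX 2, hV 0, hV 1, hV 2, by rw [sup_assoc]; exact hc.sup_eq_top⟩
  · have ha : a = 1 := by
      have := ht 0
      omega
    have ht0 : ∀ i, t i = 0 := fun i => by
      have := ht i
      omega
    rw [ht0, ht0, ht0, pow_zero, mul_one, mul_one, mul_one] at hcf ⊢
    exact spl_one f ha h13 (by omega) nts nts' hcf

end frame

section box

variable {k : Type u} [Field k] [DecidableEq k] [IsAlgClosed k] {K : Type w} [Field K] [Fintype K] [DecidableEq K]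
  {ι : K →+* k} {p a b : ℕ} [Fact p.Prime] [CharP k p] [CharP K p] {F : Type v} [Field F] [Fintype F] {f0 : F →+* k}
  {Γ M : Subgroup ↥(Zgrp F)} {ψ : ProjectiveSpecialLinearGroup (Fin 2) K →* ↥(Zgrp F)}

theorem Spl.fam {V : Type v} [AddCommGroup V] [Module k V] {ρ : Representation k (SpecialLinearGroup (Fin 2) K) V}
    {t : Fin 3 → ℕ} (h : Spl ι p ρ (12 * p ^ t 0) (8 * p ^ t 1) (4 * p ^ t 2)) :
    ∃ (X : Fin 3 → Submodule k V) (hX : ∀ i g, ∀ x ∈ X i, ρ g x ∈ X i),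
      (∀ i, IsV ι p (subRep ρ (X i) (hX i)) (Gr.nn i * p ^ t i)) ∧ ⨆ i, X i = ⊤ := by
  obtain ⟨X, hX, Y, hY, Z, hZ, h1, h2, h3, h4⟩ := h
  refine ⟨![X, Y, Z], ?_, ?_, ?_⟩
  · intro i
    fin_cases i
    · exact hX
    · exact hY
    · exact hZ
  · intro i
    fin_cases i
    · exact h1
    · exact h2
    · exact h3
  · rw [eq_top_iff, ← h4]
    exact sup_le (sup_le (le_iSup ![X, Y, Z] 0) (le_iSup ![X, Y, Z] 1)) (le_iSup ![X, Y, Z] 2)

/-- **box E**, labels -/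
theorem boxE' (hC : Cfg p a b Γ M ψ) (f : Fra p a ((emb f0).comp (ψ.comp pq)) (V k) (V' k)) (h13 : 13 ≤ p)
    (nts : Nts ((emb f0).comp (ψ.comp pq)) (V k)) (nts' : Nts ((emb f0).comp (ψ.comp pq)) (V' k))
    {t : Fin 3 → ℕ} (ht : ∀ i, t i < a)
    (hcf : cf (Sy.{u, u, w} ι p) (Rr (V k) ((emb f0).comp (ψ.comp pq))) =
      12 * p ^ t 0 ::ₘ 8 * p ^ t 1 ::ₘ {4 * p ^ t 2}) : False := by
  obtain ⟨X, hX, hV, htop⟩ := (spl f h13 nts nts' ht hcf).fam
  obtain ⟨X', hX', hV', htop'⟩ := (spl f.swap h13 nts' nts ht (by rw [f.cf_eq ι, hcf])).fam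
  exact Gr.boxE_split ι hC h13 ht hV hV' htop htop'

/-- **box E** -/
theorem boxE (hC : Cfg p a b Γ M ψ) (f : Fra p a ((emb f0).comp (ψ.comp pq)) (V k) (V' k)) (h13 : 13 ≤ p)
    (nts : Nts ((emb f0).comp (ψ.comp pq)) (V k)) (nts' : Nts ((emb f0).comp (ψ.comp pq)) (V' k))
    (hw : (([[4], [8], [12]] : List (List ℕ)) : Multiset (List ℕ)) =
      (cf (Sy.{u, u, w} ι p) (Rr (V k) ((emb f0).comp (ψ.comp pq)))).map (tyl p)) : False := by
  have hlt := cf_lt ι p f.card (Rr (V k) ((emb f0).comp (ψ.comp pq)))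
  obtain ⟨S, hS⟩ : ∃ S, S = cf (Sy.{u, u, w} ι p) (Rr (V k) ((emb f0).comp (ψ.comp pq))) := ⟨_, rfl⟩
  rw [← hS] at hw hlt
  obtain ⟨x, hx, hx'⟩ : ∃ x ∈ S, tyl p x = [12] := by
    have : [12] ∈ S.map (tyl p) := by
      rw [← hw]
      decide
    obtain ⟨x, hx, e⟩ := Multiset.mem_map.1 this
    exact ⟨x, hx, e⟩
  obtain ⟨S1, hS1⟩ := Multiset.exists_cons_of_mem hx
  have e1 : (([[4], [8], [12]] : List (List ℕ)) : Multiset (List ℕ)) = [12] ::ₘ [8] ::ₘ {[4]} := by decide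
  rw [hS1, Multiset.map_cons, hx', e1] at hw
  have hw1 := (Multiset.cons_inj_right _).1 hw
  obtain ⟨y, hy, hy'⟩ : ∃ y ∈ S1, tyl p y = [8] := by
    have : [8] ∈ S1.map (tyl p) := by
      rw [← hw1]
      exact Multiset.mem_cons_self _ _
    obtain ⟨x, hx, e⟩ := Multiset.mem_map.1 this
    exact ⟨x, hx, e⟩
  obtain ⟨S2, hS2⟩ := Multiset.exists_cons_of_mem hy
  rw [hS2, Multiset.map_cons, hy'] at hw1
  have hw2 := (Multiset.cons_inj_right _).1 hw1
  obtain ⟨z, hz, hz'⟩ := Multiset.map_eq_singleton.1 hw2.symm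
  subst hz
  have mx : x ∈ S := hx
  have my : y ∈ S := by
    rw [hS1]
    exact Multiset.mem_cons_of_mem hy
  have mz : z ∈ S := by
    rw [hS1, hS2]
    simp
  obtain ⟨i, hi, rfl⟩ := tyl_single_inv hx' (hlt _ mx) (by norm_num)
  obtain ⟨j, hj, rfl⟩ := tyl_single_inv hy' (hlt _ my) (by norm_num)
  obtain ⟨l, hl, rfl⟩ := tyl_single_inv hz' (hlt _ mz) (by norm_num)
  refine boxE' hC f h13 nts nts' (t := ![i, j, l]) (fun s => ?_) (ι := ι) ?_
  · fin_cases s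
    · exact hi
    · exact hj
    · exact hl
  · rw [← hS, hS1, hS2]
    rfl

end box

end Cfsg.Agent.R2.H9.E6.Nsp
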