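import Mathlib
import Cfsg.Agent.R2.H9.E6.Max
import Cfsg.Agent.R2.H9.E6.LiftP
import Cfsg.Agent.H163.E6.Sit
import Cfsg.Agent.H927.E6Cnt

/-!
# S5749, S5750: the uniform situation for `E₆(q)` and `²E₆(q)` (helper9)

`Setup Γ M ψ` : everything takes place in the simply connected group `Zgrp F` (27-dimensional matrices);
`Γ` is the whole group (`E₆(q)`, `F = F_q`) or the group of fixed points of the Steinberg endomorphism (`²E₆(q)`,
`F = F_{q²}`), `M` is the preimage of the maximal subgroup, `ψ : A →* Zgrp F` is the lift of the simple group `A`.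

* `Setup.of_e6` : `E₆(q)` (see `SetupTw.lean` for `²E₆(q)`).
-/

set_option autoImplicit false

namespace Cfsg.Agent.R2.H9.E6

open Cfsg Cfsg.Lie Module
open Cfsg.Agent.ChevalleyStructure.E6Min.Basic Cfsg.Agent.ChevalleyStructure.E6Min.Adjoint
open Cfsg.Agent.H163.E6

universe u v

/-- the uniform situation -/
structure Setup {F : Type u} [Field F] (Γ M : Subgroup ↥(Zgrp F)) {A : Type v} [Group A] (ψ : A →* ↥(Zgrp F)) :
    Prop where
  hle : M ≤ Γ
  ne : M ≠ Γ
  max : ∀ X : Subgroup ↥(Zgrp F), M ≤ X → X ≤ Γ → X = M ∨ X = Γ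
  ker : ∀ z ∈ Γ, ad F z = 1 → z ∈ M
  inj : Function.Injective ψ
  perf : commutator A = ⊤
  le : ψ.range ≤ M
  /-- the maximal subgroup acts on `A`; the kernel is the centre -/
  act : ∃ ι : ↥M →* MulAut A, (∀ (h : ↥M) (a : A), ψ (ι h a) = (h : ↥(Zgrp F)) * ψ a * (h : ↥(Zgrp F))⁻¹) ∧
    (∀ h : ↥M, ι h = 1 ↔ ad F h = 1) ∧ ∀ (a : A) (ha : ψ a ∈ M), ι ⟨ψ a, ha⟩ = MulAut.conj a
  /-- the centralizer of `A` in `Γ` is the centre -/
  cent : ∀ z ∈ Γ, (∀ a, ψ a * z = z * ψ a) → ad F z = 1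
  /-- no one-parameter group `1 + t a` commutes with `A` -/
  no_add : ∀ a : (I27 → F) →ₗ[F] (I27 → F), a ≠ 0 → (∀ x, a (a x) = 0) →
    (∀ t : F, ∃ g : ↥(Zgrp F), (∀ x, V F g x = x + t • a x) ∧ ∀ b, ψ b * g = g * ψ b) → False
  /-- `V` and `V'` are irreducible for `Γ` -/
  irr : ∀ ρ : Representation F ↥(Zgrp F) (I27 → F), (ρ = V F ∨ ρ = V' F) → ∀ W : Submodule F (I27 → F),
    (∀ g ∈ Γ, ∀ w ∈ W, ρ g w ∈ W) → W = ⊥ ∨ W = ⊤

section lift

variable {F : Type u} [Field F] {A : Type v} [Group A]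

/-- lifts of perfect groups are unique -/
theorem lift_unique (hA : commutator A = ⊤) {ψ ψ' : A →* ↥(Zgrp F)} (h : ∀ a, ad F (ψ a) = ad F (ψ' a)) : ψ = ψ' := by
  have hz : ∀ a, ∀ g, g * ((ψ a)⁻¹ * ψ' a) = (ψ a)⁻¹ * ψ' a * g := fun a g =>
    Cov.ker_comm (by rw [map_mul, map_inv, h, inv_mul_cancel]) g
  let θ : A →* ↥(Zgrp F) := MonoidHom.mk' (fun a => (ψ a)⁻¹ * ψ' a) (by
    intro a b
    rw [map_mul, map_mul, mul_inv_rev]
    calc (ψ b)⁻¹ * (ψ a)⁻¹ * (ψ' a * ψ' b) = (ψ b)⁻¹ * ((ψ a)⁻¹ * ψ' a) * ψ' b := by group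
      _ = (ψ a)⁻¹ * ψ' a * (ψ b)⁻¹ * ψ' b := by rw [hz a]
      _ = _ := mul_assoc _ _ _)
  have hθ : ∀ a, θ a = (ψ a)⁻¹ * ψ' a := fun a => rfl
  have h1 : ∀ a, θ a = 1 := by
    intro a
    have h2 : commutator A ≤ θ.ker := by
      rw [commutator_def, Subgroup.commutator_le]
      intro x _ y _
      rw [MonoidHom.mem_ker, map_commutatorElement, commutatorElement_eq_one_iff_mul_comm, hθ, hθ]
      exact hz y _
    exact h2 (hA ▸ Subgroup.mem_top a)
  ext1 a
  have h2 := h1 a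
  rw [hθ, inv_mul_eq_one] at h2
  exact h2

theorem conj_lift (hA : commutator A = ⊤) {ψ : A →* ↥(Zgrp F)} (h : ↥(Zgrp F)) (α : MulAut A)
    (hα : ∀ a, ad F (ψ (α a)) = ad F h * ad F (ψ a) * (ad F h)⁻¹) (a : A) : ψ (α a) = h * ψ a * h⁻¹ := by
  have h1 := lift_unique hA (ψ := ψ.comp α.toMonoidHom) (ψ' := (MulAut.conj h).toMonoidHom.comp ψ) (by
    intro a
    show ad F (ψ (α a)) = ad F (h * ψ a * h⁻¹)
    rw [hα, map_mul, map_mul, map_inv])
  exact DFunLike.congr_fun h1 a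

end lift

/-- **`E₆(q)`** -/
theorem Setup.of_e6 {F : Type u} [Field F] [Finite F] {A : Type v} [Group A] {H : Subgroup ↥(chevE6.group F)}
    {φ : A →* ↥(chevE6.group F)} (hM : MaxSimp H φ) (hA : commutator A = ⊤) {ψ : A →* ↥(Zgrp F)} (hψ : Lift φ ψ) :
    Setup ⊤ (H.comap (ad F)) ψ where
  hle := le_top
  ne h := by
    apply hM.coatom.1
    rw [eq_top_iff]
    intro y _
    obtain ⟨g, rfl⟩ := ad_surjective y
    have : g ∈ H.comap (ad F) := by rw [h]; trivial
    exact this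
  max X h1 _ := by
    have hker : ∀ z, ad F z = 1 → z ∈ X := fun z hz => h1 (by rw [Subgroup.mem_comap, hz]; exact one_mem _)
    have h2 : H ≤ X.map (ad F) := by
      intro y hy
      obtain ⟨g, rfl⟩ := ad_surjective y
      exact ⟨g, h1 hy, rfl⟩
    rcases eq_or_lt_of_le h2 with h3 | h3
    · left
      refine le_antisymm (fun g hg => ?_) h1
      rw [Subgroup.mem_comap, h3]
      exact ⟨g, hg, rfl⟩
    · right
      have h4 : X.map (ad F) = ⊤ := hM.coatom.2 _ h3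
      rw [eq_top_iff]
      intro g _
      have h5 : ad F g ∈ X.map (ad F) := by rw [h4]; trivial
      obtain ⟨x, hx, hxg⟩ := h5
      have h6 : x⁻¹ * g ∈ X := hker _ (by rw [map_mul, map_inv, hxg, inv_mul_cancel])
      have h7 := mul_mem hx h6
      rwa [mul_inv_cancel_left] at h7
  ker z _ hz := by rw [Subgroup.mem_comap, hz]; exact one_mem _
  inj a b hab := hM.inj (by rw [← hψ, ← hψ, hab])
  perf := hA
  le := by
    rintro _ ⟨a, rfl⟩
    rw [Subgroup.mem_comap, hψ]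
    exact hM.le ⟨a, rfl⟩
  act := by
    obtain ⟨ι, hι, hιφ, hιc⟩ := hM.act
    refine ⟨ι.comp ((ad F).subgroupComap H), ?_, ?_, ?_⟩
    · intro h a
      refine conj_lift hA _ _ (fun a => ?_) a
      rw [hψ, hψ]
      exact hιφ _ a
    · intro h
      constructor
      · intro h1
        have h2 : (ad F).subgroupComap H h = 1 := hι (by rw [map_one]; exact h1)
        exact congrArg Subtype.val h2
      · intro h1
        have h2 : (ad F).subgroupComap H h = 1 := Subtype.ext h1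
        rw [MonoidHom.comp_apply, h2, map_one]
    · intro a ha
      have h1 : (ad F).subgroupComap H ⟨ψ a, ha⟩ = ⟨φ a, hM.le ⟨a, rfl⟩⟩ := Subtype.ext (hψ a)
      rw [MonoidHom.comp_apply, h1, hιc]
  cent z _ hz := hM.cent _ fun a => by rw [← hψ, ← map_mul, ← map_mul, hz]
  no_add a ha h2 h := by
    obtain ⟨g, hg, hgc⟩ := h 1
    have h1 : ad F g = 1 := hM.cent _ fun b => by rw [← hψ, ← map_mul, ← map_mul, hgc]
    obtain ⟨d, -, -, hd⟩ := Cnt.ker_scalar (Or.inl rfl : V F = V F ∨ V F = V' F) h1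
    apply ha
    have h3 : ∀ x, a x = (d - 1) • x := by
      intro x
      have h4 := hg x
      rw [hd, one_smul] at h4
      rw [sub_smul, one_smul, h4]
      abel
    have h5 : d - 1 = 0 := by
      have h6 := h2 (Pi.single 0 1)
      rw [h3, h3, smul_smul] at h6
      have h7 := congrFun h6 0
      simp only [Pi.smul_apply, Pi.single_eq_same, smul_eq_mul, mul_one, Pi.zero_apply] at h7
      exact mul_self_eq_zero.1 h7
    apply LinearMap.ext
    intro x
    rw [h3, h5, zero_smul, LinearMap.zero_apply]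
  irr ρ hρ W hW := by
    by_cases h0 : W = ⊥
    · exact Or.inl h0
    · right
      rcases hρ with rfl | rfl
      · exact Cnt.irred (fun g w hw => hW g trivial w hw) h0
      · exact Cnt.irred' (fun g w hw => hW g trivial w hw) h0

end Cfsg.Agent.R2.H9.E6
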